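import Cfsg.Agent.H730.OZ.Known_m3
import Cfsg.Agent.H530.OZ.Geo
import Cfsg.Agent.H530.OZ.RowF_m3
import Cfsg.Agent.S0293
import Cfsg.Agent.H494.F22.Lin_m3
import Cfsg.Agent.StandardComponent.FiRedVec_mg_m3
import Cfsg.Agent.H852.QA.O8Model
import Cfsg.Agent.H121.OZ.JTwoCls_m3
import Cfsg.Agent.H730.OZ.Asm
import Cfsg.Agent.H849.OZ.Bad_m3
import Cfsg.Agent.Nodes.WittInst
import Cfsg.Agent.S0296
import Cfsg.Agent.H329.O8Facts
import Cfsg.Agent.H695.OneZero.RankOne_m3
import Cfsg.Agent.H964.Opm.Lv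
import Cfsg.Agent.TitsThree.KSideO
import Cfsg.Agent.H985.VZ.Cells_m3
import Cfsg.Agent.H701.ZerosCols
import Cfsg.Agent.H30.OZ.HeDat_m3
import Cfsg.Agent.H30.OZ.HeMin
import Cfsg.Agent.HN.CentUp
import Cfsg.Agent.HN.Central
import Mathlib
import Cfsg.Agent.CpAutHN.Second
import Cfsg.Agent.KFacts.HN.PCard
import Cfsg.Agent.S1701
import Cfsg.Agent.H315.PwHN
import Cfsg.Agent.H904.HSIso
import Cfsg.Agent.H922.Ore.HSFinal_m3
import Cfsg.Agent.Schreier.He_m3
import Cfsg.Agent.SmallSimple.SylowPrimeCount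
import Cfsg.Agent.Co2Type.Mono
import Cfsg.Agent.MonsterU.CoFrameL2
import Cfsg.Agent.SporadicStructure.Co0Matrix
import Cfsg.Agent.CpAutBig.FixCount
import Cfsg.Agent.H153.ZerosMono
import Cfsg.Agent.H345.RecCo2
import Cfsg.Agent.H604.Cop.Conway
import Cfsg.Agent.H633.Dl.Co2Seven
import Cfsg.Agent.H296.Fr.RowRu
import Cfsg.Agent.H480.SporRu
import Cfsg.Agent.H153.Dl.B24.D
import Cfsg.Agent.H256.Sep.FiData
import Cfsg.Agent.H968.Tor.FiFour
import Cfsg.Agent.FastGrp
import Cfsg.Agent.Prune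
set_option linter.all false

section
prune_inst 0x7fdca8f8a8a891dedfff7e3da680cdfc10800fffa4df2943ffe0419f0bdf030009c1f38509e010fc0e02401410a87843f97eceffe26bd87ffffd1ff41ffbee0fa5e7b008119488340f302ffe03f0678e6f3fffffffffffffffffffffffffffbeffbdfbfeffff

-- part: H128/OZ/PlusFin_mg
section
prune_inst 0x230103505060002000004000060001eb38b00000000088000008602000680ac0000000820b0000108082200040030004811000000020000000a000000011d04810000040080080000800018000000010000000000000000000000000000000000204010000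
set_option linter.all false
open scoped Cfsg.Agent.FastGrp

-- part: H5/OZ/LocAt
section
/-!
# S4842: `LocAt p r G` (Sylow `r`-subgroups of order `r²`) and its transport (helper5)
-/

set_option autoImplicit false

namespace Cfsg.Agent.H5.OZ

open Cfsg Cfsg.Agent.H730.OZ Cfsg.Agent.H732.VZ

universe u v

/-- Sylow `r`-subgroups of order `r²`, no `p`-element in their centralizer, two unrelated elements of order `r`, each
commuting with a nontrivial `r'`-element. -/
def LocAt (p r : ℕ) (G : Type u) [Group G] : Prop :=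
  ∃ (R : Subgroup G) (y₁ k₁ y₂ k₂ : G), Nat.card R = r ^ 2 ∧ ¬ r ^ 3 ∣ Nat.card G ∧
    (∀ u : G, (∀ x ∈ R, x * u = u * x) → (∃ k : ℕ, orderOf u = p ^ k) → u = 1) ∧
    orderOf y₁ = r ∧ orderOf y₂ = r ∧ Commute y₁ k₁ ∧ Commute y₂ k₂ ∧ k₁ ≠ 1 ∧ k₂ ≠ 1 ∧
    ¬ r ∣ orderOf k₁ ∧ ¬ r ∣ orderOf k₂ ∧ ∀ n : ℕ, ¬ IsConj y₂ (y₁ ^ n)

theorem LocAt.of_equiv {p r : ℕ} {G : Type u} {H : Type v} [Group G] [Group H] (e : G ≃* H) (h : LocAt p r G) :
    LocAt p r H := by
  obtain ⟨R, y₁, k₁, y₂, k₂, h1, h2, h3, h4, h5, h6, h7, h8, h9, h10, h11, h12⟩ := h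
  have ord : ∀ g : G, orderOf (e g) = orderOf g := fun g => MulEquiv.orderOf_eq e g
  refine ⟨R.map e.toMonoidHom, e y₁, e k₁, e y₂, e k₂, ?_, ?_, ?_, ?_, ?_, h6.map e, h7.map e, ?_, ?_, ?_, ?_, ?_⟩
  · rw [← h1]
    exact (Nat.card_congr (Subgroup.equivMapOfInjective _ e.toMonoidHom e.injective).toEquiv).symm
  · rwa [← Nat.card_congr e.toEquiv]
  · intro u hu hk
    obtain ⟨u, rfl⟩ := e.surjective u
    rw [h3 u (fun x hx => ?_) (by obtain ⟨k, hk⟩ := hk; exact ⟨k, by rw [← ord, hk]⟩), map_one]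
    have := hu (e x) ⟨x, hx, rfl⟩
    rw [← map_mul, ← map_mul] at this
    exact e.injective this
  · rw [ord, h4]
  · rw [ord, h5]
  · rwa [Ne, EmbeddingLike.map_eq_one_iff]
  · rwa [Ne, EmbeddingLike.map_eq_one_iff]
  · rwa [ord]
  · rwa [ord]
  · intro n hn
    apply h12 n
    rw [← map_pow] at hn
    obtain ⟨c, hc⟩ := isConj_iff.1 hn
    obtain ⟨c, rfl⟩ := e.surjective c
    refine isConj_iff.2 ⟨c, e.injective ?_⟩
    rw [map_mul, map_mul, map_inv]
    exact hc

/-- the `r`-part of `y k` -/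
theorem isPPart_mul {G : Type u} [Group G] {r : ℕ} {y k : G} (hy : orderOf y = r) (hc : Commute y k)
    (hk : ¬ r ∣ orderOf k) : IsPPart r (y * k) y := ⟨k, rfl, hc, ⟨1, by rw [hy, pow_one]⟩, hk⟩

theorem LocAt.cong {p r : ℕ} {G : Type u} [Group G] [Finite G] (hr : r.Prime) (h : LocAt p r G) : Cong p r 0 G := by
  classical
  have hrf : Fact r.Prime := ⟨hr⟩
  obtain ⟨R₀, y₁, k₁, y₂, k₂, h1, h2, h3, h4, h5, h6, h7, h8, h9, h10, h11, h12⟩ := h
  have hfac : (Nat.card G).factorization r = 2 := by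
    apply le_antisymm
    · by_contra hcon
      exact h2 ((hr.pow_dvd_iff_le_factorization Nat.card_pos.ne').2 (by omega))
    · rw [← hr.pow_dvd_iff_le_factorization Nat.card_pos.ne', ← h1]
      exact Subgroup.card_subgroup_dvd_card R₀
  let S₀ : Sylow r G := Sylow.ofCard R₀ (by rw [h1, hfac])
  have hS₀ : (S₀ : Subgroup G) = R₀ := Sylow.coe_ofCard R₀ _
  refine cong_loc hr (fun R u hu hup => ?_) fun D hD hDR => ?_
  · -- centralizer of a Sylow subgroup
    obtain ⟨t, ht⟩ := MulAction.exists_smul_eq G S₀ R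
    have h13 : t⁻¹ * u * t = 1 := by
      refine h3 _ (fun x hx => ?_) ?_
      · have hx' : t * x * t⁻¹ ∈ (R : Subgroup G) := by
          rw [← ht, Sylow.smul_def]
          exact ⟨x, by rw [hS₀]; exact hx, rfl⟩
        have h14 := Subgroup.mem_centralizer_iff.1 hu _ hx'
        calc x * (t⁻¹ * u * t) = t⁻¹ * (t * x * t⁻¹ * u) * t := by group
          _ = t⁻¹ * (u * (t * x * t⁻¹)) * t := by rw [h14]
          _ = t⁻¹ * u * t * x := by group
      · obtain ⟨k, hk⟩ := hup
        refine ⟨k, ?_⟩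
        rw [← hk]
        have := MulEquiv.orderOf_eq (MulAut.conj t⁻¹) u
        rwa [MulAut.conj_apply, inv_inv] at this
    have : u = t * (t⁻¹ * u * t) * t⁻¹ := by group
    rw [this, h13]
    group
  · -- two classes
    have hcard : Nat.card D = 1 ∨ Nat.card D = r := by
      obtain ⟨j, hj⟩ := IsPGroup.iff_card.1 hD
      have hj2 : j ≤ 2 := by
        rw [← hfac, ← hr.pow_dvd_iff_le_factorization Nat.card_pos.ne', ← hj]
        exact Subgroup.card_subgroup_dvd_card D
      interval_cases j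
      · left; rw [hj, pow_zero]
      · right; rw [hj, pow_one]
      · exfalso
        have h14 : Nat.card D = r ^ (Nat.card G).factorization r := by rw [hj, hfac]
        exact hDR (Sylow.ofCard D h14) (Sylow.coe_ofCard D h14)
    have key : ∀ {y k : G}, orderOf y = r → Commute y k → k ≠ 1 → ¬ r ∣ orderOf k → (∀ t : G, t * y * t⁻¹ ∉ D) →
        ∃ g g' y y' : G, IsPPart r g y ∧ IsPPart r g' y' ∧ ¬ IsConj g g' ∧ (∀ t : G, t * y * t⁻¹ ∉ D) ∧
          (∀ t : G, t * y' * t⁻¹ ∉ D) := by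
      intro y k hy hc hk1 hk hD'
      have hone : ¬ r ∣ orderOf (1 : G) := by
        rw [orderOf_one]
        intro h
        exact hr.one_lt.ne' (Nat.dvd_one.1 h)
      refine ⟨y * 1, y * k, y, y, isPPart_mul hy (Commute.one_right y) hone, isPPart_mul hy hc hk, fun hconj => ?_,
        hD', hD'⟩
      have h13 := H604.OZ.orderOf_eq_of_conj hconj
      rw [mul_one, hy, hc.orderOf_mul_eq_mul_orderOf_of_coprime (by
        rw [hy]; exact (Nat.Prime.coprime_iff_not_dvd hr).2 hk), hy] at h13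
      have h14 : orderOf k = 1 := by
        have := hr.pos
        exact Nat.eq_of_mul_eq_mul_left this (by rw [mul_one]; exact h13.symm)
      exact hk1 (orderOf_eq_one_iff.1 h14)
    by_cases hc1 : ∀ t : G, t * y₁ * t⁻¹ ∉ D
    · exact key h4 h6 h8 h10 hc1
    by_cases hc2 : ∀ t : G, t * y₂ * t⁻¹ ∉ D
    · exact key h5 h7 h9 h11 hc2
    exfalso
    push Not at hc1 hc2
    obtain ⟨t₁, ht₁⟩ := hc1
    obtain ⟨t₂, ht₂⟩ := hc2
    have hord : ∀ t y : G, orderOf (t * y * t⁻¹) = orderOf y := fun t y => by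
      rw [← MulAut.conj_apply, MulEquiv.orderOf_eq]
    have hDr : Nat.card D = r := by
      rcases hcard with h | h
      · exfalso
        have := orderOf_dvd_natCard (⟨_, ht₁⟩ : D)
        rw [Subgroup.orderOf_mk, hord, h4, h] at this
        exact hr.one_lt.ne' (Nat.dvd_one.1 this)
      · exact h
    have hz : Subgroup.zpowers (t₁ * y₁ * t₁⁻¹) = D := by
      refine Subgroup.eq_of_le_of_card_ge ?_ ?_
      · rwa [Subgroup.zpowers_le]
      · rw [Nat.card_zpowers, hord, h4, hDr]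
    rw [← hz] at ht₂
    obtain ⟨n, hn⟩ := (Submonoid.mem_powers_iff _ _).1 ((mem_powers_iff_mem_zpowers).2 ht₂)
    apply h12 n
    refine isConj_iff.2 ⟨t₁⁻¹ * t₂, ?_⟩
    rw [conj_pow] at hn
    calc t₁⁻¹ * t₂ * y₂ * (t₁⁻¹ * t₂)⁻¹ = t₁⁻¹ * (t₂ * y₂ * t₂⁻¹) * t₁ := by group
      _ = t₁⁻¹ * (t₁ * y₁ ^ n * t₁⁻¹) * t₁ := by rw [hn]
      _ = y₁ ^ n := by group

end Cfsg.Agent.H5.OZ
end

-- part: H5/OZ/Twelve
section
/-!
# S4842: `POmega⁺_12 (2)`, the prime 7 (helper5)
-/

set_option autoImplicit false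

namespace Cfsg.Agent.H5.OZ

open Module QuadraticMap Cfsg Cfsg.Agent.H730.OZ
open Cfsg.Agent.LieClassical.OrthCore Cfsg.Agent.LieClassical.OrthTrans Cfsg.Agent.H890.SpParity
open Cfsg.Agent.LieClassical.OrthFinite Cfsg.Agent.LieClassical.OrthForms
open Cfsg.Agent.H182.Sign Cfsg.Agent.H182.Orth Cfsg.Agent.H530.CJ Cfsg.Agent.H93.CJ Cfsg.Agent.H93.PReg
open Cfsg.Agent.H530.OZ

universe u

/-- odd order elements -/
theorem odd_mem {F : Type} [Field F] [Finite F] {V : Type} [AddCommGroup V] [Module F V] [Finite V]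
    {Q : QuadraticForm F V} (hG : Good Q) {t : V ≃ₗ[F] V} (ht : t ∈ O Q) {r : ℕ} (hr : Odd r)
    (h : t ^ r = 1) : t ∈ E Q := by
  obtain ⟨m, hm⟩ := hr
  have h1 : t = t ^ (m + 1) * t ^ (m + 1) := by
    rw [← pow_add, show m + 1 + (m + 1) = r + 1 by omega, pow_succ, h, one_mul]
  rw [h1]
  exact Cfsg.Agent.ETable.Orth.sq_mem_E hG ((O Q).pow_mem ht _)

section model

variable (F : Type) [Field F] {K : Type} [Field K] [Algebra F K]

theorem dw_mul (s t : Kˣ) : (dw (s * t) : (K × K) ≃ₗ[F] (K × K)) = dw s * dw t := by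
  refine LinearEquiv.ext fun p => Prod.ext ?_ ?_
  · show ((s * t : Kˣ) : K) * p.1 = s * (t * p.1)
    rw [Units.val_mul, mul_assoc]
  · show (((s * t)⁻¹ : Kˣ) : K) * p.2 = ((s⁻¹ : Kˣ) : K) * (((t⁻¹ : Kˣ) : K) * p.2)
    rw [mul_inv, Units.val_mul, mul_assoc]

theorem dw_one : (dw (1 : Kˣ) : (K × K) ≃ₗ[F] (K × K)) = 1 := by
  refine LinearEquiv.ext fun p => ?_
  rw [dw_apply, inv_one, Units.val_one, one_mul, one_mul]
  rfl

/-- the torus -/
noncomputable def ph : Kˣ × Kˣ →* (((K × K) × (K × K)) ≃ₗ[F] ((K × K) × (K × K))) where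
  toFun x := (dw x.1).prodCongr (dw x.2)
  map_one' := by
    refine LinearEquiv.ext fun p => Prod.ext ?_ ?_
    · exact LinearEquiv.congr_fun (dw_one F) p.1
    · exact LinearEquiv.congr_fun (dw_one F) p.2
  map_mul' x y := by
    refine LinearEquiv.ext fun p => Prod.ext ?_ ?_
    · exact LinearEquiv.congr_fun (dw_mul F x.1 y.1) p.1
    · exact LinearEquiv.congr_fun (dw_mul F x.2 y.2) p.2

theorem ph_apply (x : Kˣ × Kˣ) (p : (K × K) × (K × K)) : ph F x p = (dw (F := F) x.1 p.1, dw (F := F) x.2 p.2) := rfl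

theorem ph_mem_O [Finite F] [Finite K] (x : Kˣ × Kˣ) : ph F x ∈ O (prodForm (tq F K) (tq F K)) := by
  intro p
  rw [ph_apply, prodForm_apply, prodForm_apply, dw_mem_O, dw_mem_O]

theorem ph_inj : Function.Injective (ph F : Kˣ × Kˣ →* _) := by
  rw [injective_iff_map_eq_one]
  intro x hx
  have h1 := LinearEquiv.congr_fun hx ((1, 0), (1, 0))
  have e1 : (x.1 : K) * 1 = 1 := congrArg (fun v => v.1.1) h1
  have e2 : (x.2 : K) * 1 = 1 := congrArg (fun v => v.2.1) h1
  rw [mul_one] at e1 e2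
  exact Prod.ext (Units.ext e1) (Units.ext e2)

/-- an element of order 3 commuting with the `ph (s, s)` -/
def kk [CharP K 2] : ((K × K) × (K × K)) ≃ₗ[F] ((K × K) × (K × K)) where
  toFun v := ((v.2.1, v.1.2 + v.2.2), (v.1.1 + v.2.1, v.1.2))
  map_add' v w := by
    refine Prod.ext (Prod.ext rfl ?_) (Prod.ext ?_ rfl)
    · show v.1.2 + w.1.2 + (v.2.2 + w.2.2) = v.1.2 + v.2.2 + (w.1.2 + w.2.2)
      ring
    · show v.1.1 + w.1.1 + (v.2.1 + w.2.1) = v.1.1 + v.2.1 + (w.1.1 + w.2.1)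
      ring
  map_smul' c v := by
    refine Prod.ext (Prod.ext rfl ?_) (Prod.ext ?_ rfl)
    · exact (smul_add c v.1.2 v.2.2).symm
    · exact (smul_add c v.1.1 v.2.1).symm
  invFun v := ((v.1.1 + v.2.1, v.2.2), (v.1.1, v.1.2 + v.2.2))
  left_inv v := by
    have h2 : (2 : K) = 0 := CharP.cast_eq_zero K 2
    refine Prod.ext (Prod.ext ?_ rfl) (Prod.ext rfl ?_)
    · show v.2.1 + (v.1.1 + v.2.1) = v.1.1
      linear_combination v.2.1 * h2
    · show v.1.2 + v.2.2 + v.1.2 = v.2.2
      linear_combination v.1.2 * h2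
  right_inv v := by
    have h2 : (2 : K) = 0 := CharP.cast_eq_zero K 2
    refine Prod.ext (Prod.ext rfl ?_) (Prod.ext ?_ rfl)
    · show v.2.2 + (v.1.2 + v.2.2) = v.1.2
      linear_combination v.2.2 * h2
    · show v.1.1 + v.2.1 + v.1.1 = v.2.1
      linear_combination v.1.1 * h2

theorem kk_apply [CharP K 2] (v : (K × K) × (K × K)) :
    kk F v = ((v.2.1, v.1.2 + v.2.2), (v.1.1 + v.2.1, v.1.2)) := rfl

theorem kk_mem_O [Finite F] [Finite K] [CharP K 2] : kk F ∈ O (prodForm (tq F K) (tq F K)) := by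
  intro v
  have h2 : (2 : K) = 0 := CharP.cast_eq_zero K 2
  rw [kk_apply, prodForm_apply, prodForm_apply, tq_apply, tq_apply, tq_apply, tq_apply, ← map_add, ← map_add]
  congr 1
  show v.2.1 * (v.1.2 + v.2.2) + (v.1.1 + v.2.1) * v.1.2 = v.1.1 * v.1.2 + v.2.1 * v.2.2
  linear_combination v.2.1 * v.1.2 * h2

theorem kk_pow [CharP K 2] : (kk F : ((K × K) × (K × K)) ≃ₗ[F] _) ^ 3 = 1 := by
  refine LinearEquiv.ext fun v => ?_
  have h2 : (2 : K) = 0 := CharP.cast_eq_zero K 2
  rw [pow_succ, pow_two, LinearEquiv.mul_apply, LinearEquiv.mul_apply]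
  simp only [kk_apply]
  refine Prod.ext (Prod.ext ?_ ?_) (Prod.ext ?_ ?_)
  · show _ = v.1.1
    linear_combination v.2.1 * h2
  · show _ = v.1.2
    linear_combination (v.1.2 + v.2.2) * h2
  · show _ = v.2.1
    linear_combination (v.1.1 + v.2.1) * h2
  · show _ = v.2.2
    linear_combination v.1.2 * h2

theorem kk_ne [CharP K 2] : (kk F : ((K × K) × (K × K)) ≃ₗ[F] _) ≠ 1 := by
  intro h
  have h1 := LinearEquiv.congr_fun h ((1, 0), (0, 0))
  rw [kk_apply] at h1
  have h2 : (0 : K) = 1 := congrArg (fun v => v.1.1) h1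
  exact zero_ne_one h2

theorem kk_comm [CharP K 2] (s : Kˣ) : Commute (ph F (s, s)) (kk F) := by
  refine LinearEquiv.ext fun v => ?_
  rw [LinearEquiv.mul_apply, LinearEquiv.mul_apply, kk_apply, ph_apply, ph_apply, kk_apply, dw_apply, dw_apply,
    dw_apply, dw_apply]
  refine Prod.ext (Prod.ext rfl ?_) (Prod.ext ?_ rfl)
  · show ((s⁻¹ : Kˣ) : K) * (v.1.2 + v.2.2) = _
    ring
  · show (s : K) * (v.1.1 + v.2.1) = _
    ring

/-- an automorphism of the field on the second summand -/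
noncomputable def fr (σ : K ≃ₐ[F] K) : ((K × K) × (K × K)) ≃ₗ[F] ((K × K) × (K × K)) :=
  (LinearEquiv.refl F (K × K)).prodCongr (σ.toLinearEquiv.prodCongr σ.toLinearEquiv)

theorem fr_apply (σ : K ≃ₐ[F] K) (v : (K × K) × (K × K)) : fr F σ v = (v.1, (σ v.2.1, σ v.2.2)) := rfl

theorem fr_mem_O [Finite F] [Finite K] (σ : K ≃ₐ[F] K) : fr F σ ∈ O (prodForm (tq F K) (tq F K)) := by
  intro v
  rw [fr_apply, prodForm_apply, prodForm_apply]
  congr 1
  rw [tq_apply, tq_apply]
  show Algebra.trace F K (σ v.2.1 * σ v.2.2) = _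
  rw [← map_mul]
  exact Algebra.trace_eq_of_algEquiv σ _

theorem fr_pow (σ : K ≃ₐ[F] K) (n : ℕ) : fr F σ ^ n = fr F (σ ^ n) := by
  induction n with
  | zero => rw [pow_zero, pow_zero]; rfl
  | succ n ih => rw [pow_succ, pow_succ, ih]; rfl

theorem fr_one : fr F (1 : K ≃ₐ[F] K) = 1 := rfl

theorem fr_ne {σ : K ≃ₐ[F] K} (hσ : σ ≠ 1) : fr F σ ≠ 1 := by
  intro h
  apply hσ
  refine AlgEquiv.ext fun a => ?_
  have h1 := LinearEquiv.congr_fun h ((0, 0), (a, 0))
  rw [fr_apply] at h1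
  exact congrArg (fun v => v.2.1) h1

theorem fr_comm (σ : K ≃ₐ[F] K) (s : Kˣ) : Commute (ph F (s, 1)) (fr F σ) := by
  refine LinearEquiv.ext fun v => ?_
  rw [LinearEquiv.mul_apply, LinearEquiv.mul_apply, fr_apply, ph_apply, ph_apply, fr_apply, dw_one]
  rfl

end model

theorem TorU.pow_one' {F : Type} [Field F] [Finite F] {U L : Type} [AddCommGroup U] [Module F U] [Finite U] [Field L]
    [Algebra F L] {Q : QuadraticForm F U} {r : ℕ} {z : U ≃ₗ[F] U} {j : L →ₗ[F] U} {lam : L} (hT : TorU Q r z j lam)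
    {N : ℕ} (hN : ∀ a : L, a ≠ 0 → a ^ N = 1) {t : U ≃ₗ[F] U} (ht : t ∈ O Q) (hc : Commute t z) : t ^ N = 1 := by
  obtain ⟨a, ha, -, -⟩ := hT.cen t ht hc
  have ha0 : a ≠ 0 := by
    rintro rfl
    have h4 := ha 1
    rw [zero_mul, map_zero, LinearEquiv.map_eq_zero_iff] at h4
    exact one_ne_zero (hT.inj (h4.trans (map_zero j).symm))
  have hpow : ∀ (k : ℕ) (l : L), (t ^ k) (j l) = j (a ^ k * l) := by
    intro k
    induction k with
    | zero => intro l; rw [pow_zero, pow_zero, one_mul]; rfl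
    | succ k ih => intro l; rw [pow_succ, LinearEquiv.mul_apply, ha, ih, pow_succ, mul_assoc]
  obtain ⟨a', ha', h1, -⟩ := hT.cen (t ^ N) ((O Q).pow_mem ht N) (hc.pow_left N)
  apply h1
  have h2 := (hpow N 1).symm.trans (ha' 1)
  have h3 := hT.inj h2
  rw [hN a ha0, mul_one, mul_one] at h3
  exact h3.symm

/-- the centralizer of the torus -/
theorem cen_torus {F : Type} [Field F] [Finite F] {K : Type} [Field K] [Finite K] [Algebra F K] {y : Kˣ} {r : ℕ} (hr : 1 < r)
    {j : K →ₗ[F] K × K} {lam : K} (hT : TorU (tq F K) r (dw y : (K × K) ≃ₗ[F] (K × K)) j lam)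
    {N : ℕ} (hN : ∀ a : K, a ≠ 0 → a ^ N = 1) {u : ((K × K) × (K × K)) ≃ₗ[F] ((K × K) × (K × K))}
    (hu : u ∈ O (prodForm (tq F K) (tq F K))) (h1 : Commute u (ph F (y, 1))) (h2 : Commute u (ph F (1, y))) :
    u ^ N = 1 := by
  have c1 : Commute u ((dw y : (K × K) ≃ₗ[F] (K × K)).prodCongr (LinearEquiv.refl F (K × K))) := by
    have h2 : ph F (y, 1) = (dw y : (K × K) ≃ₗ[F] (K × K)).prodCongr (LinearEquiv.refl F (K × K)) :=
      LinearEquiv.ext fun v => Prod.ext rfl (LinearEquiv.congr_fun (dw_one F) v.2)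
    rw [← h2]
    exact h1
  obtain ⟨t, s, hts⟩ := block (z := (dw y : (K × K) ≃ₗ[F] (K × K))) (fun v hv => hT.fix_eq hr v hv) c1
  subst hts
  have hO : ∀ a c, tq F K (t a) + tq F K (s c) = tq F K a + tq F K c := by
    intro a c
    have := hu (a, c)
    rw [prodForm_apply, prodForm_apply] at this
    exact this
  have htO : t ∈ O (tq F K) := by
    intro a
    have := hO a 0
    rw [map_zero, QuadraticMap.map_zero, add_zero, add_zero] at this
    exact this
  have hsO : s ∈ O (tq F K) := by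
    intro a
    have := hO 0 a
    rw [map_zero, QuadraticMap.map_zero, zero_add, zero_add] at this
    exact this
  have htc : Commute t (dw y : (K × K) ≃ₗ[F] (K × K)) := by
    refine LinearEquiv.ext fun a => ?_
    exact congrArg Prod.fst (LinearEquiv.congr_fun c1.eq (a, 0))
  have hsc : Commute s (dw y : (K × K) ≃ₗ[F] (K × K)) := by
    refine LinearEquiv.ext fun a => ?_
    exact congrArg Prod.snd (LinearEquiv.congr_fun h2.eq (0, a))
  have ht7 := TorU.pow_one' hT hN htO htc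
  have hs7 := TorU.pow_one' hT hN hsO hsc
  have hpc : ∀ n : ℕ, (t.prodCongr s) ^ n = (t ^ n).prodCongr (s ^ n) := by
    intro n
    induction n with
    | zero => rfl
    | succ n ih => rw [pow_succ, ih, pow_succ, pow_succ]; rfl
  rw [hpc, ht7, hs7]
  rfl

/-- `ph (y, y)` has no fixed vector, the `ph (y, 1) ^ n` do -/
theorem not_conj_model {F : Type} [Field F] {K : Type} [Field K] [Algebra F K] {y : Kˣ}
    (hfix : ∀ v : K × K, (dw y : (K × K) ≃ₗ[F] (K × K)) v = v → v = 0) {n : ℕ}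
    {c : ((K × K) × (K × K)) ≃ₗ[F] ((K × K) × (K × K))} (h : c * ph F (y, y) = ph F ((y, 1) ^ n) * c) : False := by
  obtain ⟨v, hv⟩ := c.surjective ((0, 0), (1, 0))
  have h3 := LinearEquiv.congr_fun h v
  rw [LinearEquiv.mul_apply, LinearEquiv.mul_apply, hv] at h3
  have h5 : ph F ((y, 1) ^ n) ((0, 0), (1, 0)) = (((0, 0), (1, 0)) : (K × K) × (K × K)) := by
    rw [ph_apply]
    have e1 : (((y, 1) : Kˣ × Kˣ) ^ n).2 = 1 := by rw [Prod.pow_snd, one_pow]
    rw [e1, dw_one]
    refine Prod.ext ?_ rfl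
    exact map_zero (dw ((y, 1) ^ n).1 : (K × K) ≃ₗ[F] (K × K))
  rw [h5, ← hv] at h3
  have h6 := c.injective h3
  rw [ph_apply] at h6
  have h7' : v = 0 := Prod.ext (hfix _ (congrArg Prod.fst h6)) (hfix _ (congrArg Prod.snd h6))
  rw [h7', map_zero] at hv
  exact zero_ne_one (congrArg (fun w : (K × K) × (K × K) => w.2.1) hv)

/-- **the prime 7 in `POmega⁺_12 (2)`** -/
theorem locAt_twelve {F : Type} [Field F] [Fintype F] (hF2 : Fintype.card F = 2) {S : Type u} [Group S] [Finite S]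
    (i : POmega F ⇑(plusForm 6 F) ≃* S) : LocAt 2 7 S := by
  classical
  obtain ⟨K, _, _, b, hKf, y, hK, hy⟩ := Singer.exists_ext F 3 (by omega)
  have hrk : Module.finrank F K = 3 := by rw [Module.finrank_eq_card_basis b, Fintype.card_fin]
  have hQ := sg_tq F K hrk
  obtain ⟨hG, π, hπ, hker⟩ := exists_pi' (hQ.prod hQ) (by omega) (by
    have := sg_plusForm (F := F) 6
    rwa [mul_one]) i
  have hcF : Nat.card F = 2 := by rw [Nat.card_eq_fintype_card, hF2]
  have hy7 : orderOf y = 7 := by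
    rw [hy, hF2]
    norm_num
  have hch : CharP F 2 := by
    obtain ⟨p, hp⟩ := CharP.exists F
    obtain ⟨n, hpp, hn⟩ := FiniteField.card F p
    rw [hF2] at hn
    have h1 : p ∣ 2 := hn ▸ dvd_pow_self p n.ne_zero
    rwa [(Nat.prime_dvd_prime_iff_eq hpp Nat.prime_two).1 h1] at hp
  have hchK : CharP K 2 := charP_of_injective_algebraMap (algebraMap F K).injective 2
  have hinj : Function.Injective π := by
    rw [injective_iff_map_eq_one]
    intro k hk
    obtain ⟨a, ha⟩ := (hker k).1 hk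
    have ha2 : a ^ 2 = a := by
      have := FiniteField.pow_card a
      rwa [hF2] at this
    have ha1 : a = 1 := by
      have h1 : a * (a - 1) = 0 := by linear_combination ha2
      rcases mul_eq_zero.1 h1 with h | h
      · exfalso
        have h2 := ha ((1, 0), (0, 0))
        rw [h, zero_smul, LinearEquiv.map_eq_zero_iff] at h2
        exact one_ne_zero (congrArg (fun v : (K × K) × (K × K) => v.1.1) h2)
      · exact sub_eq_zero.1 h
    apply Subtype.ext
    refine LinearEquiv.ext fun v => ?_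
    rw [ha, ha1, one_smul]
    rfl
  let ψ : E (prodForm (tq F K) (tq F K)) ≃* S := MulEquiv.ofBijective π ⟨hinj, hπ⟩
  refine LocAt.of_equiv ψ ?_
  have h7 : Nat.Prime 7 := by norm_num
  have hKx : Nat.card Kˣ = 7 := by
    rw [Nat.card_units, hK, hF2]
    norm_num
  have hu7 : ∀ u : Kˣ, u ^ 7 = 1 := fun u => by rw [← hKx, pow_card_eq_one']
  have hp7 : ∀ x : Kˣ × Kˣ, ph F x ^ 7 = 1 := fun x => by
    rw [← map_pow]
    have : x ^ 7 = 1 := Prod.ext (hu7 _) (hu7 _)
    rw [this, map_one]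
  have hy1 : y ≠ 1 := by
    rintro rfl
    rw [orderOf_one] at hy7
    omega
  have hT := torU_plus (F := F) (r := 7) (lam := y) (by omega) (tor_of_odd h7 (by norm_num) y.ne_zero
    (by rw [orderOf_units]; exact hy7) (by rw [hrk]; decide) (by
    intro i hi hi2
    rw [hcF]
    rw [hrk] at hi2
    have hi3 : i = 1 ∨ i = 2 := by omega
    rcases hi3 with rfl | rfl <;> norm_num)) (by rw [orderOf_units]; exact hy7)
  have hN : ∀ a : K, a ≠ 0 → a ^ 7 = 1 := by
    intro a ha
    have := congrArg Units.val (hu7 (Units.mk0 a ha))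
    rwa [Units.val_pow_eq_pow_val, Units.val_mk0, Units.val_one] at this
  let phE : Kˣ × Kˣ →* E (prodForm (tq F K) (tq F K)) :=
    (ph F).codRestrict _ fun x => odd_mem hG (ph_mem_O F x) (by decide : Odd 7) (hp7 x)
  have phE_coe : ∀ x, ((phE x : E (prodForm (tq F K) (tq F K))) : ((K × K) × (K × K)) ≃ₗ[F] _) = ph F x := fun _ => rfl
  have phE_inj : Function.Injective phE := fun a c hac => ph_inj F (congrArg Subtype.val hac)
  -- the Frobenius automorphism
  obtain ⟨σ, hσ⟩ : ∃ σ : K ≃ₐ[F] K, orderOf σ = 3 :=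
    ⟨FiniteField.frobeniusAlgEquivOfAlgebraic F K, by
      rw [FiniteField.orderOf_frobeniusAlgEquivOfAlgebraic, hrk]⟩
  have hσ3 : fr F σ ^ 3 = 1 := by
    rw [fr_pow, ← hσ, pow_orderOf_eq_one, fr_one]
  have hσ1 : fr F σ ≠ 1 := fr_ne F (by
    rintro rfl
    rw [orderOf_one] at hσ
    omega)
  let k₁ : E (prodForm (tq F K) (tq F K)) := ⟨fr F σ, odd_mem hG (fr_mem_O F σ) (by decide : Odd 3) hσ3⟩
  let k₂ : E (prodForm (tq F K) (tq F K)) := ⟨kk F, odd_mem hG (kk_mem_O F) (by decide : Odd 3) (kk_pow F)⟩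
  have o1 : orderOf k₁ = 3 := by
    have : Fact (Nat.Prime 3) := ⟨Nat.prime_three⟩
    exact orderOf_eq_prime (Subtype.ext hσ3) fun h => hσ1 (congrArg Subtype.val h)
  have o2 : orderOf k₂ = 3 := by
    have : Fact (Nat.Prime 3) := ⟨Nat.prime_three⟩
    exact orderOf_eq_prime (Subtype.ext (kk_pow F)) fun h => kk_ne F (congrArg Subtype.val h)
  have o7 : ∀ x : Kˣ × Kˣ, x ≠ 1 → orderOf (phE x) = 7 := by
    intro x hx
    have : Fact (Nat.Prime 7) := ⟨h7⟩
    refine orderOf_eq_prime (Subtype.ext (hp7 x)) fun h => hx (phE_inj ?_)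
    rw [h, map_one]
  have ny1 : ((y, 1) : Kˣ × Kˣ) ≠ 1 := fun h => hy1 (congrArg Prod.fst h)
  have ny2 : ((y, y) : Kˣ × Kˣ) ≠ 1 := fun h => hy1 (congrArg Prod.fst h)
  refine ⟨phE.range, phE (y, 1), k₁, phE (y, y), k₂, ?_, ?_, ?_, o7 _ ny1, o7 _ ny2, ?_, ?_, ?_, ?_, ?_, ?_, ?_⟩
  · rw [← Nat.card_congr (MonoidHom.ofInjective phE_inj).toEquiv, Nat.card_prod, hKx]
    norm_num
  · rw [Nat.card_congr ψ.toEquiv, ← Nat.card_congr i.toEquiv]
    have h1 := S0293.result hF2 6 (by norm_num)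
    rw [coe_plusForm]
    have h2 : Nat.gcd 4 (2 ^ 6 - 1) = 1 := by norm_num
    rw [h2, one_mul] at h1
    rw [h1]
    simp only [Finset.prod_range_succ, Finset.prod_range_zero]
    norm_num
  · intro u hu hk
    have hu7' : u ^ 7 = 1 := by
      apply Subtype.ext
      exact cen_torus (by norm_num) hT hN (E_le_O u.2) (congrArg Subtype.val (hu _ ⟨(y, 1), rfl⟩)).symm
        (congrArg Subtype.val (hu _ ⟨(1, y), rfl⟩)).symm
    obtain ⟨k, hk⟩ := hk
    have h1 := orderOf_dvd_of_pow_eq_one hu7'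
    rcases (Nat.dvd_prime h7).1 h1 with h2 | h2
    · exact orderOf_eq_one_iff.1 h2
    · exfalso
      rw [h2] at hk
      have h3 : 7 ∣ 2 := h7.dvd_of_dvd_pow (show 7 ∣ 2 ^ k by rw [← hk])
      omega
  · exact Subtype.ext (fr_comm F σ y).eq
  · exact Subtype.ext (kk_comm F y).eq
  · intro h
    rw [h, orderOf_one] at o1
    omega
  · intro h
    rw [h, orderOf_one] at o2
    omega
  · rw [o1]; norm_num
  · rw [o2]; norm_num
  · intro n hn
    obtain ⟨c, hc⟩ := isConj_iff.1 hn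
    rw [← map_pow] at hc
    have h1 : c * phE (y, y) = phE ((y, 1) ^ n) * c := by rw [← hc]; group
    exact not_conj_model (fun v hv => hT.fix_eq (by norm_num) v hv) (congrArg Subtype.val h1)

end Cfsg.Agent.H5.OZ
end

-- part: H5/OZ/TwelveRow
section
/-!
# S4842: the row `POmega⁺_12 (2)` (helper5)

`row_plus12_two` : the row from the congruence `Cong 2 17 4 S`.
-/

set_option autoImplicit false

namespace Cfsg.Agent.H5.OZ

open Cfsg Cfsg.Agent.H730.OZ Cfsg.Agent.LieClassical.OrthForms Cfsg.Agent.H182.Sign Cfsg.Agent.H182.Orth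
open Cfsg.Agent.Nodes.RGDChev Cfsg.Agent.H530.OZ

universe u

theorem arith_twelve : ∀ m : ℕ, m < 60 → 0 < m → ∀ e : ℤ, (e = 1 ∨ e = -1) → (31 : ℤ) ∣ e * 2 ^ m - 1 →
    (7 : ℤ) ∣ e * 2 ^ m - 1 → (17 : ℤ) ∣ e * 2 ^ m - 16 → False := by
  intro m hm hm0 e he h1 h2 h3
  rcases he with rfl | rfl
  · interval_cases m <;> revert h1 h2 h3 <;> norm_num
  · interval_cases m <;> revert h1 h2 h3 <;> norm_num

/-- **The row `POmega⁺_12 (2)`** -/
theorem row_plus12_two {S : Type u} [Group S] [Finite S] (hs : IsSimpleGroup S) {F : Type} [Field F] [Fintype F]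
    (hF2 : Fintype.card F = 2) (e : S ≃* POmega F (quadFormPlus 6 F)) (h17 : Cong 2 17 4 S) :
    Cfsg.Agent.H730.OZ.Row S := by
  have hcard : Fintype.card F = 2 ^ 1 := hF2
  have hp : Nat.Prime 2 := Nat.prime_two
  have hch : CharP F 2 := by
    obtain ⟨p, hp⟩ := CharP.exists F
    obtain ⟨n, hpp, hn⟩ := FiniteField.card F p
    rw [hF2] at hn
    have h1 : p ∣ 2 := hn ▸ dvd_pow_self p n.ne_zero
    rwa [(Nat.prime_dvd_prime_iff_eq hpp Nat.prime_two).1 h1] at hp
  have hpf : Fact (Nat.Prime 2) := ⟨hp⟩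
  have hKS : Kaw 2 S := by
    refine Cfsg.Agent.H279.OZ.kaw_of_hasRGD hp ?_
    exact (Cfsg.Agent.Nodes.WittInst.hasRGD_PO_plus (F := F) 3).of_equiv e.symm
  have hS0 := S0293.result hcard 6 (by norm_num)
  have hcS : Nat.card (POmega F (quadFormPlus 6 F)) = Nat.card S := (Nat.card_congr e.toEquiv).symm
  rw [hcS] at hS0
  obtain ⟨ho1, ho2⟩ := order_facts hp one_pos (by norm_num : 4 ≤ 6) (Nat.card_pos (α := S)).ne'
    (d := Nat.gcd 4 ((2 ^ 1) ^ 6 - 1)) (w := (2 ^ 1) ^ 6 - 1) (by norm_num) (by norm_num) (by norm_num) hS0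
  have i : POmega F ⇑(plusForm 6 F) ≃* S := by
    rw [coe_plusForm]
    exact e.symm
  have hR : Sg (plusForm 6 F) 6 1 := sg_plusForm 6
  have hc7 : Cong 2 7 0 S := (locAt_twelve hF2 i).cong (by norm_num)
  have hc31 : Cong 2 31 0 S := by
    refine IsoAt.cong hp (by norm_num) (by norm_num) (Cfsg.Agent.H128.OZ.isoP' (p := 2) (k := 5) (j := 1)
      (sg_hypForm (F := F)) (Or.inr rfl) (by norm_num) (by decide) ?_ i (by norm_num) ?_ ?_)
    · simpa using hR
    · rw [hF2]; norm_num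
    · intro j hj hjn
      rw [hF2]
      interval_cases j <;> norm_num
  refine Cfsg.Agent.H730.OZ.Row.of_none fun χ hχ => ?_
  refine none_of_cong hs hp ho1 (by norm_num) hKS ho2 ?_ hχ
  intro m ε hε hm hm' hcong
  refine arith_twelve m (by simpa using hm') hm ε hε ?_ ?_ ?_
  · simpa using hcong 31 0 hc31
  · simpa using hcong 7 0 hc7
  · simpa using hcong 17 4 h17

end Cfsg.Agent.H5.OZ
end

-- part: H128/OZ/Plus
section
/-!
# S4842: the family `POmega⁺` (helper128)
-/

set_option autoImplicit false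

namespace Cfsg.Agent.H128.OZ

open Cfsg Cfsg.Agent.H730.OZ Cfsg.Agent.H530.OZ

universe u

/-- The missing pieces of the family `POmega⁺`. -/
structure PlusHyp : Prop where
  /-- `POmega⁺₈ (q)`, `q ≥ 3` -/
  eight : ∀ {S : Type u} [Group S] [Finite S], IsSimpleGroup S → ∀ {F : Type} [Field F] [Fintype F],
    3 ≤ Fintype.card F → (S ≃* POmega F (quadFormPlus 4 F)) → Cfsg.Agent.H730.OZ.Row S
  /-- `POmega⁺₈ (2)` -/
  eight_two : ∀ {S : Type u} [Group S] [Finite S], IsSimpleGroup S → ∀ {F : Type} [Field F] [Fintype F],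
    Fintype.card F = 2 → (S ≃* POmega F (quadFormPlus 4 F)) → Cfsg.Agent.H730.OZ.Row S
  /-- `POmega⁺₁₂ (2)`, the prime `17` -/
  seventeen : ∀ {S : Type u} [Group S] [Finite S], IsSimpleGroup S → ∀ {F : Type} [Field F] [Fintype F],
    Fintype.card F = 2 → (S ≃* POmega F (quadFormPlus 6 F)) → Cong 2 17 4 S
  /-- the primes of order `2 (n - 2)` -/
  kc : ∀ {S : Type u} [Group S] [Finite S], IsSimpleGroup S → ∀ {F : Type} [Field F] [Fintype F] {n : ℕ},
    6 ≤ n → Even n → ¬ (n = 6 ∧ Fintype.card F = 2) → (S ≃* POmega F (quadFormPlus n F)) →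
    ∀ (p f r : ℕ), p.Prime → Fintype.card F = p ^ f → Prim p (2 * (n - 2) * f) r → Cong p r (4 * f) S
  /-- the primes of order `n` -/
  loc : ∀ {S : Type u} [Group S] [Finite S], IsSimpleGroup S → ∀ {F : Type} [Field F] [Fintype F] {n : ℕ},
    6 ≤ n → Even n → ¬ (n = 6 ∧ Fintype.card F = 2) → (S ≃* POmega F (quadFormPlus n F)) →
    ∀ (p f r : ℕ), p.Prime → Fintype.card F = p ^ f → Prim p (n * f) r → Cong p r 0 S

/-- **The family `POmega⁺`** -/
theorem row_isPOmegaPlus_of (H : PlusHyp.{u}) {S : Type u} [Group S] [Finite S] (hs : IsSimpleGroup S)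
    (h : IsPOmegaPlus S) : Cfsg.Agent.H730.OZ.Row S := by
  obtain ⟨F, _, _, n, hn, ⟨e⟩⟩ := h
  rcases Nat.even_or_odd n with he | ho
  · rcases Nat.lt_or_ge n 6 with h6 | h6
    · obtain rfl : n = 4 := by
        rcases he with ⟨k, rfl⟩
        omega
      have h2 : 2 ≤ Fintype.card F := Fintype.one_lt_card
      rcases h2.eq_or_lt with h2 | h2
      · exact H.eight_two hs h2.symm e
      · exact H.eight hs h2 e
    · by_cases h62 : n = 6 ∧ Fintype.card F = 2
      · obtain ⟨rfl, h2⟩ := h62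
        exact H5.OZ.row_plus12_two hs h2 e (H.seventeen hs h2 e)
      · exact row_plus_even_of hs h6 he h62 e (H.kc hs h6 he h62 e) (H.loc hs h6 he h62 e)
  · exact row_plus_odd hs hn ho e

end Cfsg.Agent.H128.OZ
end

-- part: H128/OZ/PlusLoc
section
/-!
# S4842: the family `POmega⁺`, with helper556's `loc_plus` plugged in (helper128)
-/

set_option autoImplicit false

namespace Cfsg.Agent.H128.OZ

open Cfsg Cfsg.Agent.H730.OZ Cfsg.Agent.H530.OZ

universe u

/-- The missing pieces of the family `POmega⁺`. -/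
structure PlusRest : Prop where
  /-- `POmega⁺₈ (q)`, `q ≥ 3` -/
  eight : ∀ {S : Type u} [Group S] [Finite S], IsSimpleGroup S → ∀ {F : Type} [Field F] [Fintype F],
    3 ≤ Fintype.card F → (S ≃* POmega F (quadFormPlus 4 F)) → Cfsg.Agent.H730.OZ.Row S
  /-- `POmega⁺₈ (2)` -/
  eight_two : ∀ {S : Type u} [Group S] [Finite S], IsSimpleGroup S → ∀ {F : Type} [Field F] [Fintype F],
    Fintype.card F = 2 → (S ≃* POmega F (quadFormPlus 4 F)) → Cfsg.Agent.H730.OZ.Row S
  /-- `POmega⁺₁₂ (2)`, the prime `17` -/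
  seventeen : ∀ {S : Type u} [Group S] [Finite S], IsSimpleGroup S → ∀ {F : Type} [Field F] [Fintype F],
    Fintype.card F = 2 → (S ≃* POmega F (quadFormPlus 6 F)) → Cong 2 17 4 S
  /-- the primes of order `2 (n - 2)` -/
  kc : ∀ {S : Type u} [Group S] [Finite S], IsSimpleGroup S → ∀ {F : Type} [Field F] [Fintype F] {n : ℕ},
    6 ≤ n → Even n → ¬ (n = 6 ∧ Fintype.card F = 2) → (S ≃* POmega F (quadFormPlus n F)) →
    ∀ (p f r : ℕ), p.Prime → Fintype.card F = p ^ f → Prim p (2 * (n - 2) * f) r → Cong p r (4 * f) S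

theorem PlusRest.hyp (H : PlusRest.{u}) : PlusHyp.{u} where
  eight := H.eight
  eight_two := H.eight_two
  seventeen := H.seventeen
  kc := H.kc
  loc := fun _ _ _ _ _ hn he _ e => H556.OZ.loc_plus hn he e

/-- **The family `POmega⁺`** -/
theorem row_isPOmegaPlus_of' (H : PlusRest.{u}) {S : Type u} [Group S] [Finite S] (hs : IsSimpleGroup S)
    (h : IsPOmegaPlus S) : Cfsg.Agent.H730.OZ.Row S := row_isPOmegaPlus_of H.hyp hs h

end Cfsg.Agent.H128.OZ
end

-- part: H785/OZ8/Mdl
section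
/-!
# `O₈⁺(2)` on the 120 nonsingular vectors, as a coded relation (helper785)
-/

set_option autoImplicit false

namespace Cfsg.Agent.H785.OZ8

open Cfsg.Agent.StdO8.Model Cfsg.Agent.StdO8.Code Cfsg.Agent.H633.Ore

/-! ### numbers -/

/-- packed codes of the nonsingular vectors -/
def TT : ℕ := 0xfefdfbf8f7f4f2f1efeee9e8e5e4e3e2dfdddad8d6d4d3d1cbcac9c8c7c6c5c4bfbcbbb8b6b5b2b1adaca9a8a7a6a3a29e9c9a98979593918f8e8d8c8b8a89887f7c7a79777472716d6c6b6a656463625e5c5b59565453514f4e4d4c474645443e3d3a39363532312f2e2b2a272623221f1d1b1917151311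

/-- packed positions -/
def IX : ℕ := 0x7776007500007473000072007170006f6e000000006d6c00006b6a6968000067006600006500640063006261006000000000005f5e5d5c5b5a5958000000005700005655000054005352000051500000004f4e00004d4c4b4a000049480000004700460045004443004200410040003f3e3d3c3b3a393800000000000000003700003600353400330000320031300000002f2e2d2c000000002b2a29280000002700262500240000230022210020001f1e1d1c000000001b1a191800000000001716000015140000131200001110000f0e00000d0c00000b0a0000090800000700060005000400030002000100000000000000000000000000000000000000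

/-- masks -/
def CC : List ℕ := [0x1001001001001001001001000000000000000000000000001001001001001001001001000000000000000000000000001001001001001001001001000000000000000000000000001001001001001001001001000000000000000000000000001001001001001001001001000000000000000000000000001001001001001001001001000000000000000000000000001001001001001001001001000000000000000000000000001001001001001001001001,
  0x1001001001001001001001001001001001001001001001000000000000000000000000000000000000000000000000001001001001001001001001001001001001001001001001000000000000000000000000000000000000000000000000001001001001001001001001001001001001001001001001000000000000000000000000000000000000000000000000001001001001001001001001001001001001001001001001000000000000000000000000,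
  0x1001001001001001001001001001001001001001001001001001001001001001001001001001001001001001001001000000000000000000000000000000000000000000000000000000000000000000000000000000000000000000000000001001001001001001001001001001001001001001001001001001001001001001001001001001001001001001001001000000000000000000000000000000000000000000000000000000000000000000000000,
  0x1001001001001001001001001001001001001001001001001001001001001001001001001001001001001001001001001001001001001001001001001001001001001001001001001001001001001001001001001001001001001001001001000000000000000000000000000000000000000000000000000000000000000000000000000000000000000000000000000000000000000000000000000000000000000000000000000000000000000000000000,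
  0x1001000001000000001001000001000001000001000001001000000000000001001001000001000001000001000001000001000000001000001001000001000001000001000000000000000001001001001001000001000001000001000001000000001001000000001001000001000001000001000000000001001000000001001001000001000001000001000000001000001000001000001001000001000001000001000001001001001001001001001,
  0x1000001000001000001000001001000000000000001001001000001000001000001000001001000000001001000000001000001000001000001000000000000000001001001001001000001000001000001000001001000000001001000000001000001000001000001000000000001001000000001001001000001000001000001000001001000000001001000000001000001000001000001000001001001001001001001001001000001000001000001000,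
  0x1001000000001001000000001001000000001001000000001001000000001001000000000000000000001001001001001001000000001001000000001001000000001001000000001001000000001001000000001001001001000000000000001001000000001001000000001001000000001001000000001001000000001001000000001001001001001001001001001001000000001001000000001001000000001001000000001001000000001001000000,
  0x1001001001000000000000001001001001000000000000001001001001000000000000001001001001000000000000001001001001000000000000001001001001000000000000001001001001000000000000001001001001001001001001001001001001000000000000001001001001000000000000001001001001000000000000001001001001000000000000001001001001000000000000001001001001000000000000001001001001000000000000]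

/-- the mask of all points -/
def AM : ℕ := 0x1001001001001001001001001001001001001001001001001001001001001001001001001001001001001001001001001001001001001001001001001001001001001001001001001001001001001001001001001001001001001001001001001001001001001001001001001001001001001001001001001001001001001001001001001001001001001001001001001001001001001001001001001001001001001001001001001001001001001001001001

/-- the mask of all points -/
noncomputable def allM (n : ℕ) : ℕ → ℕ :=
  Nat.rec (fun acc => acc) (fun i ih acc => force (Nat.lor acc (Nat.pow 2 (Nat.mul 12 i))) ih) n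

theorem allM_spec (n : ℕ) : ∀ m, n ≤ m → ∀ acc, Vm m acc → Vm m (allM n acc) := by
  induction n with
  | zero => intro m _ acc h; exact h
  | succ n ih =>
    intro m hm acc h
    have e : allM (n + 1) acc = allM n (acc ||| 2 ^ (12 * n)) := by
      show force (Nat.lor acc (Nat.pow 2 (Nat.mul 12 n))) (allM n) = _
      rw [force_eq]; rfl
    rw [e]
    refine ih m (by omega) _ fun b hb => ?_
    rw [Nat.testBit_or, Bool.or_eq_true, Nat.testBit_two_pow, decide_eq_true_eq] at hb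
    rcases hb with hb | hb
    · exact h b hb
    · exact ⟨n, by omega, hb.symm⟩

theorem am_ok : allM 120 0 = AM := by decide +kernel

theorem vm_AM : Vm 120 AM := by
  rw [← am_ok]
  exact allM_spec 120 120 le_rfl 0 fun b hb => by simp at hb

theorem am_bit : ∀ i < 120, AM.testBit (12 * i) = true := by decide +kernel

theorem cc_ok : ∀ C ∈ CC, Nat.land C AM = C := by decide +kernel

theorem vm_CC : ∀ C ∈ CC, Vm 120 C := by
  intro C hC b hb
  have h := cc_ok C hC
  rw [← h] at hb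
  rw [show Nat.land C AM = C &&& AM from rfl, Nat.testBit_and, Bool.and_eq_true] at hb
  exact vm_AM b hb.2

theorem ix_ok : ∀ a < 256, qn a = true → ent 8 IX a < 120 ∧ ent 8 TT (ent 8 IX a) = a := by decide +kernel

theorem tt_ok : ∀ i < 120, ent 8 TT i < 256 ∧ qn (ent 8 TT i) = true ∧ ent 8 IX (ent 8 TT i) = i := by decide +kernel

private theorem all_lt {p : ℕ → Bool} : ∀ {n : ℕ}, Nat.rec true (fun k r => and (p k) r) n = true → ∀ k < n, p k = true
  | 0, _, _, h => nomatch h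
  | n + 1, h, k, hk => (Nat.lt_succ_iff_lt_or_eq.1 hk).elim (all_lt (Bool.and_eq_true_iff.1 h).2 k)
    fun e => e ▸ (Bool.and_eq_true_iff.1 h).1

theorem row_ok : ∀ b < 256, ∀ i < 120, (linL CC b).testBit (12 * i) = Bn (ent 8 TT i) b := fun b hb i hi => by
  have h := Nat.eq_of_beq_eq_true (all_lt (p := fun i => Nat.beq (Nat.mod (Nat.shiftRight (linL CC b) (Nat.mul 12 i)) 2)
    (bnBit (ent 8 TT i) b)) (all_lt (p := fun b => Nat.rec true (fun i r => and
    (Nat.beq (Nat.mod (Nat.shiftRight (linL CC b) (Nat.mul 12 i)) 2) (bnBit (ent 8 TT i) b)) r) 120) (n := 256)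
      (by decide +kernel) b hb) i hi)
  rw [Nat.testBit_eq_decide_div_mod_eq, ← Nat.shiftRight_eq_div_pow, Bool.eq_iff_iff, decide_eq_true_eq]
  exact (iff_of_eq (congrArg (· = 1) h)).trans (iff_of_eq Nat.beq_eq.symm)

theorem inj_ok : ∀ c < 256, c = 0 ∨ ∃ i < 120, Bn (ent 8 TT i) c = true := fun c hc =>
  ((by decide +kernel : ∀ c < 256, c = 0 ∨ ∃ i ∈ [0, 1, 2, 4, 8, 9, 24, 56], i < 120 ∧ Bn (ent 8 TT i) c = true) c hc).imp_right
    fun ⟨i, _, h⟩ => ⟨i, h⟩

/-! ### the points -/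

/-- the nonsingular vectors -/
abbrev Y : Type := {v : V // q v = 1}

instance : MulAction O8 Y where
  smul g y := ⟨(g : V ≃ₗ[ZMod 2] V) y.1, by rw [O8_q g.2]; exact y.2⟩
  one_smul y := rfl
  mul_smul g h y := rfl

/-- the code of a vector -/
noncomputable def enc (v : V) : ℕ := (dec_surj v).choose

theorem enc_lt (v : V) : enc v < 256 := (dec_surj v).choose_spec.1

theorem dec_enc (v : V) : dec (enc v) = v := (dec_surj v).choose_spec.2

theorem enc_dec {a : ℕ} (ha : a < 256) : enc (dec a) = a := dec_inj (enc_lt _) ha (dec_enc _)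

theorem enc_inj {u v : V} (h : enc u = enc v) : u = v := by rw [← dec_enc u, ← dec_enc v, h]

theorem qn_enc {v : V} (h : q v = 1) : qn (enc v) = true := by
  rw [← dec_enc v, q_dec] at h
  exact cc_eq_one h

/-- the position of a point -/
noncomputable def idx (y : Y) : ℕ := ent 8 IX (enc y.1)

theorem idx_lt (y : Y) : idx y < 120 := (ix_ok _ (enc_lt _) (qn_enc y.2)).1

theorem ent_idx (y : Y) : ent 8 TT (idx y) = enc y.1 := (ix_ok _ (enc_lt _) (qn_enc y.2)).2

/-- the model -/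
noncomputable def M : Mdl O8 Y where
  w := 8
  n := 120
  T := TT
  CT := CC
  cd y := enc y.1
  idx := idx
  bf y y' := Bn (enc y.1) (enc y'.1)
  n_lt := by norm_num
  lenCT := by decide +kernel
  idx_lt := idx_lt
  idx_inj y y' h := by
    have h1 := ent_idx y
    rw [h, ent_idx y'] at h1
    exact Subtype.ext (enc_inj h1.symm)
  idx_surj i hi := by
    obtain ⟨h1, h2, h3⟩ := tt_ok i hi
    have hq : q (dec (ent 8 TT i)) = 1 := by rw [q_dec, h2]; rfl
    refine ⟨⟨dec (ent 8 TT i), hq⟩, ?_⟩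
    show ent 8 IX (enc (dec (ent 8 TT i))) = i
    rw [enc_dec h1, h3]
  ent_idx := ent_idx
  cd_lt y := enc_lt y.1
  inv c y y' := by
    apply cc_inj
    rw [← B_dec, ← B_dec, dec_enc, dec_enc, dec_enc, dec_enc]
    exact O8_B c.2 _ _
  nd y y' h := by
    rcases inj_ok (enc y.1 ^^^ enc y'.1) (Nat.xor_lt_two_pow (n := 8) (enc_lt _) (enc_lt _)) with h0 | ⟨i, hi, hb⟩
    · rw [Nat.xor_eq_zero_iff] at h0
      exact Subtype.ext (enc_inj h0)
    · exfalso
      obtain ⟨h1, h2, -⟩ := tt_ok i hi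
      have hq : q (dec (ent 8 TT i)) = 1 := by rw [q_dec, h2]; rfl
      have h3 := h ⟨dec (ent 8 TT i), hq⟩
      have h4 : Bn (ent 8 TT i) (enc y.1) = Bn (ent 8 TT i) (enc y'.1) := by
        rw [← enc_dec h1]
        exact h3
      have h5 : cc (Bn (ent 8 TT i) (enc y.1 ^^^ enc y'.1)) = 0 := by
        rw [← B_dec, dec_xor, B_add_right, B_dec, B_dec, h4]
        exact CharTwo.add_self_eq_zero _
      rw [hb] at h5
      exact absurd h5 (by decide)
  row y y' := by
    rw [← ent_idx y]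
    exact row_ok _ (enc_lt _) _ (idx_lt y)
  vm := vm_CC
  faithful c h := by
    have key : ∀ a < 256, qn a = true → (c : V ≃ₗ[ZMod 2] V) (dec a) = dec a := by
      intro a _ hq
      have hq' : q (dec a) = 1 := by rw [q_dec, hq]; rfl
      exact congrArg Subtype.val (h ⟨dec a, hq'⟩)
    apply Subtype.ext
    apply lin_ext
    intro b hb
    have hs : ∃ p ∈ ([(34, 35), (17, 19), (17, 21), (17, 25), (34, 50), (17, 49), (17, 81), (17, 145)] : List (ℕ × ℕ)), qn p.1 = true ∧ qn p.2 = true ∧ p.1 < 256 ∧ p.2 < 256 ∧ p.1 ^^^ p.2 = b := by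
      revert b
      decide +kernel
    obtain ⟨p, -, h1, h2, h3, h4, rfl⟩ := hs
    rw [dec_xor, map_add, key _ h3 h1, key _ h4 h2]
    rfl

end Cfsg.Agent.H785.OZ8
end

-- part: H785/OZ8/Cert
section
/-!
# Bounds for centralizers in `Ω₈⁺(2)` (helper785)

`C` : certificates for the centralizer in `O₈⁺(2)`; `half`: an element of `Ω₈⁺(2)` fixing a nonsingular vector has a
centralizer of index two in that of `O₈⁺(2)`.
-/

set_option autoImplicit false

namespace Cfsg.Agent.H785.OZ8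

open Cfsg.Agent.StdO8.Model Cfsg.Agent.StdO8.Code Cfsg.Agent.H633.Ore
open Cfsg.Agent.LieClassical.OrthCore

/-- the inclusion -/
def up (m : Om) : O8 := ⟨m, Om_le m.2⟩

theorem up_mul (a b : Om) : up (a * b) = up a * up b := rfl

theorem up_inj {a b : Om} (h : up a = up b) : a = b :=
  Subtype.ext (congrArg (fun z : O8 => (z : V ≃ₗ[ZMod 2] V)) h)

/-- check of the matrix of a word -/
noncomputable def chkL (l : List (ℕ × ℕ)) (L : List ℕ) : Bool :=
  l.all ok && (List.range 256).all fun a => Nat.blt (ev l a) 256 && Nat.beq (linL L a) (ev l a)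

theorem rp_of {l : List (ℕ × ℕ)} {L : List ℕ} (h : chkL l L = true) : M.Rp L (up (word l)) := by
  rw [chkL, Bool.and_eq_true, List.all_eq_true (l := List.range 256)] at h
  intro y
  have h1 := h.2 (enc y.1) (List.mem_range.2 (enc_lt _))
  rw [Bool.and_eq_true] at h1
  have h2 : (((up (word l)) • y : Y) : V) = dec (ev l (enc y.1)) := by
    rw [← word_dec h.1, dec_enc]
    rfl
  show enc ((up (word l)) • y : Y).1 = linL L (enc y.1)
  rw [h2, enc_dec (by simpa using h1.1)]
  exact (Nat.eq_of_beq_eq_true h1.2).symm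

/-- run of a certificate -/
noncomputable def chkE (L : List ℕ) (m : ℕ) (s : List Step) : Bool :=
  pwF L m (idL 8) fun Ls => chk 8 120 TT CC (Nat.succ m) Ls s [AM] []

theorem card_le_O8 {g : O8} {L : List ℕ} (hL : M.Rp L g) {m : ℕ} {s : List Step} (h : chkE L m s = true) :
    Nat.card ↥(Subgroup.centralizer ({g} : Set O8)) ≤ prodB s := by
  have hfin : Finite O8 := Nat.finite_of_card_ne_zero (by rw [StdO8.CardC.card_O8]; norm_num)
  rw [chkE, pwF_eq] at h
  refine chk_sound (M := M) (r := g) (Ls := pw L m (idL M.w)) (N := Nat.succ m) (fun j hj => ?_) s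
    [AM] [] _ (fun x hx => ?_) (fun A hA => ?_) (fun v hv => absurd hv List.not_mem_nil) h
  · have h1 := Mdl.Rp.pw M hL m (idL M.w) 0 (by rw [pow_zero]; exact Mdl.Rp.one M) j (Nat.le_of_lt_succ hj)
    rwa [Nat.zero_add] at h1
  · exact ((Subgroup.mem_centralizer_iff.1 hx) _ rfl).symm
  · obtain rfl := List.mem_singleton.1 hA
    refine ⟨vm_AM, fun x _ y => ?_⟩
    show AM.testBit (12 * idx (x • y)) = true ↔ AM.testBit (12 * idx y) = true
    rw [am_bit _ (idx_lt _), am_bit _ (idx_lt _)]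

theorem mem_cent {G : Type*} [Group G] {y g : G} : g ∈ Subgroup.centralizer ({y} : Set G) ↔ y * g = g * y := by
  rw [Subgroup.mem_centralizer_iff]
  exact ⟨fun h => h y rfl, fun h z hz => by rw [hz]; exact h⟩

theorem card_le_up (y : Om) : Nat.card ↥(Subgroup.centralizer ({y} : Set Om)) ≤
    Nat.card ↥(Subgroup.centralizer ({up y} : Set O8)) := by
  have hfin : Finite O8 := Nat.finite_of_card_ne_zero (by rw [StdO8.CardC.card_O8]; norm_num)
  refine Nat.card_le_card_of_injective (fun g => ⟨up g.1, ?_⟩) fun a b h => ?_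
  · rw [mem_cent, ← up_mul, mem_cent.1 g.2, up_mul]
  · exact Subtype.ext (up_inj (congrArg Subtype.val h))

/-- the reflection in a code -/
theorem half {y : Om} {n : ℕ} (hn : qn n = true) (hy : (y : V ≃ₗ[ZMod 2] V) (dec n) = dec n) :
    2 * Nat.card ↥(Subgroup.centralizer ({y} : Set Om)) ≤ Nat.card ↥(Subgroup.centralizer ({up y} : Set O8)) := by
  have hfin : Finite O8 := Nat.finite_of_card_ne_zero (by rw [StdO8.CardC.card_O8]; norm_num)
  have hq : q (dec n) ≠ 0 := by rw [q_dec, hn]; decide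
  set r : O8 := ⟨refl q (dec n) hq, refl_mem_O hq⟩ with hr
  have hry : up y * r = r * up y := by
    apply Subtype.ext
    apply LinearEquiv.ext
    intro v
    show (y : V ≃ₗ[ZMod 2] V) (refl q (dec n) hq v) = refl q (dec n) hq ((y : V ≃ₗ[ZMod 2] V) v)
    rw [StdO8.EvenLin.refl_eq, StdO8.EvenLin.refl_eq, map_add, map_smul, hy]
    congr 2
    have h1 := O8_B (Om_le y.2) (dec n) v
    rw [hy] at h1
    exact h1.symm
  have hodd : ∀ a b : Om, up a ≠ up b * r := by
    intro a b h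
    have h1 : r = up (b⁻¹ * a) := by
      rw [up_mul, h, ← mul_assoc, ← up_mul, inv_mul_cancel]
      exact (one_mul r).symm
    have h2 : refl q (dec n) hq ∈ Om := by
      have h3 := congrArg Subtype.val h1
      rw [show refl q (dec n) hq = (r : V ≃ₗ[ZMod 2] V) from rfl, h3]
      exact (b⁻¹ * a).2
    exact StdO8.Gen.refl_notMem _ _ h2
  have hc : Nat.card (Bool × ↥(Subgroup.centralizer ({y} : Set Om))) =
      2 * Nat.card ↥(Subgroup.centralizer ({y} : Set Om)) := by
    rw [Nat.card_prod, Nat.card_eq_fintype_card, Fintype.card_bool]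
  rw [← hc]
  have hmem : ∀ p : Bool × ↥(Subgroup.centralizer ({y} : Set Om)),
      (cond p.1 (up p.2.1) (up p.2.1 * r)) ∈ Subgroup.centralizer ({up y} : Set O8) := by
    rintro ⟨b, g⟩
    have h1 : up y * up g.1 = up g.1 * up y := by rw [← up_mul, mem_cent.1 g.2, up_mul]
    cases b
    · show up g.1 * r ∈ _
      rw [mem_cent, ← mul_assoc, h1, mul_assoc, hry, mul_assoc]
    · exact mem_cent.2 h1
  refine Nat.card_le_card_of_injective (fun p => ⟨_, hmem p⟩) ?_
  rintro ⟨a, g⟩ ⟨b, g'⟩ h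
  have h' : cond a (up g.1) (up g.1 * r) = cond b (up g'.1) (up g'.1 * r) := congrArg Subtype.val h
  cases a <;> cases b
  · rw [Subtype.ext (up_inj (mul_right_cancel (h' : up g.1 * r = up g'.1 * r)))]
  · exact absurd (h' : up g.1 * r = up g'.1).symm (hodd _ _)
  · exact absurd (h' : up g.1 = up g'.1 * r) (hodd _ _)
  · rw [Subtype.ext (up_inj (h' : up g.1 = up g'.1))]

/-- the centralizer of a word -/
theorem cent_le {l : List (ℕ × ℕ)} {L : List ℕ} (hL : chkL l L = true) {m : ℕ} {s : List Step}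
    (h : chkE L m s = true) : Nat.card ↥(Subgroup.centralizer ({word l} : Set Om)) ≤ prodB s :=
  (card_le_up _).trans (card_le_O8 (rp_of hL) h)

/-- the centralizer of a word fixing a nonsingular vector -/
theorem cent_le_half {l : List (ℕ × ℕ)} {L : List ℕ} (hL : chkL l L = true) {m : ℕ} {s : List Step}
    (h : chkE L m s = true) {n : ℕ} (hn : qn n = true) (hf : ev l n = n) :
    2 * Nat.card ↥(Subgroup.centralizer ({word l} : Set Om)) ≤ prodB s := by
  refine (half hn ?_).trans (card_le_O8 (rp_of hL) h)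
  have hl : l.all ok = true := by
    rw [chkL, Bool.and_eq_true] at hL
    exact hL.1
  rw [word_dec hl, hf]

end Cfsg.Agent.H785.OZ8
end

-- part: H785/OZ8/Cls
section
/-!
# `Ω₈⁺(2)`: two classes of elements of order 8, 9, 5 (helper785)
-/

set_option autoImplicit false
set_option maxRecDepth 100000

namespace Cfsg.Agent.H785.OZ8

open Cfsg.Agent.StdO8.Model Cfsg.Agent.StdO8.Code Cfsg.Agent.H633.Ore
open Cfsg.Agent.H852.QA

/-! ### `y8a` -/

/-- element of order 8 -/
def y8a : List (ℕ × ℕ) := [(165, 182), (64, 2), (4, 128)]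

/-- matrix -/
def Ly8a : List ℕ := [164, 180, 176, 14, 3, 115, 118, 128]

/-- certificate -/
def Sy8a : List Step := [
  .fixd 0 2 1, .fixd 0 1 0, .base 0 32 2 [0, 1], .andn 4 3, .base 0 1 2 [0], .andn 8 4, .andn 0 4, .andn 0 2,
  .andn 0 10, .andn 7 8, .andn 0 5, .self 0 1 0, .cnt 3 0 0 0, .base 0 0 2 [0, 1, 2, 3], .andn 6 2,
  .base 0 4 4 [0, 1, 2, 3, 4, 5, 6, 7], .and 18 4, .and 0 24, .andn 0 9,
  .base 0 44 2 [0, 1, 2, 3, 4, 5, 6, 7], .fin [305, 39, 807, 314, 556, 257, 54, 51]]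

theorem l_y8a : chkL y8a Ly8a = true := by decide +kernel

theorem e_y8a : chkE Ly8a 7 Sy8a = true := by decide +kernel

theorem p_y8a : prodB Sy8a = 64 := by decide +kernel

theorem cent_y8a : Nat.card ↥(Subgroup.centralizer ({word y8a} : Set Om)) ≤ 32 := by
  have h := cent_le_half l_y8a e_y8a (n := 19) (by decide +kernel) (by decide +kernel)
  rw [p_y8a] at h
  omega

theorem conj3_y8a : IsConj (word y8a) (word y8a ^ 3) :=
  isConj_iff.2 ⟨word [(97, 147), (6, 116)], O8.conj_of (by decide +kernel)⟩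

theorem conj5_y8a : IsConj (word y8a) (word y8a ^ 5) :=
  isConj_iff.2 ⟨word [(128, 182)], O8.conj_of (by decide +kernel)⟩

theorem pow_y8a : word y8a ^ 8 = 1 := O8.pow_of (by decide +kernel)

/-! ### `y8b` -/

/-- element of order 8 -/
def y8b : List (ℕ × ℕ) := [(8, 4), (28, 87), (224, 42)]

/-- matrix -/
def Ly8b : List ℕ := [66, 52, 194, 210, 12, 208, 11, 55]

/-- certificate -/
def Sy8b : List Step := [
  .fixd 0 2 1, .fixd 0 1 0, .cnt 0 0 0 6, .base 0 88 8 [0, 1], .andn 4 3, .base 0 12 2 [0, 1], .andn 10 5,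
  .andn 0 5, .andn 0 3, .andn 0 3, .and 1 4, .self 0 1 0, .cnt 2 0 0 4, .base 0 106 2 [0, 1, 2, 3],
  .and 17 1, .andn 0 17, .andn 0 4, .andn 0 16, .andn 0 16, .base 0 59 2 [0, 1, 2, 3, 4, 5, 6, 7],
  .and 36 10, .and 0 8, .base 0 11 1 [0, 1, 2, 3, 4, 5, 6, 7], .fin [770, 558, 785, 819, 17, 535, 275, 35]]

theorem l_y8b : chkL y8b Ly8b = true := by decide +kernel

theorem e_y8b : chkE Ly8b 7 Sy8b = true := by decide +kernel

theorem p_y8b : prodB Sy8b = 64 := by decide +kernel

theorem cent_y8b : Nat.card ↥(Subgroup.centralizer ({word y8b} : Set Om)) ≤ 32 := by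
  have h := cent_le_half l_y8b e_y8b (n := 38) (by decide +kernel) (by decide +kernel)
  rw [p_y8b] at h
  omega

theorem conj3_y8b : IsConj (word y8b) (word y8b ^ 3) :=
  isConj_iff.2 ⟨word [(97, 38), (157, 91)], O8.conj_of (by decide +kernel)⟩

theorem conj5_y8b : IsConj (word y8b) (word y8b ^ 5) :=
  isConj_iff.2 ⟨word [(28, 202)], O8.conj_of (by decide +kernel)⟩

theorem pow_y8b : word y8b ^ 8 = 1 := O8.pow_of (by decide +kernel)

/-! ### `y9a` -/

/-- element of order 9 -/
def y9a : List (ℕ × ℕ) := [(186, 237), (129, 88), (192, 81)]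

/-- matrix -/
def Ly9a : List ℕ := [193, 85, 13, 206, 179, 205, 250, 236]

/-- certificate -/
def Sy9a : List Step := [
  .fixd 0 1 1, .base 0 40 3 [0], .andn 2 1, .base 0 70 2 [0], .andn 0 3, .andn 0 6, .self 0 1 0,
  .base 0 18 9 [0, 1, 2, 3, 4, 5, 6, 7, 8], .fin [93, 625, 626, 22, 12, 590, 118, 104]]

theorem l_y9a : chkL y9a Ly9a = true := by decide +kernel

theorem e_y9a : chkE Ly9a 8 Sy9a = true := by decide +kernel

theorem p_y9a : prodB Sy9a = 54 := by decide +kernel

theorem cent_y9a : Nat.card ↥(Subgroup.centralizer ({word y9a} : Set Om)) ≤ 27 := by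
  have h := cent_le_half l_y9a e_y9a (n := 98) (by decide +kernel) (by decide +kernel)
  rw [p_y9a] at h
  omega

theorem conj2_y9a : IsConj (word y9a) (word y9a ^ 2) :=
  isConj_iff.2 ⟨word [(131, 152), (15, 54), (32, 177)], O8.conj_of (by decide +kernel)⟩

theorem pow_y9a : word y9a ^ 9 = 1 := O8.pow_of (by decide +kernel)

/-! ### `y9b` -/

/-- element of order 9 -/
def y9b : List (ℕ × ℕ) := [(64, 1), (231, 149), (205, 44), (16, 4)]

/-- matrix -/
def Ly9b : List ℕ := [41, 40, 206, 37, 125, 18, 8, 97]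

/-- certificate -/
def Sy9b : List Step := [
  .fixd 0 3 1, .base 0 39 3 [0, 1, 2], .andn 1 2, .andn 0 5, .self 0 4 1,
  .base 0 9 9 [0, 1, 2, 3, 4, 5, 6, 7, 8], .fin [100, 172, 156, 97, 72, 55, 194, 221]]

theorem l_y9b : chkL y9b Ly9b = true := by decide +kernel

theorem e_y9b : chkE Ly9b 8 Sy9b = true := by decide +kernel

theorem p_y9b : prodB Sy9b = 27 := by decide +kernel

theorem cent_y9b : Nat.card ↥(Subgroup.centralizer ({word y9b} : Set Om)) ≤ 27 := by
  have h := cent_le l_y9b e_y9b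
  rwa [p_y9b] at h

theorem conj2_y9b : IsConj (word y9b) (word y9b ^ 2) :=
  isConj_iff.2 ⟨word [(180, 92), (148, 162), (243, 23)], O8.conj_of (by decide +kernel)⟩

theorem pow_y9b : word y9b ^ 9 = 1 := O8.pow_of (by decide +kernel)

/-! ### `y5a` -/

/-- element of order 5 -/
def y5a : List (ℕ × ℕ) := [(44, 138), (246, 39)]

/-- matrix -/
def Ly5a : List ℕ := [252, 9, 249, 217, 64, 161, 75, 10]

/-- certificate -/
def Sy5a : List Step := [
  .fixd 0 1 1, .base 0 22 10 [0], .andn 2 0, .andn 0 2, .base 0 55 3 [0], .andn 2 1, .base 0 72 2 [0],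
  .andn 9 0, .and 0 8, .base 0 69 2 [0], .andn 4 7, .andn 0 12, .andn 0 2, .self 0 1 0,
  .base 0 23 5 [0, 1, 2, 3, 4], .fin [171, 36, 84, 137, 55, 222, 59, 186]]

theorem l_y5a : chkL y5a Ly5a = true := by decide +kernel

theorem e_y5a : chkE Ly5a 4 Sy5a = true := by decide +kernel

theorem p_y5a : prodB Sy5a = 600 := by decide +kernel

theorem cent_y5a : Nat.card ↥(Subgroup.centralizer ({word y5a} : Set Om)) ≤ 300 := by
  have h := cent_le_half l_y5a e_y5a (n := 61) (by decide +kernel) (by decide +kernel)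
  rw [p_y5a] at h
  omega

theorem conj2_y5a : IsConj (word y5a) (word y5a ^ 2) :=
  isConj_iff.2 ⟨word [(26, 39), (246, 124)], O8.conj_of (by decide +kernel)⟩

theorem pow_y5a : word y5a ^ 5 = 1 := O8.pow_of (by decide +kernel)

theorem ne_y5a : word y5a ^ 1 ≠ 1 := by
  rw [← O8.word_rp]
  exact O8.ne_one_of_tst (by decide +kernel)

/-! ### `y5b` -/

/-- element of order 5 -/
def y5b : List (ℕ × ℕ) := [(165, 10), (4, 128), (8, 64), (3, 187)]

/-- matrix -/
def Ly5b : List ℕ := [8, 1, 2, 15, 192, 95, 111, 67]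

/-- certificate -/
def Sy5b : List Step := [
  .self 0 1 0, .base 0 0 60 [0, 1, 2, 3, 4], .andn 6 4, .andn 0 4, .andn 0 4, .andn 0 4,
  .base 0 7 5 [0, 1, 2, 3, 4], .fin [396, 231, 462, 198, 108, 491, 261, 195]]

theorem l_y5b : chkL y5b Ly5b = true := by decide +kernel

theorem e_y5b : chkE Ly5b 4 Sy5b = true := by decide +kernel

theorem p_y5b : prodB Sy5b = 300 := by decide +kernel

theorem cent_y5b : Nat.card ↥(Subgroup.centralizer ({word y5b} : Set Om)) ≤ 300 := by
  have h := cent_le l_y5b e_y5b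
  rwa [p_y5b] at h

theorem conj2_y5b : IsConj (word y5b) (word y5b ^ 2) :=
  isConj_iff.2 ⟨word [(63, 46), (144, 143), (224, 172)], O8.conj_of (by decide +kernel)⟩

theorem pow_y5b : word y5b ^ 5 = 1 := O8.pow_of (by decide +kernel)

theorem ne_y5b : word y5b ^ 1 ≠ 1 := by
  rw [← O8.word_rp]
  exact O8.ne_one_of_tst (by decide +kernel)


/-! ### class functions -/

/-- the number of nonsingular vectors fixed by the square -/
noncomputable def fz (g : Om) : ℕ := Nat.card {v : V // q v = 1 ∧ (g : V ≃ₗ[ZMod 2] V) ((g : V ≃ₗ[ZMod 2] V) v) = v}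

theorem fz_conj {g h : Om} (hc : IsConj g h) : fz g = fz h := by
  obtain ⟨y, rfl⟩ := isConj_iff.1 hc
  refine Nat.card_congr (Equiv.subtypeEquiv (y : V ≃ₗ[ZMod 2] V).toEquiv fun v => ?_)
  show q v = 1 ∧ (g : V ≃ₗ[ZMod 2] V) ((g : V ≃ₗ[ZMod 2] V) v) = v ↔ q ((y : V ≃ₗ[ZMod 2] V) v) = 1 ∧
    ((y * g * y⁻¹ : Om) : V ≃ₗ[ZMod 2] V) (((y * g * y⁻¹ : Om) : V ≃ₗ[ZMod 2] V) ((y : V ≃ₗ[ZMod 2] V) v)) =
    (y : V ≃ₗ[ZMod 2] V) v
  have h1 : ∀ w, ((y * g * y⁻¹ : Om) : V ≃ₗ[ZMod 2] V) ((y : V ≃ₗ[ZMod 2] V) w) =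
      (y : V ≃ₗ[ZMod 2] V) ((g : V ≃ₗ[ZMod 2] V) w) := by
    intro w
    show (y : V ≃ₗ[ZMod 2] V) ((g : V ≃ₗ[ZMod 2] V) (((y : V ≃ₗ[ZMod 2] V)⁻¹) ((y : V ≃ₗ[ZMod 2] V) w))) = _
    have h2 : ((y : V ≃ₗ[ZMod 2] V)⁻¹) ((y : V ≃ₗ[ZMod 2] V) w) = w := (y : V ≃ₗ[ZMod 2] V).symm_apply_apply w
    rw [h2]
  rw [h1, h1, (y : V ≃ₗ[ZMod 2] V).injective.eq_iff, O8_q (Om_le y.2)]

/-- the number on codes -/
def fzn (l : List (ℕ × ℕ)) : ℕ := (List.range 256).countP fun v => qn v && ev l (ev l v) == v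

theorem fz_word {l : List (ℕ × ℕ)} (hl : l.all ok = true) (h : ∀ v : Fin 256, ev l (ev l v) < 256) :
    fz (word l) = fzn l := by
  have hb : Function.Bijective (fun a : Fin 256 => dec a.1) := by
    refine ⟨fun a b hab => Fin.ext (dec_inj a.2 b.2 hab), fun v => ?_⟩
    obtain ⟨a, ha, rfl⟩ := dec_surj v
    exact ⟨⟨a, ha⟩, rfl⟩
  have h1 : fz (word l) = Nat.card {a : Fin 256 // qn a = true ∧ ev l (ev l a) = a} := by
    refine Nat.card_congr (Equiv.subtypeEquiv (Equiv.ofBijective _ hb) fun a => ?_).symm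
    show qn a = true ∧ ev l (ev l a) = a ↔ q (dec a) = 1 ∧
      ((word l : Om) : V ≃ₗ[ZMod 2] V) (((word l : Om) : V ≃ₗ[ZMod 2] V) (dec a)) = dec a
    rw [word_dec hl, word_dec hl, q_dec]
    refine and_congr ⟨fun e => by rw [e]; rfl, fun e => cc_eq_one e⟩
      ⟨fun e => by rw [e], fun e => dec_inj (h a) a.2 e⟩
  rw [h1, Nat.card_eq_fintype_card, Fintype.card_subtype]
  have h2 : fzn l = ((List.finRange 256).countP fun a => qn a.1 && ev l (ev l a.1) == a.1) := by
    rw [fzn, ← List.map_coe_finRange_eq_range, List.countP_map]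
    rfl
  rw [h2, List.countP_eq_length_filter, ← List.toFinset_card_of_nodup ((List.nodup_finRange 256).filter _)]
  congr 1
  ext a
  simp

theorem not_conj_8 : ¬ IsConj (word y8a) (word y8b) := by
  intro h
  have h1 := fz_conj h
  rw [fz_word (by decide +kernel) (by decide +kernel), fz_word (by decide +kernel) (by decide +kernel)] at h1
  revert h1
  decide +kernel

theorem not_conj_9 : ¬ IsConj (word y9a) (word y9b) := by
  intro h
  have h1 := O8.fx_conj h
  rw [O8.fx_word (by decide +kernel) (by decide +kernel), O8.fx_word (by decide +kernel) (by decide +kernel)] at h1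
  revert h1
  decide +kernel

theorem not_conj_5 : ¬ IsConj (word y5a) (word y5b) := by
  intro h
  have h1 := O8.fx_conj h
  rw [O8.fx_word (by decide +kernel) (by decide +kernel), O8.fx_word (by decide +kernel) (by decide +kernel)] at h1
  revert h1
  decide +kernel

end Cfsg.Agent.H785.OZ8
end

-- part: H785/OZ8/Row
section
/-!
# S4842, the row `POmega⁺₈(2)` (helper785)

No irreducible character of `Ω₈⁺(2)` vanishes on exactly one class: `c = |C(x)| ≥ 6` (there are `2 ^ 24` elements of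
order a power of two), `2 ∤ χ(1)` and `3 ∤ χ(1)` by two classes of elements of order 8 and of order 9, the sieve leaves
`χ(1) = 7, 35`; `16 ≤ χ(1)`, and two classes of elements of order 5 exclude 35.
-/

set_option autoImplicit false
set_option maxRecDepth 100000

open Cfsg Cfsg.Agent.Characters Cfsg.Agent.H732.VZ Cfsg.Agent.H604.OZ

namespace Cfsg.Agent.H785.OZ8

open Cfsg.Agent.StdO8.Model Cfsg.Agent.StdO8.Code Cfsg.Agent.Nodes.RGDChev

universe u

/-- the facts on the group -/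
theorem fct_om : H320.O8.Fct Om := by
  obtain ⟨e⟩ := exists_equiv (F := ZMod 2) (by rw [ZMod.card])
  exact (H320.O8.fct_T (F := ZMod 2) (by rw [ZMod.card])).congr e.symm

theorem finite_om : Finite Om := Nat.finite_of_card_ne_zero (by rw [fct_om.card]; norm_num)

theorem simple_om : IsSimpleGroup Om := by
  obtain ⟨e⟩ := exists_equiv (F := ZMod 2) (by rw [ZMod.card])
  have hs : IsSimpleGroup (POmega (ZMod 2) (quadFormPlus 4 (ZMod 2))) := Cfsg.Agent.S0296.result 4 le_rfl
  have : Nontrivial Om := e.injective.nontrivial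
  exact IsSimpleGroup.isSimpleGroup_of_surjective e.toMonoidHom e.surjective

theorem fact_om : (174182400 : ℕ).factorization 2 = 12 := by
  rw [show (174182400 : ℕ) = 2 ^ 12 * 42525 by norm_num, Nat.factorization_mul (by norm_num) (by norm_num),
    Nat.Prime.factorization_pow Nat.prime_two, Finsupp.add_apply, Finsupp.single_eq_same,
    Nat.factorization_eq_zero_of_not_dvd (by norm_num)]

/-- the number of 2-elements -/
theorem card_two : (H730.OZ.pSet 2 Om).ncard = 2 ^ 24 := by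
  have hfin := finite_om
  obtain ⟨e⟩ := exists_equiv (F := ZMod 2) (by rw [ZMod.card])
  have hR : HasRGD 2 Om := (Cfsg.Agent.Nodes.WittInst.hasRGD_PO_plus (F := ZMod 2) 1 (p := 2)).of_equiv e
  have h := H631.Kaw.card_pSet hR
  rw [fct_om.card, fact_om] at h
  exact h

/-- degrees left by the sieve -/
def DD : List ℕ := [6, 7, 8, 14, 15, 20, 21, 27, 28, 35, 36, 42, 48, 56, 63, 64, 70, 84, 90, 105, 112, 120, 126, 140,
  160, 162, 168, 189, 210, 216, 224, 252, 280, 288, 315, 336, 378, 384, 405, 420, 448, 504, 512, 540, 560, 567, 630,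
  672, 720, 756, 840, 896, 945, 960, 1008, 1120, 1134, 1260, 1280, 1296, 1344, 1512, 1680, 1728, 1792, 1890, 2016,
  2240, 2268, 2304, 2520, 2688, 2835, 3024, 3072, 3240, 3360, 3584, 3780, 4032, 4320, 4480, 4536]

theorem DD_ok : ∀ d ∈ DD, 2 ∣ d ∨ 3 ∣ d ∨ d = 7 ∨ d = 35 := by decide +kernel

theorem not_dvd_of_coprime {m r : ℕ} (hr : r.Prime) (hd : r ∣ 174182400) (h : m.Coprime (Nat.card Om)) : ¬ r ∣ m := by
  rw [fct_om.card] at h
  intro h1
  have h2 := Nat.dvd_gcd h1 hd
  rw [h] at h2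
  exact hr.one_lt.ne' (Nat.dvd_one.1 h2)

theorem order_pp {y : Om} {r k : ℕ} (hr : r.Prime) (h : y ^ r ^ k = 1) : ∃ n, orderOf y = r ^ n := by
  obtain ⟨n, -, hn⟩ := (Nat.dvd_prime_pow hr).1 (orderOf_dvd_of_pow_eq_one h)
  exact ⟨n, hn⟩

theorem orderOf_y5 {l : List (ℕ × ℕ)} (h5 : word l ^ 5 = 1) (h1 : word l ^ 1 ≠ 1) : orderOf (word l) = 5 := by
  have : Fact (Nat.Prime 5) := ⟨by norm_num⟩
  rw [pow_one] at h1
  exact orderOf_eq_prime h5 h1

/-- **The row.** -/
theorem row_om : H730.OZ.Row Om := by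
  have hfin := finite_om
  have hsim := simple_om
  have hN := fct_om.card
  refine row_of fun χ x h => ?_
  have h4 : 4 ≤ cent x := four_le_cent h (by rw [hN]; norm_num) (by rw [hN]; norm_num)
  have h2e : (∃ k, orderOf x = 2 ^ k) → 11 ≤ cent x := by
    intro hx
    have h1 := card_le_of_pSet card_two hx
    rw [hN] at h1
    by_contra hlt
    have h2 : cent x ≤ 10 := by omega
    have h3 := Nat.mul_le_mul_left (2 ^ 24) h2
    omega
  have h6 : 6 ≤ cent x := by
    by_contra hlt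
    have h1 : cent x = 4 ∨ cent x = 5 := by omega
    rcases h1 with h1 | h1
    · have h2 := orderOf_dvd_cent x
      rw [h1] at h2
      obtain ⟨n, -, hn⟩ := (Nat.dvd_prime_pow Nat.prime_two).1 (show orderOf x ∣ 2 ^ 2 from h2)
      have h3 := h2e ⟨n, hn⟩
      omega
    · exact cent_prime (ne_one h) (by rw [h1]; norm_num) (by rw [h1, hN]; norm_num)
  -- the degree is odd
  have hd2 : ¬ 2 ∣ charDegree (χ : Om → ℂ) := by
    intro hd
    have o1 : ∃ n, orderOf (word y8a) = 2 ^ n := order_pp Nat.prime_two (k := 3) pow_y8a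
    have o2 : ∃ n, orderOf (word y8b) = 2 ^ n := order_pp Nat.prime_two (k := 3) pow_y8b
    have r1 : ∀ m : ℕ, m.Coprime (Nat.card Om) → IsConj (word y8a ^ m) (word y8a) := fun m hm =>
      rat8 pow_y8a conj3_y8a conj5_y8a (not_dvd_of_coprime Nat.prime_two (by norm_num) hm)
    have r2 : ∀ m : ℕ, m.Coprime (Nat.card Om) → IsConj (word y8b ^ m) (word y8b) := fun m hm =>
      rat8 pow_y8b conj3_y8b conj5_y8b (not_dvd_of_coprime Nat.prime_two (by norm_num) hm)
    by_cases hx1 : IsConj x (word y8a)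
    · have h1 := h2e (by
        obtain ⟨n, hn⟩ := o1
        exact ⟨n, by rw [orderOf_eq_of_conj hx1, hn]⟩)
      have h2 := H849.OZ.one_prime h Nat.prime_two hd o2 r2 fun h' => not_conj_8 (hx1.symm.trans h')
      have h3 : cent (word y8b) ≤ 32 := cent_y8b
      omega
    · by_cases hx2 : IsConj x (word y8b)
      · have h1 := h2e (by
          obtain ⟨n, hn⟩ := o2
          exact ⟨n, by rw [orderOf_eq_of_conj hx2, hn]⟩)
        have h2 := H849.OZ.one_prime h Nat.prime_two hd o1 r1 hx1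
        have h3 : cent (word y8a) ≤ 32 := cent_y8a
        omega
      · have h2 := two_prime h Nat.prime_two hd o1 o2 r1 r2 hx1 hx2 not_conj_8 cent_y8a cent_y8b
        omega
  -- the degree is prime to three
  have hd3 : ¬ 3 ∣ charDegree (χ : Om → ℂ) := by
    intro hd
    have o1 : ∃ n, orderOf (word y9a) = 3 ^ n := order_pp Nat.prime_three (k := 2) pow_y9a
    have o2 : ∃ n, orderOf (word y9b) = 3 ^ n := order_pp Nat.prime_three (k := 2) pow_y9b
    have r1 : ∀ m : ℕ, m.Coprime (Nat.card Om) → IsConj (word y9a ^ m) (word y9a) := fun m hm =>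
      rat9 pow_y9a conj2_y9a (not_dvd_of_coprime Nat.prime_three (by norm_num) hm)
    have r2 : ∀ m : ℕ, m.Coprime (Nat.card Om) → IsConj (word y9b ^ m) (word y9b) := fun m hm =>
      rat9 pow_y9b conj2_y9b (not_dvd_of_coprime Nat.prime_three (by norm_num) hm)
    by_cases hx1 : IsConj x (word y9a)
    · have h2 := H849.OZ.one_prime h Nat.prime_three hd o2 r2 fun h' => not_conj_9 (hx1.symm.trans h')
      have h3 : cent (word y9b) ≤ 27 := cent_y9b
      omega
    · have h2 := H849.OZ.one_prime h Nat.prime_three hd o1 r1 hx1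
      have h3 : cent (word y9a) ≤ 27 := cent_y9a
      omega
  have hc7 : ∀ y : Om, orderOf y = 7 → Nat.card (Subgroup.centralizer ({y} : Set Om)) = 7 := fct_om.c7
  have hiso : ∀ r ∈ [7], charDegree (χ : Om → ℂ) % r = 0 ∨ charDegree (χ : Om → ℂ) % r = 1 ∨
      charDegree (χ : Om → ℂ) % r = r - 1 := by
    intro r hr
    obtain rfl := List.mem_singleton.1 hr
    exact H672.OZ.iso_mod h (by norm_num) le_rfl (by rw [hN]; norm_num) (by rw [hN]; norm_num) (by rw [hN]; norm_num)
      hc7 h4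
  have hm := H672.OZ.mem_of_sieve h hN (l := [(2, 12), (3, 5), (5, 2), (7, 1)]) (by decide +kernel)
    (by
      intro x hx
      simp only [List.mem_cons, List.not_mem_nil, or_false] at hx
      rcases hx with rfl | rfl | rfl | rfl <;> norm_num)
    (by decide +kernel) h6 hiso (D := DD) (by decide +kernel)
  have h16 : 2 ^ 4 ≤ charDegree (χ : Om → ℂ) := HC_le h H329.O8.hc_om
  rcases DD_ok _ hm with h1 | h1 | h1 | h1
  · exact hd2 h1
  · exact hd3 h1
  · omega
  · -- degree 35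
    have hF : Fact (Nat.Prime 7) := ⟨by norm_num⟩
    obtain ⟨z, hz⟩ := exists_prime_orderOf_dvd_card' (G := Om) 7 (by rw [hN]; norm_num)
    have h5d : 5 ∣ charDegree (χ : Om → ℂ) := by rw [h1]; norm_num
    rcases H849.OZ.iso (by norm_num) le_rfl (by rw [hN]; norm_num) (by rw [hN]; norm_num) hz (hc7 z hz) h h4 with
      h2 | h2 | ⟨-, hx7, hcx, -⟩
    · rw [h1] at h2
      omega
    · rw [h1] at h2
      omega
    · have o1 := orderOf_y5 pow_y5a ne_y5a
      have o2 := orderOf_y5 pow_y5b ne_y5b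
      have h3 := two_prime h (r := 5) (by norm_num) h5d (y₁ := word y5a) (y₂ := word y5b) ⟨1, by rw [o1]; norm_num⟩
        ⟨1, by rw [o2]; norm_num⟩
        (fun m hm => rat5 pow_y5a conj2_y5a (not_dvd_of_coprime (by norm_num) (by norm_num) hm))
        (fun m hm => rat5 pow_y5b conj2_y5b (not_dvd_of_coprime (by norm_num) (by norm_num) hm))
        (fun h' => by
          have := orderOf_eq_of_conj h'
          rw [o1, hx7] at this
          omega)
        (fun h' => by
          have := orderOf_eq_of_conj h'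
          rw [o2, hx7] at this
          omega) not_conj_5 cent_y5a cent_y5b
      have h4' : cent x = 7 := hcx
      rw [h4'] at h3
      omega

/-- **S4842, the row `POmega⁺₈(2)`.** -/
theorem row_plus_eight_two {S : Type u} [Group S] [Finite S] (_hs : IsSimpleGroup S) {F : Type} [Field F] [Fintype F]
    (hF : Fintype.card F = 2) (e : S ≃* POmega F (quadFormPlus 4 F)) : H730.OZ.Row S := by
  have hfin := finite_om
  obtain ⟨f⟩ := exists_equiv hF
  exact H730.OZ.Row.congr (e.trans f) row_om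

end Cfsg.Agent.H785.OZ8
end

-- part: H128/OZ/PlusFin
section
/-!
# S4842: the family `POmega⁺`, from the row `POmega⁺₈ (q)`, `q ≥ 3` (helper128)
-/

set_option autoImplicit false

namespace Cfsg.Agent.H128.OZ

open Cfsg Cfsg.Agent.H730.OZ Cfsg.Agent.H530.OZ

universe u

/-- the row `POmega⁺₈ (q)`, `q ≥ 3` -/
def PlusEight : Prop := ∀ {S : Type u} [Group S] [Finite S], IsSimpleGroup S → ∀ {F : Type} [Field F] [Fintype F],
    3 ≤ Fintype.card F → (S ≃* POmega F (quadFormPlus 4 F)) → Cfsg.Agent.H730.OZ.Row S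

theorem prim17 : Prim 2 8 17 where
  prime := by norm_num
  iff m := by
    have h : ∀ m : ℕ, 2 ^ m % 17 = 2 ^ (m % 8) % 17 := by
      intro m
      conv_lhs => rw [← Nat.div_add_mod m 8, pow_add, pow_mul]
      rw [Nat.mul_mod, Nat.pow_mod]
      norm_num
    have h1 : 1 ≤ 2 ^ m := Nat.one_le_two_pow
    rw [← (Nat.modEq_iff_dvd' h1), Nat.ModEq, Nat.dvd_iff_mod_eq_zero]
    have h2 : m % 8 < 8 := Nat.mod_lt _ (by norm_num)
    rw [h m]
    generalize m % 8 = k at h2
    interval_cases k <;> simp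
  dvd := by norm_num
  nd := by norm_num

theorem plusRest (H : PlusEight.{u}) : PlusRest.{u} where
  eight := H
  eight_two := fun hs _ _ _ hF e => H785.OZ8.row_plus_eight_two hs hF e
  seventeen := fun _ _ _ _ hF e => kc_plus (n := 6) le_rfl e 2 1 17 Nat.prime_two (by rw [hF]; norm_num) prim17
  kc := fun _ _ _ _ _ hn _ _ e => kc_plus hn e

/-- **The family `POmega⁺`** -/
theorem row_isPOmegaPlus (H : PlusEight.{u}) {S : Type u} [Group S] [Finite S] (hs : IsSimpleGroup S)
    (h : IsPOmegaPlus S) : Cfsg.Agent.H730.OZ.Row S := row_isPOmegaPlus_of' (plusRest H) hs h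

end Cfsg.Agent.H128.OZ
end

-- part: H292/OZ/Gl
section
/-!
# S4842, `POmega⁺_8(q)`: Levi elements `(A, A^(-T))` from algebras `K × F × ... × F` (helper292)

`V = Fin m ⊕ Fin m → F`, `Q = plusForm m F`.

* `gl m : GL (Fin m) F →* (V ≃ₗ V)`, `gl_mem_O`, `gl_mem_E` (`det A` a square)
* `tz b : Rˣ →* (V ≃ₗ V)`, `R` a commutative algebra with basis `b : Basis (Fin m) F R`; `tz_eq : tz b u = Dg b (u, u⁻¹)`;
  `tz_sq_mem_E`, `tz_mem_E`
* `not_conj` : `φ z`, `φ z'` are not conjugate in `POmega` if some polynomial kills `z`, but neither `z'` nor `-z'`.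
* `Ok F k u` (`u : Kˣ`, `|K : F| = k`, `F(u) = K`, `u⁻¹` not conjugate to `u`); `root_pow`, `Ok.surj`, `Ok.coprime`
* `zz bK u s` : the element `(u; s)`, `R = K × F^l`, `m = k + l`; `Dat`, `dat_zz`, `Pz`, `aeval_Pz`, `zz_aeval_ne`, `zz_aeval_neg_ne`
-/

set_option autoImplicit false
set_option linter.unusedSectionVars false

namespace Cfsg.Agent.H292.OZ

open Cfsg.Agent.LieClassical.OrthCore Cfsg.Agent.LieClassical.OrthTrans Cfsg.Agent.LieClassical.OrthFinite
  Cfsg.Agent.LieClassical.OrthForms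
  Cfsg.Agent.ClassicalGeometry.OrthAut1 Cfsg.Agent.ClassicalGeometry.OrthSemi
  Cfsg.Agent.ClassicalGeometry.OrthSemiForms Cfsg.Agent.H439.Der Cfsg.Agent.H372 Cfsg.Agent.H964.Opm
open Module QuadraticMap Matrix Polynomial

section glsec

variable {F : Type*} [Field F] {m : ℕ}

/-- the element `(A, A^(-T))` -/
noncomputable def gl (m : ℕ) : GL (Fin m) F →* ((Fin m ⊕ Fin m → F) ≃ₗ[F] (Fin m ⊕ Fin m → F)) :=
  (glEquiv (Fin m ⊕ Fin m) F).toMonoidHom.comp (leviGL m)

theorem gl_apply (A : GL (Fin m) F) (v : Fin m ⊕ Fin m → F) :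
    gl m A v = Sum.elim (A.1 *ᵥ (v ∘ Sum.inl)) ((A⁻¹).1ᵀ *ᵥ (v ∘ Sum.inr)) := by
  show ((leviGL m A : GL (Fin m ⊕ Fin m) F) : Matrix (Fin m ⊕ Fin m) (Fin m ⊕ Fin m) F) *ᵥ v = _
  rw [coe_leviGL, fromBlocks_mulVec]
  simp only [zero_mulVec, add_zero, zero_add]

theorem gl_mem_O (A : GL (Fin m) F) : gl m A ∈ O (plusForm m F) := by
  intro v
  have h := mem_isometryGroup_iff.1 (leviGL_mem m A) v
  rw [← coe_plusForm] at h
  exact h

theorem gl_sl_mem_E [Finite F] (hm : 3 ≤ m) (A : SpecialLinearGroup (Fin m) F) :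
    gl m (SpecialLinearGroup.toGL A) ∈ E (plusForm m F) := leviLin_mem_E hm A

/-- **`(A, A^(-T))` is in `E Q` if `det A` is a square.** -/
theorem gl_mem_E [Finite F] (hm : 3 ≤ m) {A : GL (Fin m) F} (h : IsSquare (Matrix.GeneralLinearGroup.det A)) :
    gl m A ∈ E (plusForm m F) := by
  have := Fintype.ofFinite F
  obtain ⟨c, hc⟩ := h
  let i0 : Fin m := ⟨0, by omega⟩
  let B : GL (Fin m) F := Matrix.GeneralLinearGroup.mkOfDetNeZero (Matrix.diagonal (Function.update 1 i0 (c : F))) (by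
    rw [det_diagonal, Finset.prod_update_of_mem (Finset.mem_univ _)]
    simp)
  have hB : Matrix.GeneralLinearGroup.det B = c := by
    apply Units.ext
    show Matrix.det (Matrix.diagonal (Function.update 1 i0 (c : F))) = c
    rw [det_diagonal, Finset.prod_update_of_mem (Finset.mem_univ _)]
    simp
  have h1 : Matrix.GeneralLinearGroup.det (A * (B * B)⁻¹) = 1 := by
    rw [map_mul, map_inv, map_mul, hB, hc, mul_inv_cancel]
  have h2 : (A * (B * B)⁻¹).1.det = 1 := congrArg Units.val h1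
  have h3 : SpecialLinearGroup.toGL (⟨(A * (B * B)⁻¹).1, h2⟩ : SpecialLinearGroup (Fin m) F) = A * (B * B)⁻¹ :=
    Units.ext rfl
  have h4 : gl m (A * (B * B)⁻¹) ∈ E (plusForm m F) := by
    rw [← h3]
    exact gl_sl_mem_E hm _
  have h5 : gl m A = gl m (A * (B * B)⁻¹) * (gl m B * gl m B) := by
    rw [← map_mul, ← map_mul, inv_mul_cancel_right]
  rw [h5]
  exact (E (plusForm m F)).mul_mem h4 (sq_mem_E (good_plus hm) (gl_mem_O B))

end glsec

section torus

variable {F : Type*} [Field F] {m : ℕ} {R : Type*} [CommRing R] [Algebra F R]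

/-- the algebra of the torus -/
noncomputable def Dg (b : Basis (Fin m) F R) : R × R →ₐ[F] Module.End F (Fin m ⊕ Fin m → F) where
  toFun x := Matrix.toLin' (fromBlocks (Algebra.leftMulMatrix b x.1) 0 0 (Algebra.leftMulMatrix b x.2)ᵀ)
  map_one' := by
    rw [Prod.fst_one, Prod.snd_one, map_one, transpose_one, fromBlocks_one, Matrix.toLin'_one]
    rfl
  map_mul' x y := by
    rw [Module.End.mul_eq_comp, ← Matrix.toLin'_mul, fromBlocks_multiply, Prod.fst_mul, Prod.snd_mul, map_mul,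
      mul_comm x.2 y.2, map_mul, transpose_mul]
    simp
  map_zero' := by
    rw [Prod.fst_zero, Prod.snd_zero, map_zero, transpose_zero, fromBlocks_zero, map_zero]
  map_add' x y := by
    rw [← map_add, fromBlocks_add, Prod.fst_add, Prod.snd_add, map_add, map_add, transpose_add, add_zero]
  commutes' r := by
    have h1 : (algebraMap F (R × R) r).1 = algebraMap F R r := rfl
    have h2 : (algebraMap F (R × R) r).2 = algebraMap F R r := rfl
    rw [h1, h2, AlgHom.commutes]
    ext v i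
    rw [LinearMap.comp_apply, LinearMap.comp_apply, Matrix.toLin'_apply, fromBlocks_mulVec,
      Module.algebraMap_end_apply]
    rcases i with i | i
    · simp [Matrix.algebraMap_eq_diagonal, Matrix.mulVec_diagonal]
    · simp [Matrix.algebraMap_eq_diagonal, Matrix.mulVec_diagonal]

theorem Dg_apply (b : Basis (Fin m) F R) (x : R × R) (v : Fin m ⊕ Fin m → F) :
    Dg b x v = Sum.elim (Algebra.leftMulMatrix b x.1 *ᵥ (v ∘ Sum.inl))
      ((Algebra.leftMulMatrix b x.2)ᵀ *ᵥ (v ∘ Sum.inr)) := by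
  show Matrix.toLin' (fromBlocks (Algebra.leftMulMatrix b x.1) 0 0 (Algebra.leftMulMatrix b x.2)ᵀ) v = _
  rw [Matrix.toLin'_apply, fromBlocks_mulVec]
  simp only [zero_mulVec, add_zero, zero_add]

theorem Dg_fst_eq_zero (b : Basis (Fin m) F R) {x : R × R} (h : Dg b x = 0) : x.1 = 0 := by
  apply Algebra.leftMulMatrix_injective b
  rw [map_zero]
  have h1 : Matrix.toLin' (fromBlocks (Algebra.leftMulMatrix b x.1) 0 0 (Algebra.leftMulMatrix b x.2)ᵀ) = 0 := h
  have h2 := (Matrix.toLin' (R := F)).injective (h1.trans (map_zero _).symm)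
  rw [← fromBlocks_zero] at h2
  exact (fromBlocks_inj.1 h2).1

/-- the vector of `W` with coordinates `y` -/
noncomputable def vl (b : Basis (Fin m) F R) : R →ₗ[F] (Fin m ⊕ Fin m → F) where
  toFun y := Sum.elim (b.repr y) 0
  map_add' x y := by
    ext i
    rcases i with i | i <;> simp
  map_smul' a x := by
    ext i
    rcases i with i | i <;> simp

theorem vl_apply (b : Basis (Fin m) F R) (y : R) : vl b y = Sum.elim (b.repr y) 0 := rfl

theorem vl_injective (b : Basis (Fin m) F R) : Function.Injective (vl b) := by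
  intro x y h
  apply b.repr.injective
  ext i
  exact congrFun h (Sum.inl i)

theorem vl_basis (b : Basis (Fin m) F R) (i : Fin m) : vl b (b i) = Pi.single (Sum.inl i) 1 := by
  ext j
  rcases j with j | j
  · rw [vl_apply, Sum.elim_inl, Basis.repr_self, Finsupp.single_apply, Pi.single_apply]
    simp [eq_comm]
  · rw [vl_apply, Sum.elim_inr, Pi.single_apply]
    simp

theorem Dg_vl (b : Basis (Fin m) F R) (x : R × R) (y : R) : Dg b x (vl b y) = vl b (x.1 * y) := by
  rw [Dg_apply, vl_apply, vl_apply, Sum.elim_comp_inl, Sum.elim_comp_inr, mulVec_zero,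
    Algebra.leftMulMatrix_mulVec_repr]

/-- `x.2` acts on the dual space -/
theorem Dg_inr (b : Basis (Fin m) F R) (x : R × R) (i : Fin m) :
    Dg b x (Pi.single (Sum.inr i) 1) = Sum.elim (0 : Fin m → F) (fun j => b.repr (x.2 * b j) i) := by
  rw [Dg_apply]
  have h1 : (Pi.single (Sum.inr i) 1 : Fin m ⊕ Fin m → F) ∘ Sum.inl = 0 := by
    ext j; simp
  have h2 : (Pi.single (Sum.inr i) 1 : Fin m ⊕ Fin m → F) ∘ Sum.inr = Pi.single i 1 := by
    ext j; simp [Pi.single_apply]
  rw [h1, h2, mulVec_zero, mulVec_single_one]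
  congr 1
  ext j
  rw [col_apply, transpose_apply, Algebra.leftMulMatrix_eq_repr_mul]

/-- the torus -/
noncomputable def tz (b : Basis (Fin m) F R) : Rˣ →* ((Fin m ⊕ Fin m → F) ≃ₗ[F] (Fin m ⊕ Fin m → F)) :=
  (gl m).comp (Units.map (Algebra.leftMulMatrix b : R →* _))

theorem tz_eq (b : Basis (Fin m) F R) (ζ : Rˣ) :
    (tz b ζ : Module.End F (Fin m ⊕ Fin m → F)) = Dg b ((ζ : R), ((ζ⁻¹ : Rˣ) : R)) := by
  refine LinearMap.ext fun v => ?_
  rw [Dg_apply]
  show gl m (Units.map (Algebra.leftMulMatrix b : R →* _) ζ) v = _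
  rw [gl_apply, ← map_inv]
  rfl

theorem tz_apply (b : Basis (Fin m) F R) (ζ : Rˣ) (v : Fin m ⊕ Fin m → F) :
    tz b ζ v = Dg b ((ζ : R), ((ζ⁻¹ : Rˣ) : R)) v := LinearMap.congr_fun (tz_eq b ζ) v

theorem tz_vl (b : Basis (Fin m) F R) (ζ : Rˣ) (y : R) : tz b ζ (vl b y) = vl b (ζ * y) := by
  rw [tz_apply, Dg_vl]

theorem tz_mem_O (b : Basis (Fin m) F R) (ζ : Rˣ) : tz b ζ ∈ O (plusForm m F) := gl_mem_O _

theorem tz_injective (b : Basis (Fin m) F R) : Function.Injective (tz b) := by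
  intro x y h
  have h1 : vl b ((x : R) * 1) = vl b ((y : R) * 1) := by rw [← tz_vl, ← tz_vl, h]
  have h2 := vl_injective b h1
  rw [mul_one, mul_one] at h2
  exact Units.ext h2

theorem tz_sq_mem_E [Finite F] (hm : 3 ≤ m) (b : Basis (Fin m) F R) (ζ : Rˣ) : tz b (ζ * ζ) ∈ E (plusForm m F) := by
  have := Fintype.ofFinite F
  rw [map_mul]
  exact sq_mem_E (good_plus hm) (tz_mem_O b ζ)

theorem tz_mem_E [Finite F] (hm : 3 ≤ m) (b : Basis (Fin m) F R) {ζ : Rˣ} {c : F} (hc : c ≠ 0)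
    (h : Algebra.norm F (ζ : R) = c * c) : tz b ζ ∈ E (plusForm m F) := by
  apply gl_mem_E hm
  refine ⟨Units.mk0 c hc, Units.ext ?_⟩
  rw [Units.val_mul, Units.val_mk0, ← h, Algebra.norm_eq_matrix_det b]
  rfl

/-- a polynomial killing `ζ` and `ζ⁻¹` kills `tz b ζ` -/
theorem aeval_tz (b : Basis (Fin m) F R) (ζ : Rˣ) (f : F[X]) :
    aeval (tz b ζ : Module.End F (Fin m ⊕ Fin m → F)) f = Dg b (aeval (ζ : R) f, aeval ((ζ⁻¹ : Rˣ) : R) f) := by
  rw [tz_eq, aeval_algHom_apply]
  congr 1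
  apply Prod.ext
  · have e := aeval_algHom_apply (AlgHom.fst F R R) ((ζ : R), ((ζ⁻¹ : Rˣ) : R)) f
    rw [AlgHom.fst_apply, AlgHom.fst_apply] at e
    exact e.symm
  · have e := aeval_algHom_apply (AlgHom.snd F R R) ((ζ : R), ((ζ⁻¹ : Rˣ) : R)) f
    rw [AlgHom.snd_apply, AlgHom.snd_apply] at e
    exact e.symm

end torus

section conj

variable {F V : Type*} [Field F] [AddCommGroup V] [Module F V] {Q : QuadraticForm F V}

/-- central elements of `E` -/
theorem center_cases (hG : Good Q) {z : ↥(E Q)}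
    (hz : z ∈ Subgroup.center ↥(E Q)) : z = 1 ∨ ∀ v, (z : V ≃ₗ[F] V) v = -v := by
  obtain ⟨c, hc⟩ := center_scalar hG hz
  have h1 := center_sq hG hz
  obtain ⟨x, hx0, -⟩ := hG.sing
  have h2 : (z : V ≃ₗ[F] V) ((z : V ≃ₗ[F] V) x) = x := congrArg (fun w : ↥(E Q) => (w : V ≃ₗ[F] V) x) h1
  rw [hc, hc, smul_smul] at h2
  have h3 : (c * c - 1) • x = 0 := by rw [sub_smul, one_smul, h2, sub_self]
  have h4 : c * c = 1 := by
    rcases smul_eq_zero.1 h3 with h5 | h5
    · exact sub_eq_zero.1 h5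
    · exact absurd h5 hx0
  rcases mul_self_eq_one_iff.1 h4 with h5 | h5
  · left
    apply Subtype.ext
    ext v
    rw [hc, h5, one_smul]
    rfl
  · right
    intro v
    rw [hc, h5, neg_smul, one_smul]

theorem aeval_conj (y z : V ≃ₗ[F] V) {P : F[X]} (hP : aeval (z : Module.End F V) P = 0) :
    aeval ((y * z * y⁻¹ : V ≃ₗ[F] V) : Module.End F V) P = 0 := by
  have h1 : ((y * z * y⁻¹ : V ≃ₗ[F] V) : Module.End F V) = y.conjAlgEquiv F (z : Module.End F V) := by
    ext v
    rfl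
  rw [h1]
  have h2 := aeval_algHom_apply ((y.conjAlgEquiv F : Module.End F V ≃ₐ[F] Module.End F V) :
    Module.End F V →ₐ[F] Module.End F V) (z : Module.End F V) P
  rw [hP, map_zero] at h2
  exact h2

end conj

section conj'

variable {F : Type*} [Field F] {ι : Type} [Fintype ι] [DecidableEq ι] {Q : QuadraticForm F (ι → F)}

local notation "V" => ι → F

/-- **The images in `POmega` are not conjugate.** -/
theorem not_conj (hG : Good Q) {z z' : ↥(E Q)} {P : F[X]} (hP : aeval ((z : V ≃ₗ[F] V) : Module.End F V) P = 0)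
    (h1 : aeval ((z' : V ≃ₗ[F] V) : Module.End F V) P ≠ 0)
    (h2 : aeval (-((z' : V ≃ₗ[F] V) : Module.End F V)) P ≠ 0) (y : Cfsg.POmega F ⇑Q) :
    y * Cfsg.Agent.TitsThree.KSideO.toPOmega hG z * y⁻¹ ≠ Cfsg.Agent.TitsThree.KSideO.toPOmega hG z' := by
  obtain ⟨y, rfl⟩ := Cfsg.Agent.TitsThree.KSideO.toPOmega_surjective hG y
  intro h
  have h3 : Cfsg.Agent.TitsThree.KSideO.toPOmega hG (y * z * y⁻¹ * z'⁻¹) = 1 := by
    rw [map_mul, map_mul, map_mul, map_inv, map_inv, h, mul_inv_cancel]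
  have h4 := aeval_conj (y : V ≃ₗ[F] V) (z : V ≃ₗ[F] V) hP
  rcases center_cases hG (Cfsg.Agent.TitsThree.KSideO.center_of_toPOmega hG h3) with h5 | h5
  · rw [mul_inv_eq_one] at h5
    apply h1
    rw [← h5]
    exact h4
  · apply h2
    have h6 : -((z' : V ≃ₗ[F] V) : Module.End F V) = (((y : V ≃ₗ[F] V) * z * (y : V ≃ₗ[F] V)⁻¹ : V ≃ₗ[F] V) :
        Module.End F V) := by
      refine LinearMap.ext fun v => ?_
      have h7 := h5 ((z' : V ≃ₗ[F] V) v)
      have h8 : ((y * z * y⁻¹ * z'⁻¹ : ↥(E Q)) : V ≃ₗ[F] V) ((z' : V ≃ₗ[F] V) v) =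
          ((y : V ≃ₗ[F] V) * z * (y : V ≃ₗ[F] V)⁻¹ : V ≃ₗ[F] V) v := by
        have h9 : (y * z * y⁻¹ * z'⁻¹ : ↥(E Q)) * z' = y * z * y⁻¹ := by group
        exact congrArg (fun w : ↥(E Q) => (w : V ≃ₗ[F] V) v) h9
      rw [h8] at h7
      exact h7.symm
    rw [h6]
    exact h4

end conj'

section field

variable {F : Type*} [Field F] [Finite F] {K : Type*} [Field K] [Finite K] [Algebra F K]

theorem pow_red {k : ℕ} (hk : finrank F K = k) (x : K) (i : ℕ) :
    x ^ (Nat.card F ^ i) = x ^ (Nat.card F ^ (i % k)) := by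
  have := Fintype.ofFinite K
  have hc : Fintype.card K = Nat.card F ^ k := by
    rw [← Nat.card_eq_fintype_card, Module.natCard_eq_pow_finrank (K := F), hk]
  have key : ∀ j : ℕ, ∀ y : K, y ^ (Nat.card F ^ (k * j)) = y := by
    intro j y
    rw [pow_mul, ← hc]
    exact FiniteField.pow_card_pow j y
  conv_lhs => rw [← Nat.div_add_mod i k, pow_add, pow_mul, key]

/-- roots of the minimal polynomial -/
theorem root_pow {k : ℕ} (hk : finrank F K = k) {u w : K} (h : aeval w (minpoly F u) = 0) :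
    ∃ i < k, w = u ^ (Nat.card F ^ i) := by
  have h3 := isConjRoot_of_aeval_eq_zero (Algebra.IsIntegral.isIntegral u) h
  obtain ⟨τ, hτ⟩ := isConjRoot_iff_exists_algEquiv.1 h3.symm
  have := Fintype.ofFinite F
  obtain ⟨⟨i, hi⟩, rfl⟩ := (FiniteField.bijective_frobeniusAlgEquivOfAlgebraic_pow F K).2 τ
  rw [hk] at hi
  refine ⟨i, hi, ?_⟩
  rw [← hτ, AlgEquiv.coe_pow, FiniteField.coe_frobeniusAlgEquivOfAlgebraic_iterate, Nat.card_eq_fintype_card]

/-- conditions on `u` -/
structure Ok (F : Type*) [Field F] {K : Type*} [Field K] [Algebra F K] (k : ℕ) (u : Kˣ) : Prop where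
  fin : finrank F K = k
  two : 2 ≤ k
  gen : ∀ i, 0 < i → i < k → u ^ (Nat.card F ^ i) ≠ u
  inv : ∀ i, i < k → u ^ (Nat.card F ^ i) ≠ u⁻¹

namespace Ok

variable {k : ℕ} {u : Kˣ} (h : Ok F k u)
include h

theorem surj : Function.Surjective (aeval (u : K) : F[X] →ₐ[F] K) := by
  have hk := h.fin
  have h1 : IntermediateField.adjoin F {(u : K)} = ⊤ := by
    set M := IntermediateField.adjoin F {(u : K)} with hM
    have h2 : (u : K) ∈ M := IntermediateField.mem_adjoin_simple_self F _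
    have h3 : finrank F M ≤ k := by rw [← hk]; exact Submodule.finrank_le M.toSubmodule
    have h4 : 0 < finrank F M := Module.finrank_pos
    have h5 : (u : K) ^ (Nat.card F ^ finrank F M) = u := by
      have := Fintype.ofFinite M
      have h6 : Fintype.card M = Nat.card F ^ finrank F M := by
        rw [← Nat.card_eq_fintype_card, Module.natCard_eq_pow_finrank (K := F)]
      have h7 := FiniteField.pow_card (⟨u, h2⟩ : M)
      rw [h6] at h7
      exact congrArg Subtype.val h7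
    have h8 : finrank F M = k := by
      by_contra hne
      exact h.gen _ h4 (lt_of_le_of_ne h3 hne) (Units.ext (by rw [Units.val_pow_eq_pow_val]; exact h5))
    refine IntermediateField.eq_of_le_of_finrank_eq le_top ?_
    rw [IntermediateField.finrank_top', h8, hk]
  have h2 : Algebra.adjoin F {(u : K)} = ⊤ := by
    rw [← IntermediateField.adjoin_simple_toSubalgebra_of_isAlgebraic (Algebra.IsAlgebraic.isAlgebraic _), h1]
    rfl
  rw [Algebra.adjoin_singleton_eq_range_aeval] at h2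
  exact (AlgHom.range_eq_top _).1 h2

theorem inv' : Ok F k u⁻¹ where
  fin := h.fin
  two := h.two
  gen i h1 h2 h3 := by
    rw [inv_pow, _root_.inv_inj] at h3
    exact h.gen i h1 h2 h3
  inv i h1 h2 := by
    rw [inv_pow, _root_.inv_inj] at h2
    exact h.inv i h1 h2

theorem ne_algebraMap (a : F) : (u : K) ≠ algebraMap F K a := by
  intro h1
  have := Fintype.ofFinite F
  apply h.gen 1 one_pos (by have := h.two; omega)
  apply Units.ext
  rw [Units.val_pow_eq_pow_val, pow_one, h1, ← map_pow, Nat.card_eq_fintype_card, FiniteField.pow_card]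

theorem neg_ne_algebraMap (a : F) : -(u : K) ≠ algebraMap F K a := by
  intro h1
  apply h.ne_algebraMap (-a)
  rw [map_neg, ← h1, neg_neg]

theorem eval_ne (a : F) : (minpoly F (u : K)).eval a ≠ 0 := by
  intro h1
  have h2 : aeval (algebraMap F K a) (minpoly F (u : K)) = 0 := by
    rw [aeval_algebraMap_apply, coe_aeval_eq_eval, h1, map_zero]
  obtain ⟨i, hi, h3⟩ := root_pow h.fin h2
  have h4 : (algebraMap F K a) ^ (Nat.card F ^ (k - i)) = u := by
    rw [h3, ← pow_mul, ← pow_add, Nat.add_sub_cancel' hi.le, pow_red h.fin, Nat.mod_self, pow_zero, pow_one]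
  rw [← map_pow] at h4
  exact h.ne_algebraMap _ h4.symm

theorem coprime : IsCoprime (minpoly F (u : K)) (minpoly F ((u⁻¹ : Kˣ) : K)) := by
  have i1 := minpoly.irreducible (Algebra.IsIntegral.isIntegral (R := F) (u : K))
  have i2 := minpoly.irreducible (Algebra.IsIntegral.isIntegral (R := F) ((u⁻¹ : Kˣ) : K))
  rw [i1.coprime_iff_not_dvd]
  intro h1
  have h2 : aeval ((u⁻¹ : Kˣ) : K) (minpoly F (u : K)) = 0 := by
    have h3 := i1.associated_of_dvd i2 h1
    have h4 := eq_of_monic_of_associated (minpoly.monic (Algebra.IsIntegral.isIntegral _))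
      (minpoly.monic (Algebra.IsIntegral.isIntegral _)) h3
    rw [h4]
    exact minpoly.aeval _ _
  obtain ⟨i, hi, h3⟩ := root_pow h.fin h2
  exact h.inv i hi (Units.ext (by rw [Units.val_pow_eq_pow_val]; exact h3.symm))

end Ok

end field

section prod

variable {F : Type*} [Field F] {K : Type*} [Field K] [Algebra F K] {k l : ℕ}

/-- the basis of `K × F × ... × F` -/
noncomputable def bb (bK : Basis (Fin k) F K) (l : ℕ) : Basis (Fin (k + l)) F (K × (Fin l → F)) :=
  (bK.prod (Pi.basisFun F (Fin l))).reindex finSumFinEquiv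

theorem bb_castAdd (bK : Basis (Fin k) F K) (i : Fin k) : bb bK l (Fin.castAdd l i) = (bK i, 0) := by
  rw [bb, Basis.reindex_apply, finSumFinEquiv_symm_apply_castAdd, Basis.prod_apply]
  simp

theorem bb_natAdd (bK : Basis (Fin k) F K) (j : Fin l) : bb bK l (Fin.natAdd k j) = (0, Pi.single j 1) := by
  rw [bb, Basis.reindex_apply, finSumFinEquiv_symm_apply_natAdd, Basis.prod_apply]
  simp

theorem bb_repr_castAdd (bK : Basis (Fin k) F K) (y : K × (Fin l → F)) (i : Fin k) :
    (bb bK l).repr y (Fin.castAdd l i) = bK.repr y.1 i := by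
  rw [bb, Basis.repr_reindex, Finsupp.mapDomain_equiv_apply, finSumFinEquiv_symm_apply_castAdd]
  rfl

theorem bb_repr_natAdd (bK : Basis (Fin k) F K) (y : K × (Fin l → F)) (j : Fin l) :
    (bb bK l).repr y (Fin.natAdd k j) = y.2 j := by
  rw [bb, Basis.repr_reindex, Finsupp.mapDomain_equiv_apply, finSumFinEquiv_symm_apply_natAdd]
  rfl

/-- the unit `(u; s)` -/
noncomputable def ur (u : Kˣ) (s : Fin l → Fˣ) : (K × (Fin l → F))ˣ where
  val := (u, fun j => s j)
  inv := ((u⁻¹ : Kˣ), fun j => ((s j)⁻¹ : Fˣ))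
  val_inv := by
    ext
    · simp
    · simp
  inv_val := by
    ext
    · simp
    · simp

theorem ur_val (u : Kˣ) (s : Fin l → Fˣ) : ((ur u s : (K × (Fin l → F))ˣ) : K × (Fin l → F)) = ((u : K), fun j => (s j : F)) := rfl

theorem ur_inv (u : Kˣ) (s : Fin l → Fˣ) : (ur u s)⁻¹ = ur u⁻¹ (fun j => (s j)⁻¹) := Units.ext rfl

theorem ur_mul (u u' : Kˣ) (s s' : Fin l → Fˣ) : ur u s * ur u' s' = ur (u * u') (fun j => s j * s' j) := Units.ext rfl

theorem norm_ur [FiniteDimensional F K] (u : Kˣ) (s : Fin l → Fˣ) :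
    Algebra.norm F ((ur u s : (K × (Fin l → F))ˣ) : K × (Fin l → F)) = Algebra.norm F (u : K) * ∏ j, (s j : F) := by
  rw [ur_val, Algebra.norm_apply]
  have h1 : (LinearMap.mul F (K × (Fin l → F))) ((u : K), fun j => (s j : F)) =
      LinearMap.prodMap (LinearMap.mul F K u) (Matrix.toLin' (Matrix.diagonal fun j => (s j : F))) := by
    refine LinearMap.ext fun x => ?_
    apply Prod.ext
    · rfl
    · ext j
      show (s j : F) * x.2 j = Matrix.toLin' (Matrix.diagonal fun j => (s j : F)) x.2 j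
      rw [Matrix.toLin'_apply, Matrix.mulVec_diagonal]
  have h2 : (Algebra.lmul F (K × (Fin l → F))) ((u : K), fun j => (s j : F)) =
      (LinearMap.mul F (K × (Fin l → F))) ((u : K), fun j => (s j : F)) := rfl
  rw [h2, h1, LinearMap.det_prodMap, LinearMap.det_toLin', det_diagonal]
  rfl

theorem aeval_ur (u : Kˣ) (s : Fin l → Fˣ) (f : F[X]) :
    aeval ((ur u s : (K × (Fin l → F))ˣ) : K × (Fin l → F)) f = (aeval (u : K) f, fun j => f.eval (s j : F)) := by
  apply Prod.ext
  · have e := aeval_algHom_apply (AlgHom.fst F K (Fin l → F)) ((ur u s : (K × (Fin l → F))ˣ) : K × (Fin l → F)) f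
    rw [AlgHom.fst_apply, AlgHom.fst_apply] at e
    exact e.symm
  · ext j
    have e := aeval_algHom_apply ((Pi.evalAlgHom F (fun _ : Fin l => F) j).comp (AlgHom.snd F K (Fin l → F)))
      ((ur u s : (K × (Fin l → F))ˣ) : K × (Fin l → F)) f
    have e2 : aeval (s j : F) f = f.eval (s j : F) := by rw [coe_aeval_eq_eval]
    exact e.symm.trans e2

/-- the element of `E Q` -/
noncomputable def zz (bK : Basis (Fin k) F K) (u : Kˣ) (s : Fin l → Fˣ) :
    (Fin (k + l) ⊕ Fin (k + l) → F) ≃ₗ[F] (Fin (k + l) ⊕ Fin (k + l) → F) := tz (bb bK l) (ur u s)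

theorem zz_inl (bK : Basis (Fin k) F K) (u : Kˣ) (s : Fin l → Fˣ) (j : Fin l) :
    zz bK u s (Pi.single (Sum.inl (Fin.natAdd k j)) 1) = (s j : F) • Pi.single (Sum.inl (Fin.natAdd k j)) 1 := by
  rw [← vl_basis (bb bK l), zz, tz_vl, bb_natAdd, ur_val, ← map_smul]
  congr 1
  apply Prod.ext
  · simp
  · ext i
    by_cases h : i = j
    · subst h; simp
    · simp [h]

theorem zz_inr (bK : Basis (Fin k) F K) (u : Kˣ) (s : Fin l → Fˣ) (j : Fin l) :
    zz bK u s (Pi.single (Sum.inr (Fin.natAdd k j)) 1) = ((s j : F)⁻¹) • Pi.single (Sum.inr (Fin.natAdd k j)) 1 := by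
  rw [zz, tz_apply, Dg_inr, ur_inv, ur_val]
  ext i
  rcases i with i | i
  · simp
  · rw [Sum.elim_inr, bb_repr_natAdd, Pi.smul_apply, smul_eq_mul]
    refine Fin.addCases (fun i => ?_) (fun i => ?_) i
    · rw [bb_castAdd]
      have h1 : Fin.castAdd l i ≠ Fin.natAdd k j := by
        intro h
        have h2 := congrArg Fin.val h
        rw [Fin.val_castAdd, Fin.val_natAdd] at h2
        have := i.2
        omega
      rw [Pi.single_eq_of_ne (fun h => h1 (Sum.inr_injective h))]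
      simp
    · rw [bb_natAdd]
      by_cases h : i = j
      · subst h
        simp [ur_val]
      · rw [Pi.single_eq_of_ne (fun h' => h ((Fin.natAdd_injective _ _ (Sum.inr_injective h'))))]
        simp [Ne.symm h]

theorem zz_f (bK : Basis (Fin k) F K) (u : Kˣ) (s : Fin l → Fˣ) {f : F[X]} (hf : aeval (u : K) f = 0) (i : Fin k) :
    aeval (zz bK u s : Module.End F (Fin (k + l) ⊕ Fin (k + l) → F)) f (Pi.single (Sum.inl (Fin.castAdd l i)) 1) = 0 := by
  rw [zz, aeval_tz, ← vl_basis (bb bK l), Dg_vl, aeval_ur, hf, bb_castAdd]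
  have h1 : ((0 : K), fun j => f.eval (s j : F)) * (bK i, (0 : Fin l → F)) = 0 := by
    apply Prod.ext
    · simp
    · ext j; simp
  rw [h1, map_zero]

theorem zz_f' (bK : Basis (Fin k) F K) (u : Kˣ) (s : Fin l → Fˣ) {f : F[X]} (hf : aeval ((u⁻¹ : Kˣ) : K) f = 0)
    (i : Fin k) :
    aeval (zz bK u s : Module.End F (Fin (k + l) ⊕ Fin (k + l) → F)) f (Pi.single (Sum.inr (Fin.castAdd l i)) 1) = 0 := by
  rw [zz, aeval_tz, Dg_inr, ur_inv, aeval_ur u⁻¹, hf]
  ext j
  rcases j with j | j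
  · rfl
  · rw [Sum.elim_inr, bb_repr_castAdd]
    simp

/-- polynomials preserve invariant subspaces -/
theorem aeval_mem {V : Type*} [AddCommGroup V] [Module F V] (z : Module.End F V) {M : Submodule F V}
    (hz : ∀ v ∈ M, z v ∈ M) (f : F[X]) {v : V} (hv : v ∈ M) : aeval z f v ∈ M := by
  have h1 : ∀ n : ℕ, (z ^ n) v ∈ M := by
    intro n
    induction n with
    | zero => rw [pow_zero]; exact hv
    | succ n ih =>
      rw [pow_succ']
      exact hz _ ih
  rw [aeval_eq_sum_range, LinearMap.sum_apply]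
  exact M.sum_mem fun i _ => by
    rw [LinearMap.smul_apply]
    exact M.smul_mem _ (h1 i)

/-- **Irreducibility.** -/
theorem zz_irr (bK : Basis (Fin k) F K) {u : Kˣ} (hu : Function.Surjective (aeval (u : K) : F[X] →ₐ[F] K))
    (s : Fin l → Fˣ) {M : Submodule F (Fin (k + l) ⊕ Fin (k + l) → F)}
    (hM : ∀ v ∈ M, (∀ i, v (Sum.inr i) = 0) ∧ ∀ j : Fin l, v (Sum.inl (Fin.natAdd k j)) = 0)
    (hz : ∀ v ∈ M, zz bK u s v ∈ M) (hne : M ≠ ⊥) (y : K) : vl (bb bK l) (y, 0) ∈ M := by
  obtain ⟨v, hv, hv0⟩ := M.ne_bot_iff.1 hne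
  obtain ⟨h1, h2⟩ := hM v hv
  obtain ⟨w, hw⟩ : ∃ w, vl (bb bK l) w = v := by
    refine ⟨(bb bK l).equivFun.symm (v ∘ Sum.inl), ?_⟩
    rw [vl_apply]
    ext i
    rcases i with i | i
    · rw [Sum.elim_inl]
      exact congrFun ((bb bK l).equivFun.apply_symm_apply (v ∘ Sum.inl)) i
    · rw [Sum.elim_inr, h1 i]
      rfl
  have h3 : w.2 = 0 := by
    ext j
    rw [← bb_repr_natAdd bK w j]
    have h4 := h2 j
    rw [← hw, vl_apply, Sum.elim_inl] at h4
    exact h4
  have h4 : w.1 ≠ 0 := by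
    intro h5
    apply hv0
    have h6 : w = 0 := Prod.ext h5 h3
    rw [← hw, h6, map_zero]
  obtain ⟨f, hf⟩ := hu (y * w.1⁻¹)
  have h5 := aeval_mem (zz bK u s : Module.End F (Fin (k + l) ⊕ Fin (k + l) → F)) hz f hv
  rw [zz, aeval_tz, ← hw, Dg_vl, aeval_ur, hf] at h5
  have h6 : (y * w.1⁻¹, fun j => f.eval (s j : F)) * w = (y, 0) := by
    apply Prod.ext
    · show y * w.1⁻¹ * w.1 = y
      rw [mul_assoc, inv_mul_cancel₀ h4, mul_one]
    · show (fun j => f.eval (s j : F)) * w.2 = 0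
      rw [h3, mul_zero]
  rwa [h6] at h5

/-- `z` acts irreducibly on `⟨e_i : i < k⟩`; `f` kills it, `f'` kills `⟨f_i : i < k⟩`; for `k ≤ i`, `z e_i = s i • e_i` and
`z f_i = (s i)⁻¹ • f_i`. Here `e_i = Pi.single (Sum.inl i) 1`, `f_i = Pi.single (Sum.inr i) 1`. -/
structure Dat {F : Type*} [Field F] {m : ℕ} (k : ℕ) (s : Fin m → F)
    (z : (Fin m ⊕ Fin m → F) ≃ₗ[F] (Fin m ⊕ Fin m → F)) (f f' : F[X]) : Prop where
  mem : z ∈ E (plusForm m F)
  cop : IsCoprime f f'
  ev : ∀ a : F, f.eval a ≠ 0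
  ev' : ∀ a : F, f'.eval a ≠ 0
  kf : ∀ i : Fin m, (i : ℕ) < k →
    aeval (z : Module.End F (Fin m ⊕ Fin m → F)) f (Pi.single (Sum.inl i) 1) = 0
  kf' : ∀ i : Fin m, (i : ℕ) < k →
    aeval (z : Module.End F (Fin m ⊕ Fin m → F)) f' (Pi.single (Sum.inr i) 1) = 0
  sl : ∀ i : Fin m, k ≤ (i : ℕ) → z (Pi.single (Sum.inl i) 1) = s i • Pi.single (Sum.inl i) 1
  sr : ∀ i : Fin m, k ≤ (i : ℕ) → z (Pi.single (Sum.inr i) 1) = (s i)⁻¹ • Pi.single (Sum.inr i) 1
  pl : ∀ v : Fin m ⊕ Fin m → F, (∀ i, v (Sum.inr i) = 0) → (∀ i : Fin m, k ≤ (i : ℕ) → v (Sum.inl i) = 0) →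
    (∀ i, z v (Sum.inr i) = 0) ∧ ∀ i : Fin m, k ≤ (i : ℕ) → z v (Sum.inl i) = 0
  irr : ∀ M : Submodule F (Fin m ⊕ Fin m → F),
    (∀ v ∈ M, (∀ i, v (Sum.inr i) = 0) ∧ ∀ i : Fin m, k ≤ (i : ℕ) → v (Sum.inl i) = 0) →
    (∀ v ∈ M, z v ∈ M) → M ≠ ⊥ → ∀ i : Fin m, (i : ℕ) < k → Pi.single (Sum.inl i) 1 ∈ M

theorem dat_zz [Finite F] [Finite K] (bK : Basis (Fin k) F K) {u : Kˣ} (hu : Ok F k u) (s : Fin (k + l) → Fˣ)
    (hE : zz bK u (fun j => s (Fin.natAdd k j)) ∈ E (plusForm (k + l) F)) :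
    Dat k (fun i => (s i : F)) (zz bK u (fun j => s (Fin.natAdd k j))) (minpoly F (u : K))
      (minpoly F ((u⁻¹ : Kˣ) : K)) where
  mem := hE
  cop := hu.coprime
  ev := hu.eval_ne
  ev' := hu.inv'.eval_ne
  kf i hi := by
    have h1 : i = Fin.castAdd l ⟨i, hi⟩ := Fin.ext rfl
    rw [h1]
    exact zz_f bK u _ (minpoly.aeval _ _) _
  kf' i hi := by
    have h1 : i = Fin.castAdd l ⟨i, hi⟩ := Fin.ext rfl
    rw [h1]
    exact zz_f' bK u _ (minpoly.aeval _ _) _
  sl i hi := by
    have h1 : i = Fin.natAdd k ⟨i - k, by have := i.2; omega⟩ := Fin.ext (by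
      rw [Fin.val_natAdd]
      show (i : ℕ) = k + ((i : ℕ) - k)
      omega)
    rw [h1]
    exact zz_inl bK u (fun j => s (Fin.natAdd k j)) _
  sr i hi := by
    have h1 : i = Fin.natAdd k ⟨i - k, by have := i.2; omega⟩ := Fin.ext (by
      rw [Fin.val_natAdd]
      show (i : ℕ) = k + ((i : ℕ) - k)
      omega)
    rw [h1]
    exact zz_inr bK u (fun j => s (Fin.natAdd k j)) _
  pl v h1 h2 := by
    obtain ⟨w, hw⟩ : ∃ w, vl (bb bK l) w = v := by
      refine ⟨(bb bK l).equivFun.symm (v ∘ Sum.inl), ?_⟩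
      rw [vl_apply]
      ext i
      rcases i with i | i
      · rw [Sum.elim_inl]
        exact congrFun ((bb bK l).equivFun.apply_symm_apply (v ∘ Sum.inl)) i
      · rw [Sum.elim_inr, h1 i]
        rfl
    rw [← hw, zz, tz_vl]
    refine ⟨fun i => rfl, fun i hi => ?_⟩
    have h3 : i = Fin.natAdd k ⟨i - k, by have := i.2; omega⟩ := Fin.ext (by
      rw [Fin.val_natAdd]
      show (i : ℕ) = k + ((i : ℕ) - k)
      omega)
    have h4 := h2 i hi
    rw [← hw, vl_apply, Sum.elim_inl] at h4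
    rw [vl_apply, Sum.elim_inl]
    rw [h3, bb_repr_natAdd] at h4 ⊢
    rw [Prod.snd_mul, Pi.mul_apply, h4, mul_zero]
  irr M hM hz hne i hi := by
    have h1 : i = Fin.castAdd l ⟨i, hi⟩ := Fin.ext rfl
    rw [h1, ← vl_basis (bb bK l), bb_castAdd]
    refine zz_irr bK hu.surj _ (fun v hv => ⟨(hM v hv).1, fun j => (hM v hv).2 _ ?_⟩) hz hne _
    rw [Fin.val_natAdd]
    exact Nat.le_add_right _ _

/-- the polynomial killing `zz bK u s` -/
noncomputable def Pz (u : Kˣ) (s : Fin l → Fˣ) : F[X] :=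
  minpoly F (u : K) * minpoly F ((u⁻¹ : Kˣ) : K) * ∏ j, ((X - C (s j : F)) * (X - C ((s j)⁻¹ : F)))

theorem aeval_Pz (bK : Basis (Fin k) F K) (u : Kˣ) (s : Fin l → Fˣ) :
    aeval (zz bK u s : Module.End F (Fin (k + l) ⊕ Fin (k + l) → F)) (Pz u s) = 0 := by
  have h1 : ∀ j, (Pz u s).eval (s j : F) = 0 := by
    intro j
    rw [Pz, eval_mul, eval_prod, Finset.prod_eq_zero (Finset.mem_univ j), mul_zero]
    simp
  have h2 : ∀ j, (Pz u s).eval (((s j)⁻¹ : Fˣ) : F) = 0 := by
    intro j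
    rw [Pz, eval_mul, eval_prod, Finset.prod_eq_zero (Finset.mem_univ j), mul_zero]
    simp
  rw [zz, aeval_tz, ur_inv, aeval_ur, aeval_ur]
  have h3 : (aeval (u : K) (Pz u s), fun j => (Pz u s).eval (s j : F)) = (0 : K × (Fin l → F)) := by
    apply Prod.ext
    · show aeval (u : K) (Pz u s) = 0
      rw [Pz, map_mul, map_mul, minpoly.aeval, zero_mul, zero_mul]
    · ext j; exact h1 j
  have h4 : (aeval ((u⁻¹ : Kˣ) : K) (Pz u s), fun j => (Pz u s).eval (((s j)⁻¹ : Fˣ) : F)) = (0 : K × (Fin l → F)) := by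
    apply Prod.ext
    · show aeval ((u⁻¹ : Kˣ) : K) (Pz u s) = 0
      rw [Pz, map_mul, map_mul, minpoly.aeval F ((u⁻¹ : Kˣ) : K), mul_zero, zero_mul]
    · ext j; exact h2 j
  rw [h3, h4]
  exact map_zero _

/-- `x` is no root -/
theorem Pz_ne (u : Kˣ) (s : Fin l → Fˣ) {x : K} (h1 : aeval x (minpoly F (u : K)) ≠ 0)
    (h2 : aeval x (minpoly F ((u⁻¹ : Kˣ) : K)) ≠ 0) (h3 : ∀ a : F, x ≠ algebraMap F K a) : aeval x (Pz u s) ≠ 0 := by
  rw [Pz, map_mul, map_mul, map_prod]
  refine mul_ne_zero (mul_ne_zero h1 h2) (Finset.prod_ne_zero_iff.2 fun j _ => ?_)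
  rw [map_mul, map_sub, map_sub, aeval_X, aeval_C, aeval_C]
  exact mul_ne_zero (sub_ne_zero.2 (h3 _)) (sub_ne_zero.2 (h3 _))

theorem zz_aeval_ne (bK : Basis (Fin k) F K) {u u' : Kˣ} {s s' : Fin l → Fˣ} (h : aeval (u' : K) (Pz u s) ≠ 0) :
    aeval (zz bK u' s' : Module.End F (Fin (k + l) ⊕ Fin (k + l) → F)) (Pz u s) ≠ 0 := by
  intro h1
  rw [zz, aeval_tz, aeval_ur] at h1
  exact h (congrArg Prod.fst (Dg_fst_eq_zero _ h1))

theorem zz_aeval_neg_ne (bK : Basis (Fin k) F K) {u u' : Kˣ} {s s' : Fin l → Fˣ} (h : aeval (-(u' : K)) (Pz u s) ≠ 0) :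
    aeval (-(zz bK u' s' : Module.End F (Fin (k + l) ⊕ Fin (k + l) → F))) (Pz u s) ≠ 0 := by
  have e : -(zz bK u' s' : Module.End F (Fin (k + l) ⊕ Fin (k + l) → F)) = zz bK (-u') (fun j => -s' j) := by
    rw [zz, zz, tz_eq, tz_eq, ← map_neg]
    congr 1
  rw [e]
  refine zz_aeval_ne bK ?_
  rw [Units.val_neg]
  exact h

end prod

end Cfsg.Agent.H292.OZ
end

private theorem dce_9be719cb2cfb : _root_.True := by
  try have : _root_.True := by simp only [_root_.Cfsg.Agent.H785.OZ8.fzn.eq_1]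
  try have : _root_.True := by simp only [_root_.Cfsg.Agent.H785.OZ8.chkE.eq_1]
  try have : _root_.True := by simp only [_root_.Cfsg.Agent.H292.OZ.bb.eq_1]
  try have : _root_.True := by simp only [_root_.Cfsg.Agent.H5.OZ.kk.congr_simp]
  try have : _root_.True := by simp only [_root_.Cfsg.Agent.H292.OZ.zz.eq_1]
  try have : _root_.True := by simp only [_root_.Cfsg.Agent.H785.OZ8.chkL.eq_1]
  try have : _root_.True := by simp only [_root_.Cfsg.Agent.H292.OZ.Pz.eq_1]
  exact _root_.True.intro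
end

-- part: H128/OZ/EightEA
section
prune_inst 0x22430441004c0020000002001800000202000000000400000020200000200000040000000000021015000000000000000000000000000000000000000000404010010040410400008c40008000100010000000000000000000000000000000000204010000
set_option linter.all false
open scoped Cfsg.Agent.FastGrp

-- part: H559/OZ/LocCov
section
/-!
# S4842: congruences from defect groups, for a central extension (helper559)

`cong_of_cover` : the criterion `cong_loc` of helper5 for `π : H →* S` with a central kernel of exponent prime to `r p`.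
-/

set_option autoImplicit false

namespace Cfsg.Agent.H559.OZ

open Cfsg Cfsg.Agent.H730.OZ

universe u v

section lift

variable {H : Type v} {S : Type u} [Group H] [Group S] {π : H →* S} {c N : ℕ}

theorem kill {k : H} (h1 : k ^ c = 1) (h2 : k ^ N = 1) (hcN : c.Coprime N) : k = 1 := by
  have h3 := Nat.dvd_gcd (orderOf_dvd_of_pow_eq_one h1) (orderOf_dvd_of_pow_eq_one h2)
  rw [hcN] at h3
  exact orderOf_eq_one_iff.1 (Nat.dvd_one.1 h3)

theorem eq_lift (hcen : ∀ k ∈ π.ker, ∀ h : H, k * h = h * k) (hc : ∀ k ∈ π.ker, k ^ c = 1) (hcN : c.Coprime N)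
    {x y : H} (hx : x ^ N = 1) (hy : y ^ N = 1) (h : π x = π y) : x = y := by
  have hk : x * y⁻¹ ∈ π.ker := by
    rw [MonoidHom.mem_ker, map_mul, map_inv, h, mul_inv_cancel]
  have h1 : Commute (x * y⁻¹) y := hcen _ hk y
  have h2 : (x * y⁻¹) ^ N = 1 := by
    have h3 := h1.mul_pow N
    rw [inv_mul_cancel_right, hx, hy, mul_one] at h3
    exact h3.symm
  exact mul_inv_eq_one.1 (kill (hc _ hk) h2 hcN)

theorem comm_lift (hcen : ∀ k ∈ π.ker, ∀ h : H, k * h = h * k) (hc : ∀ k ∈ π.ker, k ^ c = 1) (hcN : c.Coprime N)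
    {x w : H} (hx : x ^ N = 1) (h : Commute (π x) (π w)) : Commute x w := by
  have h1 : w * x * w⁻¹ = x := by
    refine eq_lift hcen hc hcN ?_ hx ?_
    · rw [conj_pow, hx, mul_one, mul_inv_cancel]
    · rw [map_mul, map_mul, map_inv, ← h.eq, mul_inv_cancel_right]
  show x * w = w * x
  rw [mul_inv_eq_iff_eq_mul] at h1
  exact h1.symm

end lift

variable {H : Type v} {S : Type u} [Group H] [Group S] [Finite S]

/-- **Congruences from defect groups, through a central extension.** -/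
theorem cong_of_cover {p r c : ℕ} (hr : r.Prime) (hp : p.Prime) (hrp : r ≠ p) (π : H →* S)
    (hπ : Function.Surjective π) (hcen : ∀ k ∈ π.ker, ∀ h : H, k * h = h * k) (hc : ∀ k ∈ π.ker, k ^ c = 1)
    (hcr : c.Coprime r) (hcp : c.Coprime p) (R : Subgroup H) (hR : IsPGroup r R)
    (hcard : Nat.card R = r ^ (Nat.card S).factorization r)
    (hC : ∀ u : H, (∀ x ∈ R, Commute x u) → u ^ p = 1 → u = 1)
    (hD : ∀ D : Subgroup H, D ≤ R → D ≠ R → ∃ (x u : H) (k : ℕ), x ^ (r ^ k) = 1 ∧ u ^ p = 1 ∧ u ≠ 1 ∧ Commute x u ∧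
      ∀ t : H, t * x * t⁻¹ ∉ D) : Cong p r 0 S := by
  have hrf : Fact r.Prime := ⟨hr⟩
  have hcrk : ∀ k : ℕ, c.Coprime (r ^ k) := fun k => Nat.Coprime.pow_right k hcr
  have hRr : ∀ x ∈ R, ∃ k : ℕ, x ^ (r ^ k) = 1 := by
    intro x hx
    obtain ⟨k, hk⟩ := hR ⟨x, hx⟩
    exact ⟨k, congrArg Subtype.val hk⟩
  -- two `r`-elements with the same image are equal
  have hinj : ∀ x y : H, (∃ k : ℕ, x ^ (r ^ k) = 1) → (∃ k : ℕ, y ^ (r ^ k) = 1) → π x = π y → x = y := by
    rintro x y ⟨k, hk⟩ ⟨l, hl⟩ h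
    refine eq_lift hcen hc (hcrk (k + l)) ?_ ?_ h
    · rw [pow_add, pow_mul, hk, one_pow]
    · rw [pow_add, mul_comm, pow_mul, hl, one_pow]
  -- the Sylow subgroup
  have hcardR : Nat.card (R.map π) = r ^ (Nat.card S).factorization r := by
    rw [← hcard]
    refine (Nat.card_congr (Equiv.ofBijective (fun x : R => (⟨π x, Subgroup.mem_map_of_mem π x.2⟩ : R.map π)) ⟨?_, ?_⟩)).symm
    · intro x y h
      exact Subtype.ext (hinj _ _ (hRr _ x.2) (hRr _ y.2) (congrArg Subtype.val h))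
    · rintro ⟨_, x, hx, rfl⟩
      exact ⟨⟨x, hx⟩, rfl⟩
  let R₀ : Sylow r S := Sylow.ofCard (R.map π) hcardR
  have hR₀ : (R₀ : Subgroup S) = R.map π := rfl
  have hsyl : ∀ Q : Sylow r S, ∃ s : S, ∀ y : S, y ∈ (Q : Subgroup S) ↔ s * y * s⁻¹ ∈ R.map π := by
    intro Q
    obtain ⟨s, hs⟩ := MulAction.exists_smul_eq S Q R₀
    refine ⟨s, fun y => ?_⟩
    have h1 : (R₀ : Subgroup S) = (s • Q : Sylow r S) := by rw [hs]
    rw [← hR₀, h1, Sylow.smul_def, Sylow.pointwise_smul_def]
    rw [Subgroup.mem_pointwise_smul_iff_inv_smul_mem]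
    constructor
    · intro h
      have : (MulAut.conj s)⁻¹ • (s * y * s⁻¹) = y := by
        rw [← map_inv]
        show MulAut.conj s⁻¹ (s * y * s⁻¹) = y
        rw [MulAut.conj_apply]
        group
      rwa [this]
    · intro h
      have : (MulAut.conj s)⁻¹ • (s * y * s⁻¹) = y := by
        rw [← map_inv]
        show MulAut.conj s⁻¹ (s * y * s⁻¹) = y
        rw [MulAut.conj_apply]
        group
      rwa [this] at h
  refine Cfsg.Agent.H5.OZ.cong_loc hr ?_ ?_
  · intro Q u hu hup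
    obtain ⟨s, hs⟩ := hsyl Q
    by_contra hu1
    obtain ⟨k, hk⟩ := hup
    rcases k with _ | k
    · rw [pow_zero] at hk
      exact hu1 (orderOf_eq_one_iff.1 hk)
    obtain ⟨w, hw⟩ := hπ (s * (u ^ p ^ k) * s⁻¹)
    have hv : orderOf (s * (u ^ p ^ k) * s⁻¹) = p := by
      have h1 : orderOf (s * (u ^ p ^ k) * s⁻¹) = orderOf (u ^ p ^ k) := orderOf_injective (MulAut.conj s).toMonoidHom
        (MulAut.conj s).injective _
      rw [h1, orderOf_pow_of_dvd (pow_pos hp.pos k).ne' (by rw [hk]; exact pow_dvd_pow p (Nat.le_succ k)), hk,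
        Nat.pow_div (Nat.le_succ k) hp.pos]
      simp
    have hwR : ∀ x ∈ R, Commute x w := by
      intro x hx
      obtain ⟨j, hj⟩ := hRr x hx
      refine comm_lift hcen hc (hcrk j) hj ?_
      rw [hw]
      have h2 : s⁻¹ * π x * s ∈ (Q : Subgroup S) := by
        rw [hs]
        have : s * (s⁻¹ * π x * s) * s⁻¹ = π x := by group
        rw [this]
        exact Subgroup.mem_map_of_mem π hx
      have h3 : Commute (s⁻¹ * π x * s) u := Subgroup.mem_centralizer_iff.1 hu _ h2
      have h4 : Commute (s * (s⁻¹ * π x * s) * s⁻¹) (s * (u ^ p ^ k) * s⁻¹) :=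
        (h3.pow_right (p ^ k)).map (MulAut.conj s)
      have h5 : s * (s⁻¹ * π x * s) * s⁻¹ = π x := by group
      rwa [h5] at h4
    have hwp : w ^ p ∈ π.ker := by
      rw [MonoidHom.mem_ker, map_pow, hw]
      exact orderOf_dvd_iff_pow_eq_one.1 (dvd_of_eq hv)
    have h6 : (w ^ c) ^ p = 1 := by
      rw [← pow_mul, mul_comm, pow_mul]
      exact hc _ hwp
    have h7 := hC (w ^ c) (fun x hx => (hwR x hx).pow_right c) h6
    have h8 : p ∣ c := by
      rw [← hv, ← hw]
      apply orderOf_dvd_of_pow_eq_one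
      rw [← map_pow, h7, map_one]
    exact hp.one_lt.ne' (Nat.dvd_one.1 (hcp ▸ Nat.dvd_gcd h8 dvd_rfl))
  · intro D hDp hDs
    obtain ⟨Q, hQ⟩ := hDp.exists_le_sylow
    obtain ⟨s, hs⟩ := hsyl Q
    have hne : ∃ y ∈ (Q : Subgroup S), y ∉ D := by
      by_contra hcon
      push Not at hcon
      exact hDs Q (le_antisymm hcon hQ)
    -- the subgroup `D'`
    set! D' : Subgroup H := (((D.map (MulAut.conj s).toMonoidHom).comap π) ⊓ R) with hD'
    have hmem : ∀ x : H, x ∈ D' ↔ s⁻¹ * π x * s ∈ D ∧ x ∈ R := by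
      intro x
      rw [hD', Subgroup.mem_inf, Subgroup.mem_comap, Subgroup.mem_map]
      refine and_congr_left fun _ => ⟨?_, ?_⟩
      · rintro ⟨d, hd, h1⟩
        have h2 : s * d * s⁻¹ = π x := h1
        rw [← h2]
        have : s⁻¹ * (s * d * s⁻¹) * s = d := by group
        rwa [this]
      · intro h
        refine ⟨_, h, ?_⟩
        show s * (s⁻¹ * π x * s) * s⁻¹ = π x
        group
    obtain ⟨x, u, k, hx, hu, hu1, hxu, ht⟩ := hD D' inf_le_right (by
      intro h
      obtain ⟨y, hy, hyD⟩ := hne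
      obtain ⟨x, hx, hxy⟩ := (Subgroup.mem_map.1 ((hs y).1 hy))
      rw [← h] at hx
      have h1 := ((hmem x).1 hx).1
      rw [hxy] at h1
      apply hyD
      have h2 : s⁻¹ * (s * y * s⁻¹) * s = y := by group
      rwa [h2] at h1)
    have hπu : π u ≠ 1 := by
      intro h
      exact hu1 (kill (hc u (MonoidHom.mem_ker.2 h)) hu hcp)
    have hnc : ∀ t : S, t * π x * t⁻¹ ∉ D := by
      intro t hmemD
      have h1 : t * π x * t⁻¹ ∈ (Q : Subgroup S) := hQ hmemD
      rw [hs] at h1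
      obtain ⟨h, hh, h2⟩ := Subgroup.mem_map.1 h1
      obtain ⟨τ, hτ⟩ := hπ (s * t)
      have h3 : τ * x * τ⁻¹ = h := by
        refine hinj _ _ ⟨k, ?_⟩ (hRr h hh) ?_
        · rw [conj_pow, hx, mul_one, mul_inv_cancel]
        · rw [h2, map_mul, map_mul, map_inv, hτ]
          group
      apply ht τ
      rw [hmem]
      refine ⟨?_, by rw [h3]; exact hh⟩
      rw [map_mul, map_mul, map_inv, hτ]
      have h4 : s⁻¹ * (s * t * π x * (s * t)⁻¹) * s = t * π x * t⁻¹ := by group
      rwa [h4]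
    have hπx : (π x) ^ (r ^ k) = 1 := by rw [← map_pow, hx, map_one]
    obtain ⟨j, -, hj⟩ := (Nat.dvd_prime_pow hr).1 (orderOf_dvd_of_pow_eq_one hπx)
    have hπup : (π u) ^ p = 1 := by rw [← map_pow, hu, map_one]
    have hru : ¬ r ∣ orderOf (π u) := by
      intro h
      have h1 := h.trans (orderOf_dvd_of_pow_eq_one hπup)
      exact hrp ((Nat.prime_dvd_prime_iff_eq hr hp).1 h1)
    refine ⟨π x, π x * π u, π x, π x, ⟨1, mul_one _, Commute.one_right _, ⟨j, hj⟩, ?_⟩,
      ⟨π u, rfl, hxu.map π, ⟨j, hj⟩, hru⟩, ?_, hnc, hnc⟩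
    · rw [orderOf_one]
      exact hr.one_lt.ne' ∘ Nat.dvd_one.1
    · intro hcon
      obtain ⟨g, hg⟩ := isConj_iff.1 hcon
      have h1 : (π x * π u) ^ (r ^ k) = 1 := by
        rw [← hg, conj_pow, hπx, mul_one, mul_inv_cancel]
      rw [(hxu.map π).mul_pow, hπx, one_mul] at h1
      refine hπu (kill hπup h1 ?_)
      exact (Nat.Coprime.pow_right k ((Nat.coprime_primes hp hr).2 (Ne.symm hrp)))

end Cfsg.Agent.H559.OZ
end

-- part: H559/OZ/TwoTorus
section
/-!
# S4842, `POmega⁺_8`: an odd prime dividing `q ^ 2 + 1` (helper559)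

`cong_eight` : `Cong p r 0 S` for `S ≃* POmega F R`, `R` of sign `+` in dimension 8 and `r ∣ q ^ 2 + 1` an odd prime.
-/

set_option autoImplicit false

namespace Cfsg.Agent.H559.OZ

open Module QuadraticMap Cfsg Subgroup
open Cfsg.Agent.LieClassical.OrthCore Cfsg.Agent.LieClassical.OrthTrans Cfsg.Agent.H890.SpParity
open Cfsg.Agent.LieClassical.OrthFinite
open Cfsg.Agent.H182.Sign Cfsg.Agent.H182.Orth Cfsg.Agent.H530.CJ Cfsg.Agent.H93.CJ Cfsg.Agent.H93.PReg
open Cfsg.Agent.H530.OZ Cfsg.Agent.H730.OZ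

universe u

section ker

variable {F V : Type*} [Field F] [AddCommGroup V] [Module F V] {Q : QuadraticForm F V} {S : Type*} [Group S]

/-- The kernel of `E Q → S`. -/
theorem ker_facts {p : ℕ} [hp : Fact p.Prime] [CharP F p] (hnd : Nondeg Q) (hnt : Nontrivial V) {π : E Q →* S}
    (hker : ∀ k : E Q, k ∈ π.ker ↔ ∃ a : F, ∀ v, (k : V ≃ₗ[F] V) v = a • v) :
    ∃ c : ℕ, (∀ k ∈ π.ker, ∀ h : E Q, k * h = h * k) ∧ (∀ k ∈ π.ker, k ^ c = 1) ∧ c.Coprime p ∧
      ∀ r : ℕ, r.Prime → r ≠ 2 → c.Coprime r := by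
  have hk2 : ∀ k ∈ π.ker, (k ^ 2 = 1) ∧ (p = 2 → k = 1) := by
    intro k hk
    obtain ⟨a, ha⟩ := (hker k).1 hk
    obtain ⟨w, hw⟩ : ∃ w : V, Q w ≠ 0 := by
      by_contra hcon
      push Not at hcon
      obtain ⟨v, hv⟩ := exists_ne (0 : V)
      exact hv (hnd _ fun y => by rw [QuadraticMap.polar, hcon, hcon, hcon, sub_zero, sub_zero])
    have h1 := E_le_O k.2 w
    rw [ha, QuadraticMap.map_smul, smul_eq_mul] at h1
    have h2 : a * a = 1 := by
      apply mul_right_cancel₀ hw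
      rw [h1, one_mul]
    constructor
    · apply Subtype.ext
      show (k : V ≃ₗ[F] V) ^ 2 = 1
      ext v
      rw [pow_two, LinearEquiv.mul_apply, ha, ha, smul_smul, h2, one_smul]
      rfl
    · rintro rfl
      have h3 : a = 1 := by
        have h4 : (a - 1) ^ 2 = 0 := by
          rw [sub_pow_char, one_pow, pow_two, h2, sub_self]
        exact sub_eq_zero.1 (pow_eq_zero_iff two_ne_zero |>.1 h4)
      apply Subtype.ext
      ext v
      rw [ha, h3, one_smul]
      rfl
  have hcen : ∀ k ∈ π.ker, ∀ h : E Q, k * h = h * k := by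
    intro k hk h
    obtain ⟨a, ha⟩ := (hker k).1 hk
    apply Subtype.ext
    ext v
    show (k : V ≃ₗ[F] V) ((h : V ≃ₗ[F] V) v) = (h : V ≃ₗ[F] V) ((k : V ≃ₗ[F] V) v)
    rw [ha, ha, map_smul]
  by_cases h2 : p = 2
  · exact ⟨1, hcen, fun k hk => by rw [pow_one]; exact (hk2 k hk).2 h2, Nat.coprime_one_left _,
      fun r _ _ => Nat.coprime_one_left _⟩
  · exact ⟨2, hcen, fun k hk => (hk2 k hk).1, (Nat.coprime_primes Nat.prime_two hp.out).2 (Ne.symm h2),
      fun r hr hr2 => (Nat.coprime_primes Nat.prime_two hr).2 (Ne.symm hr2)⟩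

end ker

section siegel

variable {F V : Type*} [Field F] [AddCommGroup V] [Module F V] {Q : QuadraticForm F V}

theorem siegel_pow {u w : V} (hu : Q u = 0) (hw : polar Q u w = 0) (k : ℕ) :
    ∃ h : polar Q u (k • w) = 0, siegel Q u w hu hw ^ k = siegel Q u (k • w) hu h := by
  have h : ∀ k : ℕ, polar Q u (k • w) = 0 := by
    intro k
    rw [← Nat.cast_smul_eq_nsmul F, polar_smul_right, hw, smul_zero]
  refine ⟨h k, ?_⟩
  induction k with
  | zero =>
    ext v
    rw [siegel_apply, pow_zero, zero_smul, smul_zero, polar_zero_left, zero_smul, QuadraticMap.map_zero, zero_mul,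
      zero_smul]
    simp
  | succ k ih =>
    rw [pow_succ, ih, siegel_mul hu (h k) hw (by rw [← succ_nsmul]; exact h (k + 1))]
    congr 1
    exact (succ_nsmul w k).symm

theorem siegel_pow_char {p : ℕ} [CharP F p] {u w : V} (hu : Q u = 0) (hw : polar Q u w = 0) :
    siegel Q u w hu hw ^ p = 1 := by
  obtain ⟨h, h1⟩ := siegel_pow hu hw p
  rw [h1]
  ext v
  have h2 : p • w = 0 := by
    rw [← Nat.cast_smul_eq_nsmul F, CharP.cast_eq_zero, zero_smul]
  rw [siegel_apply]
  simp [h2]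

end siegel

section unip

variable {F L : Type} [Field F] [Field L] [Algebra F L]

/-- The map `(a, b) ↦ (a + s σ b, b)`. -/
def us (σ : L ≃ₐ[F] L) (s : L) : (L × L) ≃ₗ[F] (L × L) where
  toFun v := (v.1 + s * σ v.2, v.2)
  invFun v := (v.1 - s * σ v.2, v.2)
  map_add' v w := by
    refine Prod.ext ?_ rfl
    show v.1 + w.1 + s * σ (v.2 + w.2) = (v.1 + s * σ v.2) + (w.1 + s * σ w.2)
    rw [map_add]
    ring
  map_smul' c v := by
    refine Prod.ext ?_ rfl
    show c • v.1 + s * σ (c • v.2) = c • (v.1 + s * σ v.2)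
    rw [map_smul, smul_add, mul_smul_comm]
  left_inv v := by
    refine Prod.ext ?_ rfl
    show v.1 + s * σ v.2 - s * σ v.2 = v.1
    ring
  right_inv v := by
    refine Prod.ext ?_ rfl
    show v.1 - s * σ v.2 + s * σ v.2 = v.1
    ring

theorem us_apply (σ : L ≃ₐ[F] L) (s : L) (v : L × L) : us σ s v = (v.1 + s * σ v.2, v.2) := rfl

theorem us_mul (σ : L ≃ₐ[F] L) (s s' : L) : us σ s * us σ s' = us σ (s + s') := by
  refine LinearEquiv.ext fun v => Prod.ext ?_ rfl
  show v.1 + s' * σ v.2 + s * σ v.2 = v.1 + (s + s') * σ v.2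
  ring

theorem us_zero (σ : L ≃ₐ[F] L) : us σ 0 = 1 := by
  refine LinearEquiv.ext fun v => Prod.ext ?_ rfl
  show v.1 + 0 * σ v.2 = v.1
  ring

theorem us_pow (σ : L ≃ₐ[F] L) (s : L) (k : ℕ) : us σ s ^ k = us σ (k * s) := by
  induction k with
  | zero => rw [pow_zero, Nat.cast_zero, zero_mul, us_zero]
  | succ k ih =>
    rw [pow_succ, ih, us_mul]
    congr 1
    push_cast
    ring

theorem us_inv (σ : L ≃ₐ[F] L) (s : L) : (us σ s)⁻¹ = us σ (-s) := by
  rw [inv_eq_iff_mul_eq_one, us_mul, add_neg_cancel, us_zero]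

theorem us_ne_one {σ : L ≃ₐ[F] L} {s : L} (hs : s ≠ 0) : us σ s ≠ 1 := by
  intro h
  have h1 := congrArg Prod.fst (LinearEquiv.congr_fun h (0, 1))
  have h2 : (0 : L) + s * σ 1 = 0 := h1
  rw [map_one, mul_one, zero_add] at h2
  exact hs h2

theorem dw_us (σ : L ≃ₐ[F] L) (s : L) (g : Lˣ) :
    (dw g : (L × L) ≃ₗ[F] (L × L)) * us σ s = us σ (g * σ g * s) * dw g := by
  refine LinearEquiv.ext fun v => Prod.ext ?_ rfl
  show (g : L) * (v.1 + s * σ v.2) = g * v.1 + g * σ g * s * σ (((g⁻¹ : Lˣ) : L) * v.2)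
  rw [map_mul]
  have h1 : σ (g : L) * σ ((g⁻¹ : Lˣ) : L) = 1 := by
    rw [← map_mul, Units.mul_inv, map_one]
  linear_combination (-(g : L) * s * σ v.2) * h1

theorem dw_comm_us {σ : L ≃ₐ[F] L} (s : L) {g : Lˣ} (hg : (g : L) * σ g = 1) :
    Commute (dw g : (L × L) ≃ₗ[F] (L × L)) (us σ s) := by
  show _ * _ = _ * _
  rw [dw_us, hg, one_mul]

theorem commutator_dw_us (σ : L ≃ₐ[F] L) (s : L) (g : Lˣ) :
    (dw g : (L × L) ≃ₗ[F] (L × L)) * us σ s * (dw g)⁻¹ * (us σ s)⁻¹ = us σ ((g * σ g - 1) * s) := by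
  rw [dw_us, mul_inv_cancel_right, us_inv, us_mul]
  congr 1
  ring

theorem us_mem_O {σ : L ≃ₐ[F] L} (hσ : ∀ x, σ (σ x) = x) (t : L) : us σ (t - σ t) ∈ O (tq F L) := by
  intro v
  rw [us_apply, tq_apply, tq_apply]
  show Algebra.trace F L ((v.1 + (t - σ t) * σ v.2) * v.2) = Algebra.trace F L (v.1 * v.2)
  have h1 : (v.1 + (t - σ t) * σ v.2) * v.2 = v.1 * v.2 + (t * (v.2 * σ v.2) - σ (t * (v.2 * σ v.2))) := by
    rw [map_mul, map_mul, hσ]
    ring
  rw [h1, map_add, map_sub, Algebra.trace_eq_of_algEquiv, sub_self, add_zero]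

end unip

section torus

variable {F L : Type} [Field F] [Field L] [Algebra F L]

/-- Diagonal maps. -/
def dd : Lˣ × Lˣ →* ((L × L) ≃ₗ[F] (L × L)) where
  toFun a := (mulL F (a.1 : L) a.1.ne_zero).prodCongr (mulL F (a.2 : L) a.2.ne_zero)
  map_one' := by
    refine LinearEquiv.ext fun v => Prod.ext ?_ ?_
    · show ((1 : Lˣ) : L) * v.1 = v.1
      rw [Units.val_one, one_mul]
    · show ((1 : Lˣ) : L) * v.2 = v.2
      rw [Units.val_one, one_mul]
  map_mul' a b := by
    refine LinearEquiv.ext fun v => Prod.ext ?_ ?_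
    · show ((a.1 * b.1 : Lˣ) : L) * v.1 = a.1 * (b.1 * v.1)
      rw [Units.val_mul, mul_assoc]
    · show ((a.2 * b.2 : Lˣ) : L) * v.2 = a.2 * (b.2 * v.2)
      rw [Units.val_mul, mul_assoc]

theorem dd_apply (a : Lˣ × Lˣ) (v : L × L) : dd (F := F) a v = ((a.1 : L) * v.1, (a.2 : L) * v.2) := rfl

theorem dd_injective : Function.Injective (dd : Lˣ × Lˣ →* ((L × L) ≃ₗ[F] (L × L))) := by
  intro a b h
  have h1 := LinearEquiv.congr_fun h (1, 1)
  rw [dd_apply, dd_apply] at h1
  refine Prod.ext (Units.ext ?_) (Units.ext ?_)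
  · have h2 := congrArg Prod.fst h1
    simpa using h2
  · have h2 := congrArg Prod.snd h1
    simpa using h2

theorem dd_mem_O [Finite F] [Finite L] {Q : QuadraticForm F L} {a : Lˣ × Lˣ} (h1 : ∀ v, Q ((a.1 : L) * v) = Q v)
    (h2 : ∀ v, Q ((a.2 : L) * v) = Q v) : dd a ∈ O (prodForm Q Q) := by
  intro v
  rw [prodForm_apply, prodForm_apply, dd_apply]
  show Q ((a.1 : L) * v.1) + Q ((a.2 : L) * v.2) = _
  rw [h1, h2]

/-- The centralizer of the torus. -/
theorem cen_torus [Finite L] {lam : Lˣ} (h1 : lam ≠ 1) (hgen : Algebra.adjoin F {(lam : L)} = ⊤)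
    {g : (L × L) ≃ₗ[F] (L × L)} (hg1 : Commute g (dd (lam, 1))) (hg2 : Commute g (dd (1, lam))) :
    ∃ a b : L, ∀ v, g v = (a * v.1, b * v.2) := by
  have hfd : FiniteDimensional F L := Module.Finite.of_finite
  have e1 : (dd (lam, 1) : (L × L) ≃ₗ[F] (L × L)) =
      (mulL F (lam : L) lam.ne_zero).prodCongr (LinearEquiv.refl F L) := by
    refine LinearEquiv.ext fun v => Prod.ext rfl ?_
    show ((1 : Lˣ) : L) * v.2 = v.2
    rw [Units.val_one, one_mul]
  have hz : ∀ v : L, mulL F (lam : L) lam.ne_zero v = v → v = 0 := by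
    intro v hv
    rw [mulL_apply] at hv
    have h2 : ((lam : L) - 1) * v = 0 := by linear_combination hv
    refine (mul_eq_zero.1 h2).resolve_left fun h3 => h1 (Units.ext ?_)
    exact sub_eq_zero.1 h3
  rw [e1] at hg1
  obtain ⟨t, s, rfl⟩ := block hz hg1
  have ht : ∀ v, t ((lam : L) * v) = lam * t v := by
    intro v
    exact congrArg Prod.fst (LinearEquiv.congr_fun hg1.eq (v, 0))
  have hs : ∀ v, s ((lam : L) * v) = lam * s v := by
    intro v
    exact congrArg Prod.snd (LinearEquiv.congr_fun hg2.eq (0, v))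
  refine ⟨t 1, s 1, fun v => Prod.ext ?_ ?_⟩
  · exact eq_mul' hgen (q := t.toLinearMap) ht v.1
  · exact eq_mul' hgen (q := s.toLinearMap) hs v.2

/-- An element of order `p` centralizing the torus is trivial. -/
theorem cen_one [Finite L] {p : ℕ} [Fact p.Prime] [CharP F p] {lam : Lˣ} (h1 : lam ≠ 1)
    (hgen : Algebra.adjoin F {(lam : L)} = ⊤)
    {g : (L × L) ≃ₗ[F] (L × L)} (hg1 : Commute g (dd (lam, 1))) (hg2 : Commute g (dd (1, lam))) (hp : g ^ p = 1) :
    g = 1 := by
  have hchL : CharP L p := charP_of_injective_algebraMap (algebraMap F L).injective p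
  obtain ⟨a, b, hab⟩ := cen_torus h1 hgen hg1 hg2
  have hpow : ∀ (k : ℕ) (v : L × L), (g ^ k) v = (a ^ k * v.1, b ^ k * v.2) := by
    intro k
    induction k with
    | zero => intro v; rw [pow_zero, pow_zero, pow_zero, one_mul, one_mul]; rfl
    | succ k ih =>
      intro v
      rw [pow_succ, LinearEquiv.mul_apply, hab, ih, pow_succ, pow_succ, mul_assoc, mul_assoc]
  have h2 := hpow p (1, 1)
  rw [hp] at h2
  have key : ∀ c : L, c ^ p = 1 → c = 1 := by
    intro c hc
    have h5 : (c - 1) ^ p = 0 := by rw [sub_pow_char, one_pow, hc, sub_self]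
    exact sub_eq_zero.1 (pow_eq_zero_iff (Fact.out : p.Prime).ne_zero |>.1 h5)
  have ha : a = 1 := key a (by
    have h3 : (1 : L) = a ^ p * 1 := congrArg Prod.fst h2
    rw [mul_one] at h3
    exact h3.symm)
  have hb : b = 1 := key b (by
    have h3 : (1 : L) = b ^ p * 1 := congrArg Prod.snd h2
    rw [mul_one] at h3
    exact h3.symm)
  refine LinearEquiv.ext fun v => ?_
  rw [hab, ha, hb, one_mul, one_mul]
  rfl

end torus

section classes

variable {F L : Type} [Field F] [Finite F] [Field L] [Finite L] [Algebra F L] {Q : QuadraticForm F L}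
  {Z : Subgroup Lˣ} {T : Z × Z →* E (prodForm Q Q)} {r a : ℕ}

omit [Finite F] [Finite L] in
theorem top_of_order {G : Type*} [Group G] [Finite G] {m : ℕ} (hG : Nat.card G = m) {z : G} (hz : orderOf z = m)
    {D : Subgroup G} (hD : z ∈ D) : D = ⊤ := by
  rw [eq_top_iff, ← Subgroup.eq_top_of_card_eq (Subgroup.zpowers z) (by rw [Nat.card_zpowers, hz, hG]),
    Subgroup.zpowers_le]
  exact hD

omit [Finite F] in
/-- A proper subgroup of the torus misses one of two classes. -/
theorem two_classes (hT : ∀ z, (T z : (L × L) ≃ₗ[F] (L × L)) = dd ((z.1 : Lˣ), (z.2 : Lˣ))) (hr : r.Prime)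
    (ha : 0 < a) (hZ : Nat.card Z = r ^ a) {ζ : Z} (hζ : orderOf ζ = r ^ a) {x₁ : E (prodForm Q Q)}
    (h1 : orderOf x₁ = r ^ a)
    (h2 : ∀ (k : ℕ) (v : L × L), v ≠ 0 → ((x₁ ^ k : E (prodForm Q Q)) : (L × L) ≃ₗ[F] (L × L)) v = v → x₁ ^ k = 1)
    {D : Subgroup (E (prodForm Q Q))} (hD : D ≤ T.range) (hne : D ≠ T.range) {τ₀ τ₁ : E (prodForm Q Q)}
    (h3 : τ₀ * T (ζ, 1) * τ₀⁻¹ ∈ D) (h4 : τ₁ * x₁ * τ₁⁻¹ ∈ D) : False := by
  have hTinj : Function.Injective T := by
    intro z w hzw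
    have h5 : dd (F := F) ((z.1 : Lˣ), (z.2 : Lˣ)) = dd ((w.1 : Lˣ), (w.2 : Lˣ)) := by rw [← hT, ← hT, hzw]
    have h6 := dd_injective h5
    exact Prod.ext (Subtype.ext (congrArg Prod.fst h6)) (Subtype.ext (congrArg Prod.snd h6))
  have hTfix : ∀ (z : Z × Z) (v : L × L), (T z : (L × L) ≃ₗ[F] (L × L)) v = v → (v.1 ≠ 0 → z.1 = 1) ∧
      (v.2 ≠ 0 → z.2 = 1) := by
    intro z v h
    rw [hT, dd_apply] at h
    constructor
    · intro hv
      apply Subtype.ext
      apply Units.ext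
      exact mul_right_cancel₀ hv ((congrArg Prod.fst h).trans (one_mul v.1).symm)
    · intro hv
      apply Subtype.ext
      apply Units.ext
      exact mul_right_cancel₀ hv ((congrArg Prod.snd h).trans (one_mul v.2).symm)
  have hconj : ∀ (τ x : E (prodForm Q Q)) (v : L × L), (x : (L × L) ≃ₗ[F] (L × L)) v = v →
      ((τ * x * τ⁻¹ : E (prodForm Q Q)) : (L × L) ≃ₗ[F] (L × L)) ((τ : (L × L) ≃ₗ[F] (L × L)) v) =
        (τ : (L × L) ≃ₗ[F] (L × L)) v := by
    intro τ x v hv
    show (τ : (L × L) ≃ₗ[F] (L × L)) ((x : (L × L) ≃ₗ[F] (L × L)) ((τ : (L × L) ≃ₗ[F] (L × L)).symm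
      ((τ : (L × L) ≃ₗ[F] (L × L)) v))) = _
    rw [LinearEquiv.symm_apply_apply, hv]
  have hord : ∀ τ x : E (prodForm Q Q), orderOf (τ * x * τ⁻¹) = orderOf x := fun τ x =>
    orderOf_injective (MulAut.conj τ).toMonoidHom (MulAut.conj τ).injective x
  have hTord : ∀ z, orderOf (T z) = orderOf z := fun z => orderOf_injective T hTinj z
  -- the two subgroups
  set! D₀ : Subgroup (Z × Z) := D.comap T with hD₀
  have hfin : D₀ = ⊤ → False := by
    intro h
    apply hne
    refine le_antisymm hD ?_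
    rintro _ ⟨z, rfl⟩
    have h5 : z ∈ D₀ := by rw [h]; exact Subgroup.mem_top z
    exact h5
  set! D₁ : Subgroup Z := D₀.comap (MonoidHom.inl Z Z) with hD₁
  set! D₂ : Subgroup Z := D₀.comap (MonoidHom.inr Z Z) with hD₂
  have hprod : D₁ = ⊤ → D₂ = ⊤ → False := by
    intro h5 h6
    apply hfin
    rw [eq_top_iff]
    rintro ⟨z, w⟩ -
    have h7 : z ∈ D₁ := by rw [h5]; exact Subgroup.mem_top z
    have h8 : w ∈ D₂ := by rw [h6]; exact Subgroup.mem_top w
    have h9 : (z, w) = ((z, 1) : Z × Z) * (1, w) := by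
      rw [Prod.mk_mul_mk, mul_one, one_mul]
    rw [h9]
    exact D₀.mul_mem h7 h8
  -- the first class
  have key0 : D₁ = ⊤ ∨ D₂ = ⊤ := by
    obtain ⟨⟨z, w⟩, hzw⟩ := hD h3
    have h5 : orderOf ((z, w) : Z × Z) = r ^ a := by
      rw [← hTord, hzw, hord, hTord, Prod.orderOf_mk, orderOf_one, Nat.lcm_one_right, hζ]
    have hmem : (z, w) ∈ D₀ := by
      show T (z, w) ∈ D
      rw [hzw]
      exact h3
    have h6 : ((T (ζ, 1) : E (prodForm Q Q)) : (L × L) ≃ₗ[F] (L × L)) (0, 1) = (0, 1) := by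
      rw [hT, dd_apply]
      refine Prod.ext (mul_zero _) ?_
      show (((1 : Z) : Lˣ) : L) * 1 = 1
      rw [mul_one]
      rfl
    have h7 := hconj τ₀ _ _ h6
    rw [← hzw] at h7
    obtain ⟨h8, h9⟩ := hTfix _ _ h7
    set! v := (τ₀ : (L × L) ≃ₗ[F] (L × L)) (0, 1) with hv; rewrite [← hv] at h9 h8 h7
    have hv0 : v ≠ 0 := by
      rw [hv, Ne, LinearEquiv.map_eq_zero_iff]
      intro h
      exact one_ne_zero (congrArg Prod.snd h)
    by_cases hv1 : v.1 = 0
    · have hv2 : v.2 ≠ 0 := fun h => hv0 (Prod.ext hv1 h)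
      have hw : w = 1 := h9 hv2
      left
      subst hw
      rw [Prod.orderOf_mk, orderOf_one, Nat.lcm_one_right] at h5
      exact top_of_order hZ h5 hmem
    · have hz : z = 1 := h8 hv1
      right
      subst hz
      rw [Prod.orderOf_mk, orderOf_one, Nat.lcm_one_left] at h5
      exact top_of_order hZ h5 hmem
  -- the second class
  obtain ⟨⟨z, w⟩, hzw⟩ := hD h4
  have hmem : (z, w) ∈ D₀ := by
    show T (z, w) ∈ D
    rw [hzw]
    exact h4
  have hpw : (τ₁ * x₁ * τ₁⁻¹) ^ r ^ (a - 1) ≠ 1 := by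
    intro h
    have h5 := orderOf_dvd_of_pow_eq_one h
    rw [hord, h1] at h5
    have h6 := (Nat.pow_dvd_pow_iff_le_right hr.one_lt).1 h5
    omega
  have hfull : ∀ y : Z, y ^ r ^ (a - 1) ≠ 1 → orderOf y = r ^ a := by
    intro y hy
    have h5 : orderOf y ∣ r ^ a := hZ ▸ _root_.orderOf_dvd_natCard y
    obtain ⟨j, hj, hj2⟩ := (Nat.dvd_prime_pow hr).1 h5
    rcases Nat.lt_or_ge j a with h6 | h6
    · exfalso
      apply hy
      rw [← orderOf_dvd_iff_pow_eq_one, hj2]
      exact pow_dvd_pow r (by omega)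
    · rw [hj2, le_antisymm hj h6]
  have hnofix : ∀ v : L × L, v ≠ 0 → ((T ((z, w) ^ r ^ (a - 1)) : E (prodForm Q Q)) : (L × L) ≃ₗ[F] (L × L)) v = v →
      False := by
    intro v hv h
    rw [map_pow, hzw] at h
    have h5 : ((x₁ ^ r ^ (a - 1) : E (prodForm Q Q)) : (L × L) ≃ₗ[F] (L × L))
        (((τ₁⁻¹ : E (prodForm Q Q)) : (L × L) ≃ₗ[F] (L × L)) v) =
        ((τ₁⁻¹ : E (prodForm Q Q)) : (L × L) ≃ₗ[F] (L × L)) v := by
      have h6 := hconj τ₁⁻¹ _ _ h
      have h7 : τ₁⁻¹ * (τ₁ * x₁ * τ₁⁻¹) ^ r ^ (a - 1) * τ₁⁻¹⁻¹ = x₁ ^ r ^ (a - 1) := by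
        rw [_root_.conj_pow]
        group
      rwa [h7] at h6
    have h6 := h2 _ _ (by rw [Ne, LinearEquiv.map_eq_zero_iff]; exact hv) h5
    apply hpw
    rw [_root_.conj_pow, h6, mul_one, mul_inv_cancel]
  have hz : orderOf z = r ^ a := by
    refine hfull z fun h => hnofix (1, 0) (fun h5 => one_ne_zero (congrArg Prod.fst h5)) ?_
    rw [Prod.pow_mk, h, hT, dd_apply]
    refine Prod.ext ?_ (mul_zero _)
    show (((1 : Z) : Lˣ) : L) * 1 = 1
    rw [mul_one]
    rfl
  have hw : orderOf w = r ^ a := by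
    refine hfull w fun h => hnofix (0, 1) (fun h5 => one_ne_zero (congrArg Prod.snd h5)) ?_
    rw [Prod.pow_mk, h, hT, dd_apply]
    refine Prod.ext (mul_zero _) ?_
    show (((1 : Z) : Lˣ) : L) * 1 = 1
    rw [mul_one]
    rfl
  rcases key0 with h5 | h5
  · refine hprod h5 (top_of_order hZ hw ?_)
    have h6 : z⁻¹ ∈ D₁ := by rw [h5]; exact Subgroup.mem_top _
    have h7 := D₀.mul_mem h6 hmem
    have h8 : (MonoidHom.inl Z Z) z⁻¹ * (z, w) = (1, w) := by
      rw [MonoidHom.inl_apply, Prod.mk_mul_mk, inv_mul_cancel, one_mul]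
    rw [h8] at h7
    exact h7
  · refine hprod (top_of_order hZ hz ?_) h5
    have h6 : w⁻¹ ∈ D₂ := by rw [h5]; exact Subgroup.mem_top _
    have h7 := D₀.mul_mem h6 hmem
    have h8 : (MonoidHom.inr Z Z) w⁻¹ * (z, w) = (z, 1) := by
      rw [MonoidHom.inr_apply, Prod.mk_mul_mk, inv_mul_cancel, one_mul]
    rw [h8] at h7
    exact h7

end classes

end Cfsg.Agent.H559.OZ
end

-- part: H559/OZ/Eight
section
/-!
# S4842, `POmega⁺_8`: the three primes (helper559)

* `isoP8` : a prime dividing `q ^ 3 - 1`, not `q - 1`, `q ^ 2 - 1`, is isolated (`q ≥ 3`);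
* `cong_eight` : `Cong p r 0 S` for an odd prime `r ∣ q ^ 2 + 1`.
-/

set_option autoImplicit false

namespace Cfsg.Agent.H559.OZ

open Module QuadraticMap Cfsg Subgroup
open Cfsg.Agent.LieClassical.OrthCore Cfsg.Agent.LieClassical.OrthTrans Cfsg.Agent.H890.SpParity
open Cfsg.Agent.LieClassical.OrthFinite
open Cfsg.Agent.H182.Sign Cfsg.Agent.H182.Orth Cfsg.Agent.H530.CJ Cfsg.Agent.H93.CJ Cfsg.Agent.H93.PReg
open Cfsg.Agent.H530.OZ Cfsg.Agent.H730.OZ

universe u

/-- The automorphism `x ↦ x ^ (q ^ 2)`. -/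
theorem exists_sigma {F L : Type} [Field F] [Fintype F] [Field L] [Finite L] [Algebra F L] (h4 : finrank F L = 4) :
    ∃ σ : L ≃ₐ[F] L, (∀ x, σ x = x ^ (Fintype.card F ^ 2)) ∧ ∀ x, σ (σ x) = x := by
  have hfr : ∀ (k : ℕ) (x : L), (FiniteField.frobeniusAlgEquivOfAlgebraic F L ^ k) x = x ^ Fintype.card F ^ k := by
    intro k x
    rw [AlgEquiv.coe_pow, FiniteField.coe_frobeniusAlgEquivOfAlgebraic, pow_iterate]
  refine ⟨FiniteField.frobeniusAlgEquivOfAlgebraic F L ^ 2, hfr 2, fun x => ?_⟩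
  have : Fintype L := Fintype.ofFinite L
  rw [hfr, hfr, ← pow_mul]
  have hcL : Fintype.card L = Fintype.card F ^ 4 := by
    rw [← h4]
    exact Module.card_eq_pow_finrank
  have h2 : Fintype.card F ^ 2 * Fintype.card F ^ 2 = Fintype.card L := by
    rw [hcL]
    ring
  rw [h2, FiniteField.pow_card]

/-- A unipotent element commuting with `(a, 1)`. -/
theorem exists_uni {F L : Type} [Field F] [Finite F] [Field L] [Finite L] [Algebra F L] {p : ℕ} [CharP F p]
    {Q : QuadraticForm F L} (hQ : Nondeg Q) (hd : 3 ≤ finrank F L) :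
    ∃ g ∈ E (prodForm Q Q), g ^ p = 1 ∧ g ≠ 1 ∧ ∀ a : Lˣ, (∀ v, Q ((a : L) * v) = Q v) → Commute (dd (a, 1)) g := by
  obtain ⟨e, he0, he, -⟩ := exists_sing_perp (Q := Q) (n := 0) ![] (by omega)
  obtain ⟨f, hf⟩ := exists_hyp hQ he he0
  obtain ⟨w, c, hew, hfw, -, -, hwc⟩ := exists_perp2 hQ hd hf
  have hpol : ∀ x y : L, polar (prodForm Q Q) ((0, x) : L × L) (0, y) = polar Q x y := by
    intro x y
    simp only [polar, prodForm_apply, Prod.mk_add_mk, add_zero, QuadraticMap.map_zero]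
    ring
  have hu : prodForm Q Q ((0, e) : L × L) = 0 := by
    rw [prodForm_apply]
    show Q 0 + Q e = 0
    rw [QuadraticMap.map_zero, he, add_zero]
  have hw : polar (prodForm Q Q) ((0, e) : L × L) (0, w) = 0 := by rw [hpol, hew]
  refine ⟨siegel (prodForm Q Q) (0, e) (0, w) hu hw, siegel_mem_E hu hw, siegel_pow_char hu hw, ?_, ?_⟩
  · intro h
    have h1 := congrArg Prod.snd (LinearEquiv.congr_fun h (0, f))
    rw [siegel_apply, hpol, hpol, prodForm_apply] at h1
    have h2 : f + polar Q e f • w - polar Q w f • e - ((Q 0 + Q w) * polar Q e f) • e = f := h1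
    have hwf : polar Q w f = 0 := by rw [polar_comm]; exact hfw
    rw [hf.pair, hwf, zero_smul, sub_zero, one_smul, mul_one, QuadraticMap.map_zero, zero_add] at h2
    have h3 : w = Q w • e := by
      have h4 : w - Q w • e = 0 := by
        have h5 : f + w - Q w • e - f = w - Q w • e := by abel
        rw [← h5, h2, sub_self]
      exact sub_eq_zero.1 h4
    have h4 : Q w = 0 := by
      have h5 := hfw
      rw [h3, polar_smul_right, hf.pair', smul_eq_mul, mul_one] at h5
      exact h5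
    rw [h4, zero_smul] at h3
    rw [h3, polar_zero_left] at hwc
    exact zero_ne_one hwc
  · intro a ha
    have hO : dd (F := F) (a, 1) ∈ O (prodForm Q Q) := dd_mem_O ha (by
      intro v
      show Q (((1 : Lˣ) : L) * v) = Q v
      rw [Units.val_one, one_mul])
    have hfix : ∀ x : L, dd (F := F) (a, 1) ((0, x) : L × L) = (0, x) := by
      intro x
      rw [dd_apply]
      refine Prod.ext (mul_zero _) ?_
      show ((1 : Lˣ) : L) * x = x
      rw [Units.val_one, one_mul]
    have h1 := siegel_conj hO hu hw (by rw [hfix]; exact hu) (by rw [hfix, hfix]; exact hw)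
    have h2 : dd (F := F) (a, 1) * siegel (prodForm Q Q) (0, e) (0, w) hu hw * (dd (F := F) (a, 1))⁻¹ =
        siegel (prodForm Q Q) (0, e) (0, w) hu hw := by
      rw [h1]
      ext v
      · rw [siegel_apply, siegel_apply, hfix, hfix]
      · rw [siegel_apply, siegel_apply, hfix, hfix]
    exact mul_inv_eq_iff_eq_mul.1 h2

/-- The element without fixed points and a unipotent element commuting with it. -/
theorem exists_x1 {F L : Type} [Field F] [Fintype F] [Field L] [Finite L] [Algebra F L] {p : ℕ} [CharP F p]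
    {Q : QuadraticForm F L} (hG : Good (prodForm Q Q)) (hQ : Sg Q 2 (-1)) (hd : finrank F L = 4) {lam : Lˣ} {N : ℕ}
    (hlam : orderOf lam = N) (hodd : Odd N) (hN : (lam : L) ^ (Fintype.card F ^ 2 + 1) = 1) :
    ∃ x u : E (prodForm Q Q), orderOf x = N ∧ (∀ (k : ℕ) (v : L × L), v ≠ 0 →
      ((x ^ k : E (prodForm Q Q)) : (L × L) ≃ₗ[F] (L × L)) v = v → x ^ k = 1) ∧ u ^ p = 1 ∧ u ≠ 1 ∧ Commute x u := by
  obtain ⟨e, he⟩ := (sg_tq F L hd).exists_equiv (Q' := prodForm Q Q) (by
    have h1 := hQ.prod hQ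
    have h2 : (-1 * -1 : ℤ) = 1 := by norm_num
    rw [h2] at h1
    exact h1)
  obtain ⟨σ, hσ, hσσ⟩ := exists_sigma (F := F) (L := L) hd
  have hF : 2 ≤ Fintype.card F := Fintype.one_lt_card
  have hchL : CharP L p := charP_of_injective_algebraMap (algebraMap F L).injective p
  -- a generator
  obtain ⟨g, hg⟩ := IsCyclic.exists_ofOrder_eq_natCard (α := Lˣ)
  have hgo : orderOf g = Fintype.card F ^ 4 - 1 := by
    have : Fintype L := Fintype.ofFinite L
    rw [hg, Nat.card_units, Module.natCard_eq_pow_finrank (K := F) (V := L), hd, Nat.card_eq_fintype_card]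
  have hbig : ∀ m : ℕ, 0 < m → m ≤ Fintype.card F ^ 2 + 1 → g ^ m ≠ 1 := by
    intro m hm hm2 h
    have h1 := Nat.le_of_dvd hm (orderOf_dvd_of_pow_eq_one h)
    rw [hgo] at h1
    have h2 : Fintype.card F ^ 4 = Fintype.card F ^ 2 * Fintype.card F ^ 2 := by ring
    have h3 : 2 * 2 ≤ Fintype.card F ^ 2 := by rw [pow_two]; exact Nat.mul_le_mul hF hF
    have h4 : 4 * Fintype.card F ^ 2 ≤ Fintype.card F ^ 2 * Fintype.card F ^ 2 := Nat.mul_le_mul_right _ h3
    omega
  have hg1 : (g : L) * σ g - 1 ≠ 0 := by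
    intro h
    rw [sub_eq_zero, hσ, ← pow_succ'] at h
    exact hbig _ (Nat.succ_pos _) le_rfl (Units.ext (by rw [Units.val_pow_eq_pow_val, h, Units.val_one]))
  have hg2 : (g : L) - σ g ≠ 0 := by
    intro h
    rw [sub_eq_zero, hσ] at h
    have h1 : 0 < Fintype.card F ^ 2 - 1 := by
      have h3 : 2 * 2 ≤ Fintype.card F ^ 2 := by rw [pow_two]; exact Nat.mul_le_mul hF hF
      omega
    refine hbig (Fintype.card F ^ 2 - 1) h1 (by omega) ?_
    apply mul_left_cancel (a := g)
    rw [← pow_succ', Nat.sub_add_cancel (by omega), mul_one]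
    exact Units.ext (by rw [Units.val_pow_eq_pow_val, ← h])
  have hO : ∀ h ∈ O (tq F L), e * h * e⁻¹ ∈ O (prodForm Q Q) := by
    intro h hh v
    show prodForm Q Q (e (h (e.symm v))) = _
    rw [he, hh, ← he, LinearEquiv.apply_symm_apply]
  have hdwinj : Function.Injective (fun z : Lˣ => (dw z : (L × L) ≃ₗ[F] (L × L))) := by
    intro z w hzw
    have h1 := congrArg Prod.fst (LinearEquiv.congr_fun (show (dw z : (L × L) ≃ₗ[F] (L × L)) = dw w from hzw) (1, 0))
    rw [dw_apply, dw_apply] at h1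
    have h2 : (z : L) * 1 = w * 1 := h1
    rw [mul_one, mul_one] at h2
    exact Units.ext h2
  have hdw1 : (dw (1 : Lˣ) : (L × L) ≃ₗ[F] (L × L)) = 1 := by rw [← pow_zero lam, ← dw_pow, pow_zero]
  have hpow : ∀ k : ℕ, (e * (dw lam : (L × L) ≃ₗ[F] (L × L)) * e⁻¹) ^ k = e * dw (lam ^ k) * e⁻¹ := by
    intro k
    rw [_root_.conj_pow, dw_pow]
  have hxE : e * (dw lam : (L × L) ≃ₗ[F] (L × L)) * e⁻¹ ∈ E (prodForm Q Q) := by
    refine Cfsg.Agent.ETable.Orth.mem_E_of_pow hG (hO _ (dw_mem_O lam)) hodd ?_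
    rw [hpow, ← hlam, pow_orderOf_eq_one, hdw1, mul_one, mul_inv_cancel]
  have hcomm : (lam : L) * σ lam = 1 := by rw [hσ, ← pow_succ']; exact hN
  have huE : e * us σ (((g : L) * σ g - 1) * (g - σ g)) * e⁻¹ ∈ E (prodForm Q Q) := by
    rw [← commutator_dw_us]
    have h1 := hG.commutator_le_E (Subgroup.commutator_mem_commutator (hO _ (dw_mem_O g)) (hO _ (us_mem_O hσσ g)))
    rw [commutatorElement_def] at h1
    have h2 : e * ((dw g : (L × L) ≃ₗ[F] (L × L)) * us σ (g - σ g) * (dw g)⁻¹ * (us σ (g - σ g))⁻¹) * e⁻¹ =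
        e * dw g * e⁻¹ * (e * us σ (g - σ g) * e⁻¹) * (e * dw g * e⁻¹)⁻¹ * (e * us σ (g - σ g) * e⁻¹)⁻¹ := by group
    rw [h2]
    exact h1
  have hone : ∀ h : (L × L) ≃ₗ[F] (L × L), e * h * e⁻¹ = 1 → h = 1 := by
    intro h hh
    have h2 : h = e⁻¹ * (e * h * e⁻¹) * e := by group
    rw [h2, hh]
    group
  refine ⟨⟨_, hxE⟩, ⟨_, huE⟩, ?_, ?_, ?_, ?_, ?_⟩
  · rw [← Subgroup.orderOf_coe]
    apply Nat.dvd_antisymm
    · apply orderOf_dvd_of_pow_eq_one
      show (e * (dw lam : (L × L) ≃ₗ[F] (L × L)) * e⁻¹) ^ N = 1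
      rw [hpow, ← hlam, pow_orderOf_eq_one, hdw1, mul_one, mul_inv_cancel]
    · rw [← hlam]
      apply orderOf_dvd_of_pow_eq_one
      have h1 : (e * (dw lam : (L × L) ≃ₗ[F] (L × L)) * e⁻¹) ^ orderOf (e * (dw lam : (L × L) ≃ₗ[F] (L × L)) * e⁻¹) = 1 :=
        pow_orderOf_eq_one _
      rw [hpow] at h1
      have h2 := hone _ h1
      rw [← hdw1] at h2
      exact hdwinj h2
  · intro k v hv h
    apply Subtype.ext
    have h0 : (e * (dw lam : (L × L) ≃ₗ[F] (L × L)) * e⁻¹) ^ k = e * dw (lam ^ k) * e⁻¹ := hpow k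
    have h1 : ((e * (dw lam : (L × L) ≃ₗ[F] (L × L)) * e⁻¹) ^ k : (L × L) ≃ₗ[F] (L × L)) v = v := h
    show (e * (dw lam : (L × L) ≃ₗ[F] (L × L)) * e⁻¹) ^ k = 1
    rw [h0] at h1 ⊢
    have h2 : (dw (lam ^ k) : (L × L) ≃ₗ[F] (L × L)) (e.symm v) = e.symm v := by
      apply e.injective
      rw [LinearEquiv.apply_symm_apply]
      exact h1
    have h3 : lam ^ k = 1 := by
      rw [dw_apply] at h2
      by_cases hv1 : (e.symm v).1 = 0
      · have hv2 : (e.symm v).2 ≠ 0 := by
          intro h4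
          apply hv
          rw [← LinearEquiv.map_eq_zero_iff e.symm]
          exact Prod.ext hv1 h4
        have h4 : (((lam ^ k)⁻¹ : Lˣ) : L) * (e.symm v).2 = (e.symm v).2 := congrArg Prod.snd h2
        have h5 : (((lam ^ k)⁻¹ : Lˣ) : L) = 1 := mul_right_cancel₀ hv2 (h4.trans (one_mul _).symm)
        exact inv_eq_one.1 (Units.ext h5)
      · have h4 : ((lam ^ k : Lˣ) : L) * (e.symm v).1 = (e.symm v).1 := congrArg Prod.fst h2
        exact Units.ext (mul_right_cancel₀ hv1 (h4.trans (one_mul _).symm))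
    rw [h3, hdw1, mul_one, mul_inv_cancel]
  · apply Subtype.ext
    show (e * us σ (((g : L) * σ g - 1) * (g - σ g)) * e⁻¹) ^ p = 1
    rw [_root_.conj_pow, us_pow, CharP.cast_eq_zero, zero_mul, us_zero, mul_one, mul_inv_cancel]
  · intro h
    have h1 : e * us σ (((g : L) * σ g - 1) * (g - σ g)) * e⁻¹ = 1 := congrArg Subtype.val h
    exact us_ne_one (mul_ne_zero hg1 hg2) (hone _ h1)
  · apply Subtype.ext
    have h1 := (dw_comm_us (((g : L) * σ g - 1) * (g - σ g)) hcomm).map (MulAut.conj e)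
    exact h1.eq

/-- **Primes dividing `q ^ 2 + 1`.** -/
theorem cong_eight {F : Type} [Field F] [Fintype F] {p : ℕ} [Fact p.Prime] [CharP F p]
    {ι : Type} [Fintype ι] [DecidableEq ι] {R : QuadraticForm F (ι → F)}
    (hR : Sg R 4 1) {S : Type u} [Group S] [Finite S] (i : POmega F ⇑R ≃* S) {r a s : ℕ} (hr : r.Prime) (hr2 : r ≠ 2)
    (ha : 0 < a) (hra : Fintype.card F ^ 2 + 1 = r ^ a * s)
    (hfac : (Nat.card S).factorization r = 2 * a) : Cong p r 0 S := by
  have hpp : p.Prime := Fact.out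
  obtain ⟨L, _, _, _, Q, u, hQ, hu, huQ⟩ := exists_torusM F (k := 2) two_ne_zero
  obtain ⟨hG, π, hπ, hker⟩ := exists_pi' (hQ.prod hQ) (by omega) (by
    have h1 : (-1 * -1 : ℤ) = 1 := by norm_num
    rw [h1]
    exact hR) i
  have hnd := (hQ.prod hQ).nondeg
  have hdL : finrank F L = 4 := hQ.dim
  have hcF : Nat.card F = Fintype.card F := Nat.card_eq_fintype_card
  have hF : 2 ≤ Fintype.card F := Fintype.one_lt_card
  set! q := Fintype.card F with hqdef; rewrite [← hqdef] at hF hcF hu hra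
  have hrq : r ∣ q ^ 2 + 1 := by
    rw [hra]
    exact Dvd.dvd.mul_right (dvd_pow_self r ha.ne') s
  have hs0 : s ≠ 0 := by
    rintro rfl
    rw [mul_zero] at hra
    omega
  have hodd : Odd (r ^ a) := (hr.odd_of_ne_two hr2).pow
  -- `r` does not divide `q ^ i - 1`, `i < 4`
  have hnot2 : ¬ r ∣ q ^ 2 - 1 := by
    intro h
    have h1 := (Nat.dvd_sub hrq h)
    have h3 : 2 * 2 ≤ q ^ 2 := by rw [pow_two]; exact Nat.mul_le_mul hF hF
    have h2 : q ^ 2 + 1 - (q ^ 2 - 1) = 2 := by (clear * - h3; omega)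
    rw [h2] at h1
    exact hr2 ((Nat.prime_dvd_prime_iff_eq hr Nat.prime_two).1 h1)
  have hnot : ∀ i : ℕ, 0 < i → i < 4 → ¬ r ∣ q ^ i - 1 := by
    intro i hi hi4 h
    have h2 : q ^ 2 - 1 = (q + 1) * (q - 1) := by
      have := Nat.sq_sub_sq q 1
      simpa only [_root_.one_pow] using this
    have h3 : i = 1 ∨ i = 2 ∨ i = 3 := by omega
    rcases h3 with rfl | rfl | rfl
    · rw [pow_one] at h
      exact hnot2 (h2 ▸ Dvd.dvd.mul_left h _)
    · exact hnot2 h
    · have h4 : r ∣ q * (q ^ 2 + 1) - (q ^ 3 - 1) := Nat.dvd_sub (Dvd.dvd.mul_left hrq q) h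
      have h5 : q * (q ^ 2 + 1) - (q ^ 3 - 1) = q + 1 := by
        have h6 : q * (q ^ 2 + 1) = q ^ 3 + q := by ring
        have h7 : 0 < q ^ 3 := pow_pos (by omega) 3
        omega
      rw [h5] at h4
      exact hnot2 (h2 ▸ Dvd.dvd.mul_right h4 _)
  have hrp : r ≠ p := by
    rintro rfl
    have h1 : r ∣ q := (CharP.cast_eq_zero_iff F r q).1 (by
      rw [hqdef]
      exact FiniteField.cast_card_eq_zero F)
    have h2 : r ∣ 1 := (Nat.dvd_add_right (Dvd.dvd.pow h1 two_ne_zero)).1 hrq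
    exact hr.one_lt.ne' (Nat.dvd_one.1 h2)
  have hu0 : u ≠ 0 := by
    rintro rfl
    have h1 := pow_orderOf_eq_one (0 : L)
    rw [hu, pow_succ, mul_zero] at h1
    exact zero_ne_one h1
  set! lam : Lˣ := Units.mk0 u hu0 ^ s with hlam
  have hlamo : orderOf lam = r ^ a := by
    have h1 : orderOf (Units.mk0 u hu0) = r ^ a * s := by
      rw [← orderOf_units, Units.val_mk0, hu, hra]
    rw [hlam, orderOf_pow_of_dvd hs0 (by rw [h1]; exact Dvd.intro_left _ rfl), h1,
      Nat.mul_div_cancel _ (Nat.pos_of_ne_zero hs0)]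
  have hlamQ : ∀ v, Q ((lam : L) * v) = Q v := by
    have hpowQ : ∀ (m : ℕ) (v : L), Q (u ^ m * v) = Q v := by
      intro m
      induction m with
      | zero => intro v; rw [pow_zero, one_mul]
      | succ m ih => intro v; rw [pow_succ', mul_assoc, huQ, ih]
    intro v
    rw [hlam, Units.val_pow_eq_pow_val, Units.val_mk0, hpowQ]
  have hlamQ' : ∀ z ∈ Subgroup.zpowers lam, ∀ v, Q ((z : L) * v) = Q v := by
    intro z hz
    obtain ⟨k, rfl⟩ := (mem_powers_iff_mem_zpowers.2 hz)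
    show ∀ v, Q (((lam ^ k : Lˣ) : L) * v) = Q v
    induction k with
    | zero => intro v; rw [pow_zero, Units.val_one, one_mul]
    | succ k ih =>
      intro v
      rw [pow_succ, Units.val_mul, mul_assoc, ih (Subgroup.npow_mem_zpowers lam k), hlamQ]
  have hlam1 : lam ≠ 1 := by
    intro h
    rw [h, orderOf_one] at hlamo
    exact (Nat.one_lt_pow ha.ne' hr.one_lt).ne hlamo
  have hgen : Algebra.adjoin F {(lam : L)} = ⊤ := by
    refine adjoin_eq_top lam.ne_zero (by rw [orderOf_units, hlamo]) ?_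
    intro i hi hi4 h
    rw [hdL] at hi4
    rw [hcF] at h
    exact hnot i hi hi4 ((dvd_pow_self r ha.ne').trans h)
  -- the torus
  let Z : Subgroup Lˣ := Subgroup.zpowers lam
  have hZ : Nat.card Z = r ^ a := by rw [Nat.card_zpowers, hlamo]
  have hZr : ∀ z : Z, z ^ r ^ a = 1 := fun z => by rw [← hZ]; exact pow_card_eq_one'
  have hmemT : ∀ z : Z × Z, dd (F := F) ((z.1 : Lˣ), (z.2 : Lˣ)) ∈ E (prodForm Q Q) := by
    intro z
    refine Cfsg.Agent.ETable.Orth.mem_E_of_pow hG (dd_mem_O (hlamQ' _ z.1.2) (hlamQ' _ z.2.2)) hodd ?_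
    rw [← map_pow]
    have h1 : (((z.1 : Lˣ), (z.2 : Lˣ)) : Lˣ × Lˣ) ^ r ^ a = 1 := by
      rw [Prod.pow_mk]
      exact Prod.ext (congrArg Subtype.val (hZr z.1)) (congrArg Subtype.val (hZr z.2))
    rw [h1, map_one]
  let T : Z × Z →* E (prodForm Q Q) := MonoidHom.mk' (fun z => ⟨dd ((z.1 : Lˣ), (z.2 : Lˣ)), hmemT z⟩) (fun z w =>
    Subtype.ext (by
      show dd _ = dd _ * dd _
      rw [← map_mul]
      rfl))
  have hT : ∀ z, (T z : (L × L) ≃ₗ[F] (L × L)) = dd ((z.1 : Lˣ), (z.2 : Lˣ)) := fun _ => rfl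
  have hTinj : Function.Injective T := by
    intro z w hzw
    have h5 : dd (F := F) ((z.1 : Lˣ), (z.2 : Lˣ)) = dd ((w.1 : Lˣ), (w.2 : Lˣ)) := by rw [← hT, ← hT, hzw]
    have h6 := dd_injective h5
    exact Prod.ext (Subtype.ext (congrArg Prod.fst h6)) (Subtype.ext (congrArg Prod.snd h6))
  have hcardT : Nat.card T.range = r ^ (2 * a) := by
    rw [← Nat.card_congr (MonoidHom.ofInjective hTinj).toEquiv, Nat.card_prod, hZ, ← pow_add, two_mul]
  let ζ : Z := ⟨lam, Subgroup.mem_zpowers lam⟩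
  have hζ : orderOf ζ = r ^ a := by rw [← hlamo, ← Subgroup.orderOf_coe]
  have hnt : Nontrivial (L × L) := inferInstance
  obtain ⟨c, hcen, hc, hcp, hcr⟩ := ker_facts (p := p) hnd hnt hker
  obtain ⟨g, hgE, hgp, hg1, hgc⟩ := exists_uni (p := p) (F := F) hQ.nondeg (by omega)
  obtain ⟨x₁, u₁, hx₁, hx₁', hu₁, hu₁', hxu⟩ := exists_x1 (p := p) hG hQ hdL hlamo hodd (by
    have h1 : lam ^ (Fintype.card F ^ 2 + 1) = 1 := by
      rw [← orderOf_dvd_iff_pow_eq_one, hlamo, ← hqdef, hra]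
      exact Dvd.intro _ rfl
    rw [← Units.val_pow_eq_pow_val, h1, Units.val_one])
  have hfinH : Finite (E (prodForm Q Q)) := by
    have : Finite ((L × L) ≃ₗ[F] (L × L)) :=
      Finite.of_injective (fun g : (L × L) ≃ₗ[F] (L × L) => (g : L × L → L × L)) DFunLike.coe_injective
    infer_instance
  refine cong_of_cover hr hpp hrp π hπ hcen hc (hcr r hr hr2) hcp T.range (IsPGroup.of_card hcardT)
    (by rw [hfac]; exact hcardT) ?_ ?_
  · intro v hv hvp
    apply Subtype.ext
    have hv1 : Commute (T (ζ, 1)) v := hv _ ⟨_, rfl⟩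
    have hv2 : Commute (T (1, ζ)) v := hv _ ⟨_, rfl⟩
    refine cen_one (p := p) hlam1 hgen ?_ ?_ (congrArg Subtype.val hvp)
    · exact (congrArg Subtype.val hv1.eq).symm
    · exact (congrArg Subtype.val hv2.eq).symm
  · intro D hD hne
    by_cases h0 : ∃ τ, τ * T (ζ, 1) * τ⁻¹ ∈ D
    · by_cases h1 : ∃ τ, τ * x₁ * τ⁻¹ ∈ D
      · exfalso
        obtain ⟨τ₀, h3⟩ := h0
        obtain ⟨τ₁, h4⟩ := h1
        exact two_classes hT hr ha hZ hζ hx₁ hx₁' hD hne h3 h4
      · push Not at h1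
        exact ⟨x₁, u₁, a, by rw [← hx₁, pow_orderOf_eq_one], hu₁, hu₁', hxu, h1⟩
    · push Not at h0
      refine ⟨T (ζ, 1), ⟨g, hgE⟩, a, ?_, Subtype.ext hgp, fun h => hg1 (congrArg Subtype.val h), ?_, h0⟩
      · rw [← map_pow, Prod.pow_mk, hZr, one_pow]
        exact map_one T
      · exact Subtype.ext (hgc lam hlamQ).eq

end Cfsg.Agent.H559.OZ
end

-- part: H559/OZ/Twelve
section
/-!
# S4842, `POmega⁺_8 (q)`, `q ≥ 3`: the exponent is `12` (helper559)

* `mid_of_one` : `0 < m < 2 v` for a character with exactly one class of zeros;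
* `x12` : `e = 1` and `m = 12 f`, `q = p ^ f`.
-/

set_option autoImplicit false

namespace Cfsg.Agent.H559.OZ

open Cfsg Cfsg.Agent.Characters Cfsg.Agent.H730.OZ Cfsg.Agent.LieClassical.OrthForms Cfsg.Agent.H182.Sign
open Cfsg.Agent.H182.Orth Cfsg.Agent.H530.OZ

universe u

theorem mid_of_one {G : Type u} [Group G] [Finite G] (hs : IsSimpleGroup G) {p : ℕ} (hp : p.Prime) {v : ℕ}
    (hv : (Nat.card G).factorization p = v) (hv0 : v ≠ 0) (hK : Kaw p G)
    (h0 : ¬ p ^ (2 * v) - 1 ∣ Nat.card G) {χ : G → ℂ} (hχ : IsIrrCharacter G χ) (hz : OneZero χ) {m : ℕ} {e : ℤ}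
    (he : e = 1 ∨ e = -1) (hsum : ∑ᶠ u ∈ pSet p G, χ u = (e : ℂ) * (p : ℂ) ^ m * χ 1) : 0 < m ∧ m < 2 * v := by
  classical
  have := Fintype.ofFinite G
  have hd : ((charDegree χ : ℕ) : ℂ) = χ 1 := H686.CharKit.charDegree_cast (Core.isIrr_isCharacter hχ)
  have hd0 : 0 < charDegree χ := H686.CharKit.charDegree_pos ⟨χ, hχ⟩
  have hpG : p ∣ Nat.card G := by
    by_contra h
    rw [Nat.factorization_eq_zero_of_not_dvd h] at hv
    exact hv0 hv.symm
  obtain ⟨hmle, hmtop⟩ := hK.top hp hχ he hsum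
  rw [hv] at hmle hmtop
  constructor
  · rcases Nat.eq_zero_or_pos m with hm0 | hm0
    · exfalso
      refine h0 ?_
      have h1 := OneZero.dvd_of_degree hp hpG hχ hz ?_
      · rwa [hK.card, hv] at h1
      · obtain ⟨z, hzz⟩ := frob hp hχ
        rw [hsum, hm0, pow_zero, mul_one, ← hd] at hzz
        have h2 : e * (charDegree χ : ℤ) = ((p ^ (Nat.card G).factorization p : ℕ) : ℤ) * z := by
          exact_mod_cast hzz
        have h3 : ((p ^ (Nat.card G).factorization p : ℕ) : ℤ) ∣ (charDegree χ : ℤ) := by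
          rcases he with rfl | rfl
          · exact ⟨z, by rw [← h2, one_mul]⟩
          · exact ⟨-z, by rw [mul_neg, ← h2]; ring⟩
        exact_mod_cast h3
    · exact hm0
  · rcases Nat.lt_or_ge m (2 * v) with hlt | hge
    · exact hlt
    · exfalso
      have hall := hmtop (le_antisymm hmle hge)
      obtain ⟨u, hu⟩ := @exists_prime_orderOf_dvd_card' G _ _ p ⟨hp⟩ hpG
      have hu1 : χ u = χ 1 := hall u ⟨1, by rw [hu, pow_one]⟩
      set! K := H686.CharKit.chKer (⟨χ, hχ⟩ : IrrCharacter G) with hKdef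
      have huK : u ∈ K := H686.CharKit.mem_chKer.2 hu1
      have hKtop : K = ⊤ := by
        rcases hs.eq_bot_or_eq_top_of_normal K inferInstance with h | h
        · exfalso
          rw [h, Subgroup.mem_bot] at huK
          rw [huK, orderOf_one] at hu
          exact hp.one_lt.ne hu
        · exact h
      obtain ⟨x, hx0, -⟩ := hz
      have hxK : x ∈ K := by rw [hKtop]; exact Subgroup.mem_top _
      have hx1 : χ x = χ 1 := H686.CharKit.mem_chKer.1 hxK
      rw [hx0, ← hd] at hx1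
      have : (charDegree χ : ℂ) ≠ 0 := by exact_mod_cast hd0.ne'
      exact this hx1.symm

/-- The arithmetic. -/
theorem end_twelve {f m r₁ r₂ p : ℕ} (hp : 1 ≤ p) (hf : 0 < f) (h1 : Prim p (6 * f) r₁) (h2 : Prim p (4 * f) r₂)
    {e : ℤ} (he : e = 1 ∨ e = -1) (hm : 0 < m) (hm' : m < 24 * f) (c1 : (r₁ : ℤ) ∣ e * (p : ℤ) ^ m - (p : ℤ) ^ 0)
    (c2 : (r₂ : ℤ) ∣ e * (p : ℤ) ^ m - (p : ℤ) ^ 0) : e = 1 ∧ m = 12 * f := by
  rcases he with rfl | rfl
  · refine ⟨rfl, ?_⟩
    obtain ⟨x, hx⟩ := h1.pos hp c1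
    obtain ⟨y, hy⟩ := h2.pos hp c2
    have h3 : 6 * x = 4 * y := by
      apply Nat.eq_of_mul_eq_mul_left hf
      linarith only [hx, hy]
    have hx4 : x < 4 := by
      by_contra hcon
      push Not at hcon
      have h5 : 6 * f * 4 ≤ 6 * f * x := Nat.mul_le_mul_left _ hcon
      omega
    have hx0 : 0 < x := Nat.pos_of_ne_zero (by rintro rfl; omega)
    have hx2 : x = 2 := by omega
    rw [hx, hx2]
    ring
  · exfalso
    obtain ⟨⟨x, hx⟩, h3⟩ := h1.neg (by omega) hp c1
    obtain ⟨⟨y, hy⟩, h4⟩ := h2.neg (by omega) hp c2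
    have h5 : 6 * x = 4 * y := by
      apply Nat.eq_of_mul_eq_mul_left hf
      linarith only [hx, hy]
    obtain ⟨z, rfl⟩ : ∃ z, x = 2 * z := ⟨x / 2, by omega⟩
    apply h3
    refine ⟨z, ?_⟩
    have h6 : 2 * m = 2 * (6 * f * z) := by
      rw [hx]
      ring
    exact Nat.eq_of_mul_eq_mul_left two_pos h6

/-- The exponent of a prime dividing `q ^ 2 + 1`. -/
theorem fac_four {q r c d : ℕ} (hr : r.Prime) (hq : 2 ≤ q) (hd : ¬ r ∣ d) (hc : c ≠ 0) (h0 : ¬ r ∣ q)
    (h2 : ¬ r ∣ q ^ 2 - 1) (h6 : ¬ r ∣ q ^ 6 - 1)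
    (h : d * c = q ^ 12 * (q ^ 4 - 1) * ((q ^ 2 - 1) * (q ^ 4 - 1) * (q ^ 6 - 1))) :
    c.factorization r = 2 * (q ^ 2 + 1).factorization r := by
  have h4 : q ^ 4 - 1 = (q ^ 2 + 1) * (q ^ 2 - 1) := by
    have h5 := Nat.sq_sub_sq (q ^ 2) 1
    rw [one_pow, ← pow_mul] at h5
    exact h5
  have hq2 : 2 * 2 ≤ q ^ 2 := by rw [pow_two]; exact Nat.mul_le_mul hq hq
  have hd0 : d ≠ 0 := by rintro rfl; exact hd (dvd_zero r)
  have e12 : q ^ 12 ≠ 0 := pow_ne_zero _ (by omega)
  have e2 : q ^ 2 - 1 ≠ 0 := by omega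
  have e2' : q ^ 2 + 1 ≠ 0 := Nat.succ_ne_zero _
  have e4 : (q ^ 2 + 1) * (q ^ 2 - 1) ≠ 0 := mul_ne_zero e2' e2
  have e6 : q ^ 6 - 1 ≠ 0 := by
    intro h7
    exact h6 (h7 ▸ dvd_zero r)
  rw [h4] at h
  have h7 : (d * c).factorization r =
      (q ^ 12 * ((q ^ 2 + 1) * (q ^ 2 - 1)) * ((q ^ 2 - 1) * ((q ^ 2 + 1) * (q ^ 2 - 1)) * (q ^ 6 - 1))).factorization r := by
    rw [h]
  rw [Nat.factorization_mul hd0 hc, Nat.factorization_mul (mul_ne_zero e12 e4) (mul_ne_zero (mul_ne_zero e2 e4) e6),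
    Nat.factorization_mul e12 e4, Nat.factorization_mul (mul_ne_zero e2 e4) e6, Nat.factorization_mul e2 e4,
    Nat.factorization_mul e2' e2] at h7
  simp only [Finsupp.add_apply] at h7
  rw [Nat.factorization_eq_zero_of_not_dvd hd, Nat.factorization_eq_zero_of_not_dvd h2,
    Nat.factorization_eq_zero_of_not_dvd h6,
    Nat.factorization_eq_zero_of_not_dvd (fun h8 => h0 (hr.dvd_of_dvd_pow h8))] at h7
  omega

/-- **`POmega⁺_8 (q)`, `q ≥ 3` : the exponent is `12`.** -/
theorem x12 {S : Type u} [Group S] [Finite S] (hs : IsSimpleGroup S) {F : Type} [Field F] [Fintype F]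
    (h3 : 3 ≤ Fintype.card F) (i : S ≃* POmega F (quadFormPlus 4 F)) {p f : ℕ} (hp : p.Prime)
    (hcard : Fintype.card F = p ^ f) (hK : Kaw p S) {χ : S → ℂ} (hχ : IsIrrCharacter S χ) (h0 : OneZero χ) {m : ℕ}
    {e : ℤ} (he : e = 1 ∨ e = -1) (hsum : ∑ᶠ u ∈ pSet p S, χ u = (e : ℂ) * (p : ℂ) ^ m * χ 1) :
    e = 1 ∧ m = 12 * f := by
  have hpf : Fact p.Prime := ⟨hp⟩
  have hf : 0 < f := Nat.pos_of_ne_zero (by rintro rfl; rw [hcard, pow_zero] at h3; omega)
  have hch : CharP F p := by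
    obtain ⟨p', hp'⟩ := CharP.exists F
    obtain ⟨⟨f', hf'⟩, hpp', hcard'⟩ := FiniteField.card F p'
    simp only [PNat.mk_coe] at hcard'
    rw [hcard] at hcard'
    have h1 : p ∣ p' ^ f' := by rw [← hcard']; exact dvd_pow_self p hf.ne'
    have h2 : p = p' := (Nat.prime_dvd_prime_iff_eq hp hpp').1 (hp.dvd_of_dvd_pow h1)
    rw [h2]
    exact hp'
  have hS0 := S0293.result hcard 4 (le_refl 4)
  have hcS : Nat.card (POmega F (quadFormPlus 4 F)) = Nat.card S := (Nat.card_congr i.toEquiv).symm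
  rw [hcS] at hS0
  have hfn : 0 < f * 4 := Nat.mul_pos hf (by omega)
  obtain ⟨ho1, ho2⟩ := order_facts hp hf (le_refl 4) (Nat.card_pos (α := S)).ne' (d := Nat.gcd 4 ((p ^ f) ^ 4 - 1))
    (w := (p ^ f) ^ 4 - 1) (fun h => not_dvd_pow_sub hp hfn (by rw [pow_mul]; exact h.trans (Nat.gcd_dvd_right _ _)))
    (fun h => not_dvd_pow_sub hp hfn (by rw [pow_mul]; exact h)) (by
      have h4 : (p ^ f) ^ (2 * 4) - 1 = ((p ^ f) ^ 4 + 1) * ((p ^ f) ^ 4 - 1) := by
        rw [mul_comm 2, pow_mul]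
        have := Nat.sq_sub_sq ((p ^ f) ^ 4) 1
        simpa only [_root_.one_pow] using this
      rw [h4]
      exact Dvd.intro_left _ rfl) hS0
  obtain ⟨hm0, hm1⟩ := mid_of_one hs hp ho1 (by omega) hK ho2 hχ h0 he hsum
  have i' : POmega F ⇑(plusForm 4 F) ≃* S := by
    rw [coe_plusForm]
    exact i.symm
  have hR : Sg (plusForm 4 F) 4 1 := sg_plusForm 4
  -- the prime of order `6`
  obtain ⟨r₁, hr₁⟩ := exists_prim (p := p) (n := 2 * 3 * f) hp.two_le (by omega) (by
    rintro ⟨rfl, h6⟩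
    have hf1 : f = 1 := by omega
    rw [hcard, hf1] at h3
    omega)
  have hc₁ : Cong p r₁ 0 S := by
    obtain ⟨h1, h2⟩ := hr₁.conds hf
    obtain ⟨L, _, _, _, Q', u, hQ', -, -⟩ := exists_torusM F (k := 1) one_ne_zero
    exact IsoAt.cong hp hr₁.prime hr₁.ne (isoM (p := p) (k := 3) hQ' (Or.inr rfl) (by omega)
      (fun h => absurd h one_ne_zero) (by simpa using hR) i' hr₁.prime (by rw [hcard]; exact h1)
      (by rw [hcard]; exact h2))
  -- the prime of order `4`
  obtain ⟨r₂, hr₂⟩ := exists_prim (p := p) (n := 2 * 2 * f) hp.two_le (by omega) (by omega)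
  have hc₂ : Cong p r₂ 0 S := by
    obtain ⟨h1, h2⟩ := hr₂.conds hf
    have hr22 : r₂ ≠ 2 := (hr₂.two_lt (by omega)).ne'
    have hq0 : (p ^ f) ^ 2 + 1 ≠ 0 := Nat.succ_ne_zero _
    refine cong_eight (p := p) (a := ((p ^ f) ^ 2 + 1).factorization r₂)
      (s := ((p ^ f) ^ 2 + 1) / r₂ ^ ((p ^ f) ^ 2 + 1).factorization r₂) hR i' hr₂.prime hr22
      (hr₂.prime.factorization_pos_of_dvd hq0 h1) (by rw [hcard]; exact (Nat.ordProj_mul_ordCompl_eq_self _ _).symm) ?_
    refine fac_four (d := Nat.gcd 4 ((p ^ f) ^ 4 - 1)) hr₂.prime (by rw [← hcard]; omega) ?_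
      (Nat.card_pos (α := S)).ne' (fun h => hr₂.not_dvd_pow f h) (h2 2 two_pos (by omega)) ?_ ?_
    · intro h
      have h5 := (Nat.prime_dvd_prime_iff_eq hr₂.prime Nat.prime_two).1
        (hr₂.prime.dvd_of_dvd_pow (m := 2) (n := 2) (h.trans (Nat.gcd_dvd_left _ _)))
      exact hr22 h5
    · rw [← pow_mul, hr₂.iff]
      rintro ⟨y, hy⟩
      have h5 : 6 = 4 * y := by
        apply Nat.eq_of_mul_eq_mul_left hf
        linarith only [hy]
      omega
    · rw [hS0]
      simp only [Finset.prod_range_succ, Finset.prod_range_zero]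
      norm_num only [_root_.one_mul]
  exact end_twelve hp.one_le hf hr₁ hr₂ he hm0 (by omega) (hc₁ χ hχ h0 m e he hsum) (hc₂ χ hχ h0 m e he hsum)

end Cfsg.Agent.H559.OZ
end

-- part: H224/OZ/Q3a
section
/-!
# S4842: the excess inequality for an element with an integral value (helper224)

`one_class_int` : `χ(t) = k ∈ ℤ`, `n ∣ k`, `t` not conjugate to the zero `x`: `|C(x)| (n² - 1) ≤ |C(t)|`
(no rationality of `t`).
-/

set_option autoImplicit false
set_option linter.unusedSectionVars false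

open Cfsg Cfsg.Agent.Characters Cfsg.Agent.H686.CharKit Cfsg.Agent.H732.VZ Cfsg.Agent.H604.OZ Cfsg.Agent.H849.OZ
open Cfsg.Agent.H730.OZ

namespace Cfsg.Agent.H224.OZ

universe u v

variable {G : Type u} [Group G] [Finite G] {χ : IrrCharacter G}

theorem value_pow {t : G} {k : ℤ} (hk : (χ : G → ℂ) t = k) {m : ℕ} (hm : m.Coprime (Nat.card G)) :
    (χ : G → ℂ) (t ^ m) = k := by
  obtain ⟨σ, hσ⟩ := GaloisBasic.exists_ringEquiv_of_coprime (G := G) hm
  rw [← hσ _ (Core.isIrr_isCharacter χ.2), hk, map_intCast]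

theorem meanGE_int {t : G} {k : ℤ} (hk : (χ : G → ℂ) t = k) : MeanGE χ t ((k : ℝ) ^ 2) := by
  unfold MeanGE
  have : NeZero (Nat.card G) := ⟨Nat.card_pos.ne'⟩
  have h1 : ∀ m : (ZMod (Nat.card G))ˣ, Complex.normSq ((χ : G → ℂ) (t ^ (m : ZMod (Nat.card G)).val)) = (k : ℝ) ^ 2 := by
    intro m
    rw [value_pow hk (ZMod.val_coe_unit_coprime m), Complex.normSq_intCast, pow_two]
  rw [Finset.sum_congr rfl fun m _ => h1 m, Finset.sum_const, nsmul_eq_mul, Finset.card_univ]

theorem one_class_int {x t : G} (h : _root_.Cfsg.Agent.H732.VZ.One χ x) {k : ℤ} (hk : (χ : G → ℂ) t = k) (hx : ¬ IsConj x t) {n : ℕ}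
    (hn : (n : ℤ) ∣ k) : cent x * (n ^ 2 - 1) ≤ cent t := by
  classical
  have := Fintype.ofFinite G
  have hk0 : k ≠ 0 := by
    rintro rfl
    exact hx (h.uniq t (by rw [hk]; simp))
  set! Y : Finset G := Finset.univ.filter fun g => ∃ m : ℕ, m.Coprime (Nat.card G) ∧ IsConj (t ^ m) g with hY
  have hmem : ∀ g, g ∈ Y ↔ ∃ m : ℕ, m.Coprime (Nat.card G) ∧ IsConj (t ^ m) g := fun g => by simp only [hY, _root_.Nat.card_eq_fintype_card, _root_.isConj_iff, _root_.Finset.mem_filter, _root_.Finset.mem_univ, _root_.true_and]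
  have hval : ∀ g ∈ Y, (χ : G → ℂ) g = k := by
    intro g hg
    obtain ⟨m, hm, h1⟩ := (hmem g).1 hg
    rw [← Core.classFunction_apply_eq (Core.isIrr_isClassFunction χ.2) h1, value_pow hk hm]
  have h1 := excess_sets h {()} (fun _ => Y) (fun _ => (k : ℝ) ^ 2)
    (fun _ _ => by
      intro g hg j hj
      obtain ⟨m, hm, h1⟩ := (hmem g).1 hg
      exact (hmem _).2 ⟨m * j, hm.mul_left hj, by rw [pow_mul]; exact isConj_pow h1 j⟩)
    (fun i _ j _ hij => absurd rfl hij)
    (fun _ _ g hg h2 => by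
      have h3 := hval g hg
      rw [← Core.classFunction_apply_eq (Core.isIrr_isClassFunction χ.2) h2, h.zero] at h3
      exact hk0 (by exact_mod_cast h3.symm))
    (fun _ _ g hg => meanGE_int (hval g hg))
  rw [Finset.sum_singleton] at h1
  have hsub : (Finset.univ.filter fun g : G => IsConj t g) ⊆ Y := by
    intro g hg
    exact (hmem g).2 ⟨1, Nat.coprime_one_left _, by rw [pow_one]; exact (Finset.mem_filter.1 hg).2⟩
  have h2 : Nat.card G ≤ Y.card * cent t := by
    rw [← card_class t]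
    exact Nat.mul_le_mul_right _ (Finset.card_le_card hsub)
  have hYpos : 0 < Y.card := Finset.card_pos.2 ⟨t, (hmem t).2 ⟨1, Nat.coprime_one_left _, by rw [pow_one]⟩⟩
  have h2' : (n : ℤ) ^ 2 ≤ k ^ 2 := by
    have h3 : n ≤ k.natAbs := Nat.le_of_dvd (Int.natAbs_pos.2 hk0) (Int.natCast_dvd.1 hn)
    have h4 : (n : ℤ) ≤ |k| := by
      rw [Int.abs_eq_natAbs]
      exact_mod_cast h3
    rw [← sq_abs k]
    exact pow_le_pow_left₀ (by positivity) h4 2
  have h3 : ((n : ℝ)) ^ 2 ≤ (k : ℝ) ^ 2 := by exact_mod_cast h2'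
  rcases Nat.eq_zero_or_pos n with h0 | h0
  · subst h0
    simp only [_root_.Nat.card_eq_fintype_card, _root_.ne_eq, _root_.OfNat.ofNat_ne_zero, _root_.not_false_eq_true, _root_.zero_pow, _root_.zero_tsub, _root_.MulZeroClass.mul_zero, _root_.zero_le]
  · have h4 : ((Y.card * (cent x * (n ^ 2 - 1)) : ℕ) : ℝ) ≤ (Y.card * cent t : ℕ) := by
      rw [Nat.cast_mul, Nat.cast_mul (cent x), Nat.cast_sub (Nat.one_le_pow _ _ h0), Nat.cast_pow, Nat.cast_one]
      have h5 : (Nat.card G : ℝ) ≤ (Y.card * cent t : ℕ) := by exact_mod_cast h2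
      have h6 : (Y.card : ℝ) * (cent x * ((n : ℝ) ^ 2 - 1)) ≤ cent x * (Y.card * ((k : ℝ) ^ 2 - 1)) := by
        have h7 : (0 : ℝ) ≤ (Y.card : ℝ) * cent x := by (clear * -; positivity)
        nlinarith only [h3, h7]
      exact h6.trans (h1.trans h5)
    exact Nat.le_of_mul_le_mul_left (by exact_mod_cast h4) hYpos

/-- the centralizer under an isomorphism -/
theorem cent_mulEquiv {A : Type u} {B : Type v} [Group A] [Group B] (e : A ≃* B) (a : A) : cent (e a) = cent a := by
  refine Nat.card_congr ⟨fun y => ⟨e.symm y.1, ?_⟩, fun y => ⟨e y.1, ?_⟩, fun y => ?_, fun y => ?_⟩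
  · rw [Subgroup.mem_centralizer_singleton_iff]
    have h := Subgroup.mem_centralizer_singleton_iff.1 y.2
    apply e.injective
    rw [map_mul, map_mul, MulEquiv.apply_symm_apply, h]
  · rw [Subgroup.mem_centralizer_singleton_iff]
    have h := Subgroup.mem_centralizer_singleton_iff.1 y.2
    rw [← map_mul, ← map_mul, h]
  · exact Subtype.ext (e.apply_symm_apply _)
  · exact Subtype.ext (e.symm_apply_apply _)

/-- the end game: two bounds for centralizers -/
theorem not_oneZero_of_cent {S : Type u} [Group S] [Finite S] {Y : Type v} [Group Y] (e : S ≃* Y) {ψ : S → ℂ}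
    (hψ : IsIrrCharacter S ψ) {s t : Y} {n : ℕ} (hs : ψ (e.symm s) = 0) (ht : ∃ k : ℤ, ψ (e.symm t) = n * k)
    (hst : ¬ IsConj s t) (h : cent t < cent s * (n ^ 2 - 1)) : ¬ OneZero ψ := by
  rintro ⟨x, hx0, hx⟩
  obtain ⟨k, hk⟩ := ht
  have h1 : _root_.Cfsg.Agent.H732.VZ.One (⟨ψ, hψ⟩ : IrrCharacter S) (e.symm s) :=
    ⟨hs, fun g hg => (hx _ hs).symm.trans (hx g hg)⟩
  have h2 : ¬ IsConj (e.symm s) (e.symm t) := by
    intro h2
    obtain ⟨c, hc⟩ := isConj_iff.1 h2
    apply hst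
    refine isConj_iff.2 ⟨e c, ?_⟩
    apply e.symm.injective
    rw [map_mul, map_mul, map_inv, MulEquiv.symm_apply_apply, hc]
  have h3 := one_class_int h1 (k := n * k) (t := e.symm t) (by rw [show ((⟨ψ, hψ⟩ : IrrCharacter S) : S → ℂ) = ψ from rfl, hk]; push_cast; rfl)
    h2 (Dvd.intro _ rfl)
  rw [cent_mulEquiv, cent_mulEquiv] at h3
  omega

end Cfsg.Agent.H224.OZ
end

-- part: H224/OZ/Q3
section
/-!
# S4842, `PΩ⁺₈(3)`: the end of the proof (helper224)

`Q = plusForm 4 F`, `|F| = 3`, `φ = toPOmega hG : E Q →* PΩ`.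

* `ZElt z` : `z` preserves the two totally singular subspaces `Wl`, `Wr`, `Wl` is irreducible under `z²`, coprime
  polynomials kill `z²` on `Wl` and `Wr`, `z²⁰ = -1`;    `cent_z` : `|C(φ z)| ≤ 40`;
* `SElt s` : `s` is `1` on `e₂, f₂`, `-1` on `e₃, f₃`, `s⁸ = 1`, `s⁴` not a scalar;    `cent_s` : `16 ≤ |C(φ s)|`;
* `q3_end` : no irreducible character with `OneZero`, a zero at `φ s` and an even value at `φ z`.
-/

set_option autoImplicit false
set_option linter.unusedSectionVars false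

namespace Cfsg.Agent.H224.OZ.Q3

open Cfsg QuadraticMap Polynomial
open Cfsg.Agent.LieClassical Cfsg.Agent.LieClassical.OrthCore Cfsg.Agent.LieClassical.OrthTrans
open Cfsg.Agent.LieClassical.OrthSimple Cfsg.Agent.LieClassical.OrthFinite Cfsg.Agent.LieClassical.OrthForms
open Cfsg.Agent.TitsThree.KSideO Cfsg.Agent.H604.OZ Cfsg.Agent.H730.OZ

universe u

section defs

variable (F : Type) [Field F]

abbrev VV := Fin 4 ⊕ Fin 4 → F

def Wl : Submodule F (VV F) where
  carrier := {v | ∀ j, v (Sum.inr j) = 0}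
  add_mem' := fun ha hb j => by rw [Pi.add_apply, ha j, hb j, add_zero]
  zero_mem' := fun _ => rfl
  smul_mem' := fun c v hv j => by rw [Pi.smul_apply, hv j, smul_zero]

def Wr : Submodule F (VV F) where
  carrier := {v | ∀ j, v (Sum.inl j) = 0}
  add_mem' := fun ha hb j => by rw [Pi.add_apply, ha j, hb j, add_zero]
  zero_mem' := fun _ => rfl
  smul_mem' := fun c v hv j => by rw [Pi.smul_apply, hv j, smul_zero]

def ev (i : Fin 4) : VV F := Pi.single (Sum.inl i) 1

def fv (i : Fin 4) : VV F := Pi.single (Sum.inr i) 1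

end defs

variable {F : Type} [Field F]

theorem ev_mem (i : Fin 4) : ev F i ∈ Wl F := fun j => by simp [ev]

theorem ev_ne (i : Fin 4) : ev F i ≠ 0 := fun h => by
  have := congrFun h (Sum.inl i)
  simp [ev] at this

theorem exists_add (v : VV F) : ∃ a ∈ Wl F, ∃ b ∈ Wr F, v = a + b := by
  refine ⟨Sum.elim (fun i => v (Sum.inl i)) 0, fun j => rfl, Sum.elim 0 (fun i => v (Sum.inr i)), fun j => rfl, ?_⟩
  funext j
  rcases j with j | j <;> simp

theorem ext_of {v : VV F} (hl : v ∈ Wl F) (hr : v ∈ Wr F) : v = 0 := by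
  funext j
  rcases j with j | j
  · exact hr j
  · exact hl j

theorem polar_ev (v : VV F) (i : Fin 4) : polar (plusForm 4 F) v (ev F i) = v (Sum.inr i) := by
  rw [polar_plusForm]
  simp [ev, Pi.single_apply]

theorem polar_fv (v : VV F) (i : Fin 4) : polar (plusForm 4 F) v (fv F i) = v (Sum.inl i) := by
  rw [polar_plusForm]
  simp [fv, Pi.single_apply]

/-- irreducible on `Wl`, coprime polynomials on `Wl`, `Wr` -/
structure Half (h : VV F ≃ₗ[F] VV F) : Prop where
  pol : ∃ f f' : F[X], IsCoprime f f' ∧ (∀ v ∈ Wl F, aeval (h : VV F →ₗ[F] VV F) f v = 0) ∧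
    ∀ v ∈ Wr F, aeval (h : VV F →ₗ[F] VV F) f' v = 0
  irr : ∀ U : Submodule F (VV F), U ≤ Wl F → (∀ u ∈ U, h u ∈ U) → U = ⊥ ∨ U = Wl F

theorem aeval_comm {h y : VV F ≃ₗ[F] VV F} (hy : y * h = h * y) (f : F[X]) (v : VV F) :
    aeval (h : VV F →ₗ[F] VV F) f (y v) = y (aeval (h : VV F →ₗ[F] VV F) f v) := by
  have h1 : Commute (y : VV F →ₗ[F] VV F) (h : VV F →ₗ[F] VV F) := by
    exact LinearMap.ext fun v => congrArg (fun g : VV F ≃ₗ[F] VV F => g v) hy
  have h2 : Commute (y : VV F →ₗ[F] VV F) (aeval (h : VV F →ₗ[F] VV F) f) := by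
    induction f using Polynomial.induction_on' with
    | add p q hp hq => rw [map_add]; exact hp.add_right hq
    | monomial n a =>
      rw [aeval_monomial]
      exact (Algebra.commute_algebraMap_right a _).mul_right (h1.pow_right n)
  exact (LinearMap.congr_fun h2.eq v).symm

theorem Half.wl {h y : VV F ≃ₗ[F] VV F} (H : Half h) (hy : y * h = h * y) {v : VV F} (hv : v ∈ Wl F) : y v ∈ Wl F := by
  obtain ⟨f, f', ⟨a, b, hab⟩, h1, h2⟩ := H.pol
  obtain ⟨p, hp, q, hq, e⟩ := exists_add (y v)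
  have e1 := aeval_comm hy f v
  rw [h1 v hv, map_zero, e, map_add, h1 p hp, zero_add] at e1
  have e2 := h2 q hq
  have e3 : aeval (h : VV F →ₗ[F] VV F) (a * f + b * f') q = q := by rw [hab, map_one]; rfl
  simp only [map_add, map_mul, map_mul, LinearMap.add_apply, Module.End.mul_apply, Module.End.mul_apply, e1, e2, map_zero,
    map_zero, add_zero] at e3
  rw [e, ← e3, add_zero]
  exact hp

theorem Half.wr {h y : VV F ≃ₗ[F] VV F} (H : Half h) (hy : y * h = h * y) {v : VV F} (hv : v ∈ Wr F) : y v ∈ Wr F := by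
  obtain ⟨f, f', ⟨a, b, hab⟩, h1, h2⟩ := H.pol
  obtain ⟨p, hp, q, hq, e⟩ := exists_add (y v)
  have e1 := aeval_comm hy f' v
  rw [h2 v hv, map_zero, e, map_add, h2 q hq, add_zero] at e1
  have e2 := h1 p hp
  have e3 : aeval (h : VV F →ₗ[F] VV F) (a * f + b * f') p = p := by rw [hab, map_one]; rfl
  simp only [map_add, map_mul, map_mul, LinearMap.add_apply, Module.End.mul_apply, Module.End.mul_apply, e1, e2, map_zero,
    map_zero, add_zero] at e3
  rw [e, ← e3, zero_add]
  exact hq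

/-- an isometry commuting with `h` and fixing `e₀` is trivial -/
theorem Half.eq_one {h g : VV F ≃ₗ[F] VV F} (H : Half h) (hg : g * h = h * g) (hO : g ∈ O (plusForm 4 F))
    (h0 : g (ev F 0) = ev F 0) : g = 1 := by
  have h1 : ∀ v ∈ Wl F, g v = v := by
    let U : Submodule F (VV F) :=
      { carrier := {v | v ∈ Wl F ∧ g v = v}
        add_mem' := fun ha hb => ⟨(Wl F).add_mem ha.1 hb.1, by rw [map_add, ha.2, hb.2]⟩
        zero_mem' := ⟨(Wl F).zero_mem, map_zero g⟩
        smul_mem' := fun c v hv => ⟨(Wl F).smul_mem c hv.1, by rw [map_smul, hv.2]⟩ }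
    have hU : U ≤ Wl F := fun v hv => hv.1
    rcases H.irr U hU (fun v hv => ⟨H.wl rfl hv.1, by
      have := congrArg (fun k : VV F ≃ₗ[F] VV F => k v) hg
      change g (h v) = h (g v) at this
      rw [this, hv.2]⟩) with h2 | h2
    · exfalso
      have h3 : ev F 0 ∈ U := ⟨ev_mem 0, h0⟩
      rw [h2] at h3
      exact ev_ne 0 ((Submodule.mem_bot F).1 h3)
    · intro v hv
      rw [← h2] at hv
      exact hv.2
  have h2 : ∀ v ∈ Wr F, g v = v := by
    intro v hv
    have h3 := H.wr hg hv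
    rw [← sub_eq_zero]
    refine ext_of (fun i => ?_) ((Wr F).sub_mem h3 hv)
    have h4 : polar (plusForm 4 F) (g v) (ev F i) = polar (plusForm 4 F) v (ev F i) := by
      conv_lhs => rw [← h1 _ (ev_mem i)]
      exact polar_map hO _ _
    rw [← polar_ev (g v - v) i, polar_sub_left, h4, sub_self]
  apply LinearEquiv.ext
  intro v
  obtain ⟨a, ha, b, hb, rfl⟩ := exists_add v
  rw [map_add, h1 a ha, h2 b hb]
  rfl

/-- the centralizer in the isometries -/
theorem Half.card_le [Finite F] {h : VV F ≃ₗ[F] VV F} (H : Half h) (C : Subgroup (VV F ≃ₗ[F] VV F))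
    (hC : ∀ y ∈ C, y * h = h * y) (hO : C ≤ O (plusForm 4 F)) : Nat.card C ≤ Nat.card F ^ 4 - 1 := by
  classical
  have := Fintype.ofFinite F
  let Φ : C → {w : Fin 4 → F // w ≠ 0} := fun y => ⟨fun i => y.1 (ev F 0) (Sum.inl i), fun h0 => by
    have h1 := H.wl (hC y.1 y.2) (ev_mem 0)
    have h2 : y.1 (ev F 0) = 0 := ext_of h1 fun i => congrFun h0 i
    exact ev_ne 0 ((LinearEquiv.map_eq_zero_iff y.1).1 h2)⟩
  have hΦ : Function.Injective Φ := by
    intro y y' hyy
    have h1 : ∀ i, y.1 (ev F 0) (Sum.inl i) = y'.1 (ev F 0) (Sum.inl i) := fun i =>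
      congrFun (congrArg Subtype.val hyy) i
    have h2 : y.1 (ev F 0) = y'.1 (ev F 0) := by
      rw [← sub_eq_zero]
      exact ext_of ((Wl F).sub_mem (H.wl (hC _ y.2) (ev_mem 0)) (H.wl (hC _ y'.2) (ev_mem 0))) fun i => by
        rw [Pi.sub_apply, h1, sub_self]
    have h3 : ((y'⁻¹ * y : C) : VV F ≃ₗ[F] VV F) = 1 := by
      refine H.eq_one (hC _ (y'⁻¹ * y).2) (hO (y'⁻¹ * y).2) ?_
      show y'.1.symm (y.1 (ev F 0)) = _
      rw [h2, LinearEquiv.symm_apply_apply]
    have h4 : y'⁻¹ * y = 1 := Subtype.ext h3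
    rw [inv_mul_eq_one] at h4
    exact h4.symm
  refine (Nat.card_le_card_of_injective Φ hΦ).trans (le_of_eq ?_)
  rw [Nat.card_eq_fintype_card, Fintype.card_subtype_compl, Fintype.card_subtype_eq, Fintype.card_fun,
    Fintype.card_fin, Nat.card_eq_fintype_card]

/-! ### the map to `PΩ` -/

section proj

variable (hG : Good (plusForm 4 F))

theorem sq_of_ker {g : E (plusForm 4 F)} (h : toPOmega hG g = 1) : g ^ 2 = 1 := by
  obtain ⟨c, hc⟩ := scalar_of_center hG (center_of_toPOmega hG h)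
  have h1 := polar_map (g := g.1) (Q := plusForm 4 F) (E_le_O g.2) (ev F 0) (fv F 0)
  rw [hc, hc, polar_smul_left, polar_smul_right, polar_fv] at h1
  have h2 : c * c = 1 := by simpa only [ev, _root_.Fin.isValue, _root_.Pi.single_eq_same, _root_.smul_eq_mul, _root_.mul_one] using h1
  apply Subtype.ext
  apply LinearEquiv.ext
  intro v
  show (g : VV F ≃ₗ[F] VV F) (g.1 v) = v
  rw [hc, hc, smul_smul, h2, one_smul]

theorem ker_of_center {g : E (plusForm 4 F)} (h : g ∈ Subgroup.center (E (plusForm 4 F))) : toPOmega hG g = 1 := by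
  refine (QuotientGroup.eq_one_iff _).2 ?_
  rw [Subgroup.mem_center_iff]
  intro k
  obtain ⟨k, rfl⟩ := (toOmega hG).surjective k
  change toOmega hG k * toOmega hG g = toOmega hG g * toOmega hG k
  ((conv => enter [@2]; rw [← map_mul]); (conv => enter [@3]; rw [← map_mul]); (conv => enter [@2, @6]; rw [Subgroup.mem_center_iff.1 h k]))

/-! ### the element `z` -/

/-- the element of order `40` -/
structure ZElt (z : E (plusForm 4 F)) : Prop where
  half : Half (z.1 ^ 2)
  neg : ∀ v, (z.1 ^ 20) v = -v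

theorem ZElt.neg_center {z : E (plusForm 4 F)} (hz : ZElt z) : z ^ 20 ∈ Subgroup.center (E (plusForm 4 F)) := by
  rw [Subgroup.mem_center_iff]
  intro k
  apply Subtype.ext
  apply LinearEquiv.ext
  intro v
  have h1 : ∀ v, ((z ^ 20 : E (plusForm 4 F)) : VV F ≃ₗ[F] VV F) v = -v := fun v => by
    rw [SubmonoidClass.coe_pow]
    exact hz.neg v
  generalize z ^ 20 = m at h1 ⊢
  show k.1 (m.1 v) = m.1 (k.1 v)
  rw [h1, h1, map_neg]

theorem ZElt.cent_le {z : E (plusForm 4 F)} (hz : ZElt z) (hF : Nat.card F = 3) :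
    cent (toPOmega hG z) ≤ 40 := by
  have hfF : Finite F := Nat.finite_of_card_ne_zero (by rw [hF]; norm_num)
  have hfV : Finite (VV F ≃ₗ[F] VV F) := Finite.of_injective (fun g : VV F ≃ₗ[F] VV F => (g : VV F → VV F))
    DFunLike.coe_injective
  have h2 : (2 : F) ≠ 0 := by
    intro h
    have := Fintype.ofFinite F
    have h4 : ((Fintype.card F : ℕ) : F) = 0 := Nat.cast_card_eq_zero F
    rw [← Nat.card_eq_fintype_card, hF] at h4
    have h5 : (1 : F) = ((3 : ℕ) : F) - 2 := by push_cast; ring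
    rw [h4, h] at h5
    simp at h5
  set! C : Subgroup (E (plusForm 4 F)) := Subgroup.centralizer {z ^ 2} with hC
  have h1 : Subgroup.centralizer {toPOmega hG z} ≤ C.map (toPOmega hG) := by
    intro y' hy'
    obtain ⟨y, rfl⟩ := toPOmega_surjective hG y'
    refine ⟨y, ?_, rfl⟩
    (rewrite [Subgroup.mem_centralizer_singleton_iff] at hy'; (conv at hy' => enter [@2]; rw [← map_mul]); (conv at hy' => enter [@3]; rw [← map_mul]))
    have e1 : toPOmega hG (y * z * (z * y)⁻¹) = 1 := by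
      ((conv => enter [@2]; rw [map_mul]); (conv => enter [@2, @6]; rw [map_inv]); (conv => enter [@2, @5]; rw [hy']); (conv => enter [@2]; rw [mul_inv_cancel]))
    have e2 := sq_of_ker hG e1
    have e3 := center_of_toPOmega hG e1
    set! c := y * z * (z * y)⁻¹ with hc; rewrite [← hc] at e3 e2 e1
    have e4 : y * z = c * (z * y) := by rw [hc, inv_mul_cancel_right]
    have e5 := Subgroup.mem_center_iff.1 e3
    change y ∈ Subgroup.centralizer {z ^ 2}
    rw [Subgroup.mem_centralizer_singleton_iff]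
    calc y * z ^ 2 = (c * (z * y)) * z := by rw [pow_two, ← mul_assoc, e4]
      _ = c * z * (y * z) := by simp only [mul_assoc]
      _ = c * z * (c * (z * y)) := by rw [e4]
      _ = c * (z * c) * (z * y) := by simp only [mul_assoc]
      _ = c * (c * z) * (z * y) := by rw [e5 z]
      _ = c ^ 2 * (z ^ 2 * y) := by simp only [pow_two, mul_assoc]
      _ = z ^ 2 * y := by rw [e2, one_mul]
  have h3 : Nat.card C ≤ 80 := by
    have h4 := hz.half.card_le (C.map (E (plusForm 4 F)).subtype) (by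
      rintro _ ⟨y, hy, rfl⟩
      have h5 : y * z ^ 2 = z ^ 2 * y := Subgroup.mem_centralizer_singleton_iff.1 hy
      exact congrArg Subtype.val h5) (by
      rintro _ ⟨y, hy, rfl⟩
      exact E_le_O y.2)
    rw [Nat.card_congr (Subgroup.equivMapOfInjective C _ (E (plusForm 4 F)).subtype_injective).symm.toEquiv, hF] at h4
    exact h4
  have h4 : 2 * Nat.card (C.map (toPOmega hG)) ≤ Nat.card C := by
    set! ψ : C →* _ := (toPOmega hG).comp C.subtype with hψ
    have e1 : C.map (toPOmega hG) = ψ.range := by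
      rw [hψ, MonoidHom.range_comp, Subgroup.range_subtype]
    rw [e1, ← Subgroup.index_ker, ← Subgroup.card_mul_index ψ.ker]
    apply Nat.mul_le_mul_right
    have e2 : ψ.ker ≠ ⊥ := by
      intro h
      have hm : z ^ 20 ∈ C := by
        change z ^ 20 ∈ Subgroup.centralizer {z ^ 2}
        rw [Subgroup.mem_centralizer_singleton_iff, ← pow_add, ← pow_add]
      have e3 : (⟨z ^ 20, hm⟩ : C) ∈ ψ.ker := ker_of_center hG hz.neg_center
      rw [h, Subgroup.mem_bot] at e3
      have e4 : z ^ 20 = 1 := congrArg Subtype.val e3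
      have e5 := hz.neg (ev F 0)
      rw [show z.1 ^ 20 = 1 from congrArg Subtype.val e4] at e5
      have e6 := congrFun e5 (Sum.inl 0)
      simp [ev] at e6
      apply h2
      linear_combination e6
    have := Subgroup.one_lt_card_iff_ne_bot ψ.ker |>.2 e2
    omega
  have h5 : cent (toPOmega hG z) ≤ Nat.card (C.map (toPOmega hG)) :=
    Nat.card_le_card_of_injective _ (Subgroup.inclusion_injective h1)
  omega

theorem ZElt.pow_ne {z : E (plusForm 4 F)} (hz : ZElt z) : toPOmega hG z ^ 8 ≠ 1 := by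
  intro h
  rw [← map_pow] at h
  have h1 := sq_of_ker hG h
  rw [← pow_mul] at h1
  have h2 : z.1 ^ 16 = 1 := congrArg Subtype.val h1
  have h3 : ∀ v, (z.1 ^ 2) ((z.1 ^ 2) v) = -v := by
    intro v
    have h4 := hz.neg v
    rw [show z.1 ^ 20 = z.1 ^ 16 * (z.1 ^ 2 * z.1 ^ 2) by group, h2, one_mul] at h4
    exact h4
  set! g := z.1 ^ 2 with hg; rewrite [← hg] at h3
  let U : Submodule F (VV F) := Submodule.span F {ev F 0, g (ev F 0)}
  have hgW : g (ev F 0) ∈ Wl F := hz.half.wl rfl (ev_mem 0)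
  have hU : U ≤ Wl F := by
    rw [Submodule.span_le]
    rintro v (rfl | rfl)
    · exact ev_mem 0
    · exact hgW
  have hst : ∀ u ∈ U, g u ∈ U := by
    intro u hu
    have h4 : U ≤ U.comap (g : VV F →ₗ[F] VV F) := by
      rw [Submodule.span_le]
      rintro v (rfl | rfl)
      · exact Submodule.subset_span (Or.inr rfl)
      · show g (g (ev F 0)) ∈ U
        rw [h3]
        exact U.neg_mem (Submodule.subset_span (Or.inl rfl))
    exact h4 hu
  rcases hz.half.irr U hU hst with h4 | h4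
  · have h5 : ev F 0 ∈ U := Submodule.subset_span (Or.inl rfl)
    rw [h4] at h5
    exact ev_ne 0 ((Submodule.mem_bot F).1 h5)
  · have h5 : Module.finrank F U ≤ 2 := by
      classical
      have h7 := finrank_span_finset_le_card (R := F) ({ev F 0, g (ev F 0)} : Finset (VV F))
      simp only [Finset.coe_insert, Finset.coe_singleton] at h7
      exact h7.trans Finset.card_le_two
    have h6 : 4 ≤ Module.finrank F (Wl F) := by
      have h7 : LinearIndependent F (fun i : Fin 4 => (⟨ev F i, ev_mem i⟩ : Wl F)) := by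
        rw [linearIndependent_iff']
        intro s c hc i hi
        have h8 := congrFun (congrArg Subtype.val hc) (Sum.inl i)
        simpa only [ev, Finset.sum_apply, Pi.single_apply, hi, _root_.SetLike.mk_smul_mk, _root_.AddSubmonoidClass.coe_finsetSum, _root_.Pi.smul_apply, _root_.Sum.inl.injEq, _root_.smul_eq_mul, _root_.mul_ite, _root_.mul_one, _root_.MulZeroClass.mul_zero, _root_.Finset.sum_ite_eq, ↓ _root_.reduceIte, _root_.ZeroMemClass.coe_zero, _root_.Pi.zero_apply] using h8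
      have := h7.fintype_card_le_finrank
      rwa [Fintype.card_fin] at this
    rw [← h4] at h6
    omega

/-! ### the element `s` -/

/-- the element of order `8` -/
structure SElt (s : E (plusForm 4 F)) : Prop where
  e2 : s.1 (ev F 2) = ev F 2
  f2 : s.1 (fv F 2) = fv F 2
  e3 : s.1 (ev F 3) = -ev F 3
  f3 : s.1 (fv F 3) = -fv F 3
  pow : s ^ 8 = 1
  ne : s ^ 4 ≠ 1

theorem Q_ef (i : Fin 4) : plusForm 4 F (ev F i - fv F i) = -1 := by
  rw [coe_plusForm, quadFormPlus]
  rw [Finset.sum_eq_single i]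
  · simp [ev, fv]
  · intro j _ hj
    simp [ev, fv, hj]
  · simp

theorem Q_ef_ne (i : Fin 4) : plusForm 4 F (ev F i - fv F i) ≠ 0 := by
  rw [Q_ef]
  exact neg_ne_zero.2 one_ne_zero

/-- the element commuting with `s` -/
noncomputable def wEl : VV F ≃ₗ[F] VV F :=
  refl (plusForm 4 F) (ev F 2 - fv F 2) (Q_ef_ne 2) * refl (plusForm 4 F) (ev F 3 - fv F 3) (Q_ef_ne 3)

theorem wEl_mem (hG : Good (plusForm 4 F)) : (wEl : VV F ≃ₗ[F] VV F) ∈ E (plusForm 4 F) :=
  hG.refl_mul_refl_mem _ _ (by rw [Q_ef, Q_ef])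

theorem refl_comm {g : VV F ≃ₗ[F] VV F} (hO : g ∈ O (plusForm 4 F)) {v : VV F} (hv : plusForm 4 F v ≠ 0) {c : F}
    (hc : c * c = 1) (h : g v = c • v) : g * refl (plusForm 4 F) v hv = refl (plusForm 4 F) v hv * g := by
  apply LinearEquiv.ext
  intro x
  show g (refl (plusForm 4 F) v hv x) = refl (plusForm 4 F) v hv (g x)
  rw [refl_apply, refl_apply, map_sub, map_smul, h]
  have h1 : polar (plusForm 4 F) v (g x) = c * polar (plusForm 4 F) v x := by
    have h2 := polar_map hO v x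
    rw [h, polar_smul_left, smul_eq_mul] at h2
    rw [← h2, ← mul_assoc, hc, one_mul]
  rw [h1, smul_smul]
  congr 2
  ring

theorem SElt.comm {s : E (plusForm 4 F)} (hs : SElt s) : s.1 * wEl = wEl * s.1 := by
  have h2 := refl_comm (g := s.1) (E_le_O s.2) (Q_ef_ne 2) (c := 1) (one_mul 1) (by
    rw [map_sub, hs.e2, hs.f2, one_smul])
  have h3 := refl_comm (g := s.1) (E_le_O s.2) (Q_ef_ne 3) (c := -1) (by ring) (by
    rw [map_sub, hs.e3, hs.f3]; module)
  rw [wEl, ← mul_assoc, h2, mul_assoc, h3, mul_assoc]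

theorem wEl_ev : (wEl : VV F ≃ₗ[F] VV F) (ev F 2) = fv F 2 := by
  have h3 : polar (plusForm 4 F) (ev F 3 - fv F 3) (ev F 2) = 0 := by
    rw [polar_ev]
    simp [ev, fv]
  have h2 : polar (plusForm 4 F) (ev F 2 - fv F 2) (ev F 2) = -1 := by
    rw [polar_ev]
    simp [ev, fv]
  show refl (plusForm 4 F) (ev F 2 - fv F 2) (Q_ef_ne 2) (refl (plusForm 4 F) (ev F 3 - fv F 3) (Q_ef_ne 3) (ev F 2)) = _
  have h4 : refl (plusForm 4 F) (ev F 3 - fv F 3) (Q_ef_ne 3) (ev F 2) = ev F 2 := by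
    rw [refl_apply, h3, mul_zero, zero_smul, sub_zero]
  rw [h4, refl_apply, h2, Q_ef]
  simp

theorem SElt.le_cent [Finite F] {s : E (plusForm 4 F)} (hs : SElt s) : 16 ≤ cent (toPOmega hG s) := by
  have hfV : Finite (VV F ≃ₗ[F] VV F) := Finite.of_injective (fun g : VV F ≃ₗ[F] VV F => (g : VV F → VV F))
    DFunLike.coe_injective
  have hfY : Finite (Cfsg.POmega F ⇑(plusForm 4 F)) := Finite.of_surjective _ (toPOmega_surjective hG)
  have h8 : orderOf (toPOmega hG s) = 2 ^ (2 + 1) := by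
    refine orderOf_eq_prime_pow (fun h => ?_) (by
      show toPOmega hG s ^ 8 = 1
      rw [← map_pow, hs.pow, map_one])
    rw [← map_pow] at h
    obtain ⟨c, hc⟩ := scalar_of_center hG (center_of_toPOmega hG h)
    have h1 : (s.1 ^ 4) (ev F 2) = ev F 2 := by
      have : (s.1 ^ 4) (ev F 2) = s.1 (s.1 (s.1 (s.1 (ev F 2)))) := rfl
      rw [this, hs.e2, hs.e2, hs.e2, hs.e2]
    have h2 : (s.1 ^ 4) (ev F 2) = c • ev F 2 := hc _
    rw [h1] at h2
    have h3 := congrFun h2 (Sum.inl 2)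
    have h4 : c = 1 := by simpa [ev] using h3.symm
    apply hs.ne
    apply Subtype.ext
    apply LinearEquiv.ext
    intro v
    have h5 : (s.1 ^ 4) v = c • v := hc v
    rw [h4, one_smul] at h5
    exact h5
  set! w : E (plusForm 4 F) := ⟨wEl, wEl_mem hG⟩ with hw
  have hwc : toPOmega hG w ∈ Subgroup.centralizer {toPOmega hG s} := by
    (rewrite [Subgroup.mem_centralizer_singleton_iff]; (conv => enter [@2]; rw [← map_mul]); (conv => enter [@3]; rw [← map_mul]))
    exact congrArg _ (Subtype.ext hs.comm.symm)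
  have hwn : toPOmega hG w ∉ Subgroup.zpowers (toPOmega hG s) := by
    intro h
    rw [← mem_powers_iff_mem_zpowers] at h
    obtain ⟨k, hk⟩ := h
    have h1 : toPOmega hG (w * (s ^ k)⁻¹) = 1 := by
      ((conv => enter [@2]; rw [map_mul]); (conv => enter [@2, @6]; rw [map_inv]); (conv => enter [@2, @6, @3]; rw [map_pow]); (conv => enter [@2, @5]; rw [← hk]); (conv => enter [@2]; rw [mul_inv_cancel]))
    obtain ⟨c, hc⟩ := scalar_of_center hG (center_of_toPOmega hG h1)
    have h2 : ∀ k : ℕ, (s.1 ^ k) (ev F 2) = ev F 2 := by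
      intro k
      induction k with
      | zero => rfl
      | succ k ih =>
        rw [pow_succ]
        show (s.1 ^ k) (s.1 (ev F 2)) = _
        rw [hs.e2, ih]
    have h3 := hc (ev F 2)
    have h4 : ((w * (s ^ k)⁻¹ : E (plusForm 4 F)) : VV F ≃ₗ[F] VV F) (ev F 2) = fv F 2 := by
      have h5 : (s.1 ^ k).symm (ev F 2) = ev F 2 := by
        rw [LinearEquiv.symm_apply_eq, h2]
      show wEl ((s.1 ^ k).symm (ev F 2)) = _
      rw [h5, wEl_ev]
    rw [h4] at h3
    have h5 := congrFun h3 (Sum.inr 2)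
    simp [ev, fv] at h5
  have hle : Subgroup.zpowers (toPOmega hG s) ≤ Subgroup.centralizer {toPOmega hG s} := by
    rw [Subgroup.zpowers_le, Subgroup.mem_centralizer_singleton_iff]
  have hz : Nat.card (Subgroup.zpowers (toPOmega hG s)) = 8 := by rw [Nat.card_zpowers, h8]; norm_num
  have hd : 8 ∣ cent (toPOmega hG s) := hz ▸ Subgroup.card_dvd_of_le hle
  have hne : cent (toPOmega hG s) ≠ 8 := by
    intro h
    have h1 := Subgroup.eq_of_le_of_card_ge hle (by rw [hz]; exact h.le)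
    rw [← h1] at hwc
    exact hwn hwc
  have hpos : 0 < cent (toPOmega hG s) := Nat.card_pos
  obtain ⟨k, hk⟩ := hd
  rw [hk] at hne hpos ⊢
  omega

/-- **(Q3)**: the end of the row `PΩ⁺₈(3)` -/
theorem q3_end (hF : Nat.card F = 3) {S : Type u} [Group S] [Finite S]
    (e : S ≃* Cfsg.POmega F ⇑(plusForm 4 F)) {χ : S → ℂ} (hχ : IsIrrCharacter S χ) (h1 : OneZero χ)
    {z s : E (plusForm 4 F)} (hz : ZElt z) (hs : SElt s) (hs0 : χ (e.symm (toPOmega hG s)) = 0)
    (hz2 : ∃ k : ℤ, χ (e.symm (toPOmega hG z)) = 2 * k) : False := by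
  have hfF : Finite F := Nat.finite_of_card_ne_zero (by rw [hF]; norm_num)
  refine not_oneZero_of_cent e hχ (n := 2) hs0 (by exact_mod_cast hz2) ?_ ?_ h1
  · intro h
    obtain ⟨c, hc⟩ := isConj_iff.1 h
    apply hz.pow_ne hG
    rw [← hc, conj_pow, ← map_pow, hs.pow, map_one, mul_one, mul_inv_cancel]
  · have h2 := hz.cent_le hG hF
    have h3 := hs.le_cent hG
    norm_num only [_root_.gt_iff_lt]
    omega

end proj

end Cfsg.Agent.H224.OZ.Q3
end

-- part: H224/OZ/Q3Dat
section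
/-!
# S4842, `PΩ⁺₈(3)`: the elements `z`, `s` of `Q3` from the data `Dat` of helper292 (helper224)
-/

set_option autoImplicit false
set_option linter.unusedSectionVars false

namespace Cfsg.Agent.H224.OZ.Q3

open Cfsg QuadraticMap Polynomial
open Cfsg.Agent.LieClassical Cfsg.Agent.LieClassical.OrthCore Cfsg.Agent.LieClassical.OrthTrans
open Cfsg.Agent.LieClassical.OrthSimple Cfsg.Agent.LieClassical.OrthFinite Cfsg.Agent.LieClassical.OrthForms
open Cfsg.Agent.TitsThree.KSideO Cfsg.Agent.H604.OZ Cfsg.Agent.H730.OZ Cfsg.Agent.H292.OZ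

universe u

variable {F : Type} [Field F]

theorem wl_sum {v : VV F} (hv : v ∈ Wl F) : v = ∑ i : Fin 4, v (Sum.inl i) • ev F i := by
  funext j
  rcases j with j | j
  · simp [ev, Finset.sum_apply, Pi.single_apply]
  · rw [hv j]
    simp [ev, Finset.sum_apply]

theorem wr_sum {v : VV F} (hv : v ∈ Wr F) : v = ∑ i : Fin 4, v (Sum.inr i) • fv F i := by
  funext j
  rcases j with j | j
  · rw [hv j]
    simp [fv, Finset.sum_apply]
  · simp [fv, Finset.sum_apply, Pi.single_apply]

theorem half_of_dat {s : Fin 4 → F} {z : VV F ≃ₗ[F] VV F} {f f' : F[X]} (h : Dat 4 s z f f') : Half z where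
  pol := by
    refine ⟨f, f', h.cop, fun v hv => ?_, fun v hv => ?_⟩
    · rw [wl_sum hv, map_sum]
      exact Finset.sum_eq_zero fun i _ => by rw [map_smul, ev, h.kf i i.2, smul_zero]
    · rw [wr_sum hv, map_sum]
      exact Finset.sum_eq_zero fun i _ => by rw [map_smul, fv, h.kf' i i.2, smul_zero]
  irr := by
    intro U hU hst
    by_cases h0 : U = ⊥
    · exact Or.inl h0
    · refine Or.inr (le_antisymm hU fun v hv => ?_)
      have h1 := h.irr U (fun v hv => ⟨hU hv, fun i hi => absurd i.2 (not_lt.2 hi)⟩) hst h0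
      rw [wl_sum hv]
      exact U.sum_mem fun i _ => U.smul_mem _ (h1 i i.2)

theorem zelt_of_dat {s : Fin 4 → F} {z : E (plusForm 4 F)} {f f' : F[X]} (h : Dat 4 s (z.1 * z.1) f f')
    (hz : ∀ v, (z.1 ^ 20) v = -v) : ZElt z where
  half := by
    rw [pow_two]
    exact half_of_dat h
  neg := hz

theorem selt_of_dat {s : Fin 4 → F} {z : E (plusForm 4 F)} {f f' : F[X]} (h : Dat 2 s z.1 f f') (h2 : s 2 = 1)
    (h3 : s 3 = -1) (h8 : z ^ 8 = 1) (h4 : z ^ 4 ≠ 1) : SElt z where
  e2 := by rw [ev, h.sl 2 (by decide), h2, one_smul]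
  f2 := by rw [fv, h.sr 2 (by decide), h2, inv_one, one_smul]
  e3 := by rw [ev, h.sl 3 (by decide), h3, neg_one_smul]
  f3 := by rw [fv, h.sr 3 (by decide), h3, inv_neg, inv_one, neg_one_smul]
  pow := h8
  ne := h4

end Cfsg.Agent.H224.OZ.Q3
end

-- part: H292/OZ/Two
section
/-!
# S4842, `POmega⁺_8(q)`, `q ≥ 3`: two classes of elements acting irreducibly on `⟨e_i : i < k⟩` (helper292)

`exists_four`, `exists_three`, `exists_two`, `exists_two_one`; for `q = 3`: `exists_four_three`, `exists_two_three`.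
-/

set_option autoImplicit false
set_option linter.unusedSectionVars false

namespace Cfsg.Agent.H292.OZ

open Cfsg.Agent.LieClassical.OrthCore Cfsg.Agent.LieClassical.OrthTrans Cfsg.Agent.LieClassical.OrthFinite
  Cfsg.Agent.LieClassical.OrthForms Cfsg.Agent.TitsThree.KSideO
open Module QuadraticMap Matrix Polynomial

section num

theorem num_big {q k i : ℕ} (hq : 5 ≤ q) (hk : 3 ≤ k) (hi : i < k) :
    ¬ ((q : ℤ) ^ k - 1 ∣ 4 * ((q : ℤ) ^ i + 1)) ∧ (0 < i → ¬ ((q : ℤ) ^ k - 1 ∣ 4 * ((q : ℤ) ^ i - 1))) ∧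
      ¬ ((q : ℤ) ^ k - 1 ∣ 4 * (2 - (q : ℤ) ^ i)) ∧ ¬ ((q : ℤ) ^ k - 1 ∣ 4 * (2 + (q : ℤ) ^ i)) := by
  have hq' : (5 : ℤ) ≤ q := by exact_mod_cast hq
  have h1 : (q : ℤ) ^ i ≤ (q : ℤ) ^ (k - 1) := pow_le_pow_right₀ (by linarith only [hq]) (by omega)
  have h2 : (q : ℤ) ^ k = q * (q : ℤ) ^ (k - 1) := by rw [← pow_succ']; congr 1; omega
  have h3 : (q : ℤ) ^ 2 ≤ (q : ℤ) ^ (k - 1) := pow_le_pow_right₀ (by linarith only [hq]) (by omega)
  have h4 : (25 : ℤ) ≤ (q : ℤ) ^ (k - 1) := by nlinarith only [hq, h3]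
  have h5 : 5 * (q : ℤ) ^ (k - 1) ≤ (q : ℤ) ^ k := by rw [h2]; nlinarith only [hq, h3]
  have h6 : (1 : ℤ) ≤ (q : ℤ) ^ i := one_le_pow₀ (by linarith)
  have h7 : 0 < i → (5 : ℤ) ≤ (q : ℤ) ^ i := by
    intro h0
    calc (5 : ℤ) ≤ q := hq'
      _ = (q : ℤ) ^ 1 := (pow_one _).symm
      _ ≤ (q : ℤ) ^ i := pow_le_pow_right₀ (by linarith only [hq]) h0
  refine ⟨fun h => ?_, fun h0 h => ?_, fun h => ?_, fun h => ?_⟩
  · have := Int.le_of_dvd (by linarith only [h6]) h
    linarith only [h1, h4, h5, this]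
  · have := h7 h0
    have := Int.le_of_dvd (by linarith only [this]) h
    linarith only [h1, h4, h5, this]
  · rcases Nat.eq_zero_or_pos i with h0 | h0
    · subst h0
      rw [pow_zero] at h
      have := Int.le_of_dvd (by norm_num) h
      linarith only [h4, h5, this]
    · have h8 := h7 h0
      rw [← dvd_neg] at h
      have := Int.le_of_dvd (by linarith only [h8]) h
      linarith only [h1, h4, h5, this]
  · have := Int.le_of_dvd (by linarith only [h6]) h
    linarith only [h1, h4, h5, this]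

theorem num {q k i : ℕ} (hq : 3 ≤ q) (hk : k = 3 ∨ k = 4) (hi : i < k) :
    ¬ ((q : ℤ) ^ k - 1 ∣ 4 * ((q : ℤ) ^ i + 1)) ∧ (0 < i → ¬ ((q : ℤ) ^ k - 1 ∣ 4 * ((q : ℤ) ^ i - 1))) ∧
      ¬ ((q : ℤ) ^ k - 1 ∣ 4 * (2 - (q : ℤ) ^ i)) ∧ ¬ ((q : ℤ) ^ k - 1 ∣ 4 * (2 + (q : ℤ) ^ i)) := by
  rcases Nat.lt_or_ge q 5 with h5 | h5
  · have h6 : q = 3 ∨ q = 4 := by omega
    rcases hk with rfl | rfl <;> rcases h6 with rfl | rfl <;> interval_cases i <;> norm_num only [_root_.imp_self, _root_.and_self]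
  · exact num_big h5 (by omega) hi

/-- degree two -/
theorem num_two {q i : ℕ} (hq : 4 ≤ q) (hi : i < 2) :
    ¬ ((q : ℤ) ^ 2 - 1 ∣ 2 * ((q : ℤ) ^ i + 1)) ∧ (0 < i → ¬ ((q : ℤ) ^ 2 - 1 ∣ 2 * ((q : ℤ) ^ i - 1))) ∧
      ¬ ((q : ℤ) ^ 2 - 1 ∣ 2 * (2 - (q : ℤ) ^ i)) ∧ ¬ ((q : ℤ) ^ 2 - 1 ∣ 2 * (2 + (q : ℤ) ^ i)) := by
  have hq' : (4 : ℤ) ≤ q := by exact_mod_cast hq
  have h2 : 4 * (q : ℤ) ≤ (q : ℤ) ^ 2 := by nlinarith
  have h6 : i = 0 ∨ i = 1 := by omega
  rcases h6 with rfl | rfl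
  · rw [pow_zero]
    refine ⟨fun h => ?_, fun h0 => absurd h0 (lt_irrefl _), fun h => ?_, fun h => ?_⟩
    · have := Int.le_of_dvd (by norm_num) h
      linarith
    · have := Int.le_of_dvd (by norm_num) h
      linarith
    · have := Int.le_of_dvd (by norm_num) h
      linarith
  · rw [pow_one]
    refine ⟨fun h => ?_, fun _ h => ?_, fun h => ?_, fun h => ?_⟩
    · have := Int.le_of_dvd (by linarith) h
      linarith
    · have := Int.le_of_dvd (by linarith) h
      linarith
    · rw [← dvd_neg] at h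
      have := Int.le_of_dvd (by linarith) h
      linarith
    · have := Int.le_of_dvd (by linarith) h
      linarith

theorem num_one {q i : ℕ} (hq : 3 ≤ q) (hi : i < 2) :
    ¬ ((q : ℤ) ^ 2 - 1 ∣ (q : ℤ) ^ i + 1) ∧ (0 < i → ¬ ((q : ℤ) ^ 2 - 1 ∣ (q : ℤ) ^ i - 1)) := by
  have hq' : (3 : ℤ) ≤ q := by exact_mod_cast hq
  have h2 : 3 * (q : ℤ) ≤ (q : ℤ) ^ 2 := by nlinarith
  have h6 : i = 0 ∨ i = 1 := by omega
  rcases h6 with rfl | rfl
  · rw [pow_zero]
    refine ⟨fun h => ?_, fun h0 => absurd h0 (lt_irrefl _)⟩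
    have := Int.le_of_dvd (by norm_num) h
    linarith
  · rw [pow_one]
    refine ⟨fun h => ?_, fun _ h => ?_⟩
    · have := Int.le_of_dvd (by linarith) h
      linarith
    · have := Int.le_of_dvd (by linarith) h
      linarith

end num

section gen

variable {F : Type*} [Field F] [Finite F] {K : Type*} [Field K] [Finite K] [Algebra F K] {k l : ℕ} {g : Kˣ}

theorem zpow_iff {N : ℤ} (ho : (orderOf g : ℤ) = N) (a b : ℤ) : g ^ a = g ^ b ↔ N ∣ a - b := by
  rw [zpow_eq_zpow_iff_modEq, Int.modEq_comm, Int.modEq_iff_dvd, ho]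

theorem ok_pow (ho : (orderOf g : ℤ) = (Nat.card F : ℤ) ^ k - 1) (hk : finrank F K = k) (hk2 : 2 ≤ k) {e : ℕ}
    (h1 : ∀ i, i < k → ¬ ((Nat.card F : ℤ) ^ k - 1 ∣ e * ((Nat.card F : ℤ) ^ i + 1)))
    (h2 : ∀ i, i < k → 0 < i → ¬ ((Nat.card F : ℤ) ^ k - 1 ∣ e * ((Nat.card F : ℤ) ^ i - 1))) : Ok F k (g ^ e) where
  fin := hk
  two := hk2
  gen i h0 hi h := by
    apply h2 i hi h0
    rw [← pow_mul, ← zpow_natCast, ← zpow_natCast, zpow_iff ho] at h
    have e1 : ((e * Nat.card F ^ i : ℕ) : ℤ) - (e : ℕ) = e * ((Nat.card F : ℤ) ^ i - 1) := by push_cast; ring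
    rwa [e1] at h
  inv i hi h := by
    apply h1 i hi
    rw [← pow_mul, ← zpow_natCast, ← zpow_natCast, ← _root_.zpow_neg, zpow_iff ho] at h
    have e1 : ((e * Nat.card F ^ i : ℕ) : ℤ) - -(e : ℕ) = e * ((Nat.card F : ℤ) ^ i + 1) := by push_cast; ring
    rwa [e1] at h

/-- `± g^(2e)` is no root of the minimal polynomial of `g^e`, `g^(-e)` -/
theorem root_ne (ho : (orderOf g : ℤ) = (Nat.card F : ℤ) ^ k - 1) (hk : finrank F K = k) {e : ℕ}
    (h1 : ∀ i, i < k → ¬ ((Nat.card F : ℤ) ^ k - 1 ∣ 2 * e * (2 - (Nat.card F : ℤ) ^ i)))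
    (h2 : ∀ i, i < k → ¬ ((Nat.card F : ℤ) ^ k - 1 ∣ 2 * e * (2 + (Nat.card F : ℤ) ^ i))) {x : K}
    (hx : x = ((g ^ (2 * e) : Kˣ) : K) ∨ x = -((g ^ (2 * e) : Kˣ) : K)) :
    aeval x (minpoly F ((g ^ e : Kˣ) : K)) ≠ 0 ∧ aeval x (minpoly F (((g ^ e)⁻¹ : Kˣ) : K)) ≠ 0 := by
  have hx2 : x ^ 2 = ((g ^ ((4 * e : ℕ) : ℤ) : Kˣ) : K) := by
    have e1 : x ^ 2 = ((g ^ (2 * e) : Kˣ) : K) ^ 2 := by
      rcases hx with h | h
      · rw [h]
      · rw [h, neg_sq]
    rw [e1, ← Units.val_pow_eq_pow_val, ← pow_mul, zpow_natCast]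
    congr 2
    ring
  constructor
  · intro h
    obtain ⟨i, hi, h3⟩ := root_pow hk h
    apply h1 i hi
    have h4 : g ^ ((4 * e : ℕ) : ℤ) = g ^ ((2 * e * Nat.card F ^ i : ℕ) : ℤ) := by
      apply Units.ext
      rw [← hx2, h3, zpow_natCast, ← Units.val_pow_eq_pow_val, ← Units.val_pow_eq_pow_val, ← pow_mul, ← pow_mul]
      congr 2
      ring
    rw [zpow_iff ho] at h4
    have e1 : ((4 * e : ℕ) : ℤ) - ((2 * e * Nat.card F ^ i : ℕ) : ℤ) = 2 * e * (2 - (Nat.card F : ℤ) ^ i) := by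
      push_cast; ring
    rwa [e1] at h4
  · intro h
    obtain ⟨i, hi, h3⟩ := root_pow hk h
    apply h2 i hi
    have h4 : g ^ ((4 * e : ℕ) : ℤ) = g ^ (-((2 * e * Nat.card F ^ i : ℕ) : ℤ)) := by
      apply Units.ext
      rw [← hx2, h3, _root_.zpow_neg, zpow_natCast, ← Units.val_pow_eq_pow_val, ← Units.val_pow_eq_pow_val, inv_pow, inv_pow,
        ← pow_mul, ← pow_mul]
      congr 3
      ring
    rw [zpow_iff ho] at h4
    have e1 : ((4 * e : ℕ) : ℤ) - -((2 * e * Nat.card F ^ i : ℕ) : ℤ) = 2 * e * (2 + (Nat.card F : ℤ) ^ i) := by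
      push_cast; ring
    rwa [e1] at h4

theorem zz_mul (bK : Basis (Fin k) F K) (u u' : Kˣ) (s s' : Fin l → Fˣ) :
    zz bK u s * zz bK u' s' = zz bK (u * u') (fun j => s j * s' j) := by
  rw [zz, zz, ← map_mul, ur_mul]
  rfl

/-- **The pair `z`, `z ^ 2`.** -/
theorem pair (hG : Good (plusForm (k + l) F)) (bK : Basis (Fin k) F K) (hk2 : 2 ≤ k)
    (ho : (orderOf g : ℤ) = (Nat.card F : ℤ) ^ k - 1) {e : ℕ}
    (h1 : ∀ i, i < k → ¬ ((Nat.card F : ℤ) ^ k - 1 ∣ (2 * e : ℕ) * ((Nat.card F : ℤ) ^ i + 1)))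
    (h2 : ∀ i, i < k → 0 < i → ¬ ((Nat.card F : ℤ) ^ k - 1 ∣ (2 * e : ℕ) * ((Nat.card F : ℤ) ^ i - 1)))
    (h3 : ∀ i, i < k → ¬ ((Nat.card F : ℤ) ^ k - 1 ∣ 2 * e * (2 - (Nat.card F : ℤ) ^ i)))
    (h4 : ∀ i, i < k → ¬ ((Nat.card F : ℤ) ^ k - 1 ∣ 2 * e * (2 + (Nat.card F : ℤ) ^ i)))
    (s : Fin (k + l) → Fˣ) (hE : zz bK (g ^ e) (fun j => s (Fin.natAdd k j)) ∈ E (plusForm (k + l) F)) :
    ∃ (z : ↥(E (plusForm (k + l) F))) (f f' f₂ f₂' : F[X]), z.1 = zz bK (g ^ e) (fun j => s (Fin.natAdd k j)) ∧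
      Dat k (fun i => (s i : F)) z.1 f f' ∧
      Dat k (fun i => ((s i * s i : Fˣ) : F)) (z * z).1 f₂ f₂' ∧
      ∀ y : Cfsg.POmega F ⇑(plusForm (k + l) F), y * toPOmega hG z * y⁻¹ ≠ toPOmega hG (z * z) := by
  have hk : finrank F K = k := by rw [finrank_eq_card_basis bK, Fintype.card_fin]
  have hu2 : Ok F k (g ^ (2 * e)) := ok_pow ho hk hk2 h1 h2
  have hu : Ok F k (g ^ e) := by
    refine ok_pow ho hk hk2 (fun i hi h => h1 i hi ?_) (fun i hi h0 h => h2 i hi h0 ?_)
    · push_cast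
      rw [mul_assoc]
      exact dvd_mul_of_dvd_right h 2
    · push_cast
      rw [mul_assoc]
      exact dvd_mul_of_dvd_right h 2
  have e1 : zz bK (g ^ e) (fun j => s (Fin.natAdd k j)) * zz bK (g ^ e) (fun j => s (Fin.natAdd k j)) =
      zz bK (g ^ (2 * e)) (fun j => (fun i => s i * s i) (Fin.natAdd k j)) := by
    rw [zz_mul, ← pow_add, ← two_mul]
  have hE2 : zz bK (g ^ (2 * e)) (fun j => (fun i => s i * s i) (Fin.natAdd k j)) ∈ E (plusForm (k + l) F) := by
    rw [← e1]
    exact (E _).mul_mem hE hE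
  refine ⟨⟨_, hE⟩, _, _, minpoly F ((g ^ (2 * e) : Kˣ) : K), minpoly F (((g ^ (2 * e))⁻¹ : Kˣ) : K), rfl,
    dat_zz bK hu s hE, ?_, ?_⟩
  · have h5 := dat_zz bK hu2 (fun i => s i * s i) hE2
    rw [← e1] at h5
    exact h5
  · have h6 := root_ne ho hk h3 h4 (Or.inl rfl)
    have h7 := root_ne ho hk h3 h4 (Or.inr rfl)
    refine not_conj hG (P := Pz (g ^ e) (fun j => s (Fin.natAdd k j))) (aeval_Pz bK _ _) ?_ ?_
    · have h8 := zz_aeval_ne bK (s' := fun j => (fun i => s i * s i) (Fin.natAdd k j))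
        (Pz_ne (g ^ e) (fun j => s (Fin.natAdd k j)) h6.1 h6.2 hu2.ne_algebraMap)
      rw [← e1] at h8
      exact h8
    · have h8 := zz_aeval_neg_ne bK (s' := fun j => (fun i => s i * s i) (Fin.natAdd k j))
        (Pz_ne (g ^ e) (fun j => s (Fin.natAdd k j)) h7.1 h7.2 hu2.neg_ne_algebraMap)
      rw [← e1] at h8
      exact h8

end gen

section main

variable {F : Type*} [Field F] [Finite F]

/-- the field of degree `k` with a generator -/
theorem exists_field (F : Type*) [Field F] [Finite F] {k : ℕ} (hk : 2 ≤ k) : ∃ (K : Type) (_ : Field K) (_ : Finite K) (_ : Algebra F K) (g : Kˣ)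
    (_ : Basis (Fin k) F K), (orderOf g : ℤ) = (Nat.card F : ℤ) ^ k - 1 := by
  obtain ⟨p, hp⟩ := CharP.exists F
  have := Fintype.ofFinite F
  have hpp : Fact p.Prime := ⟨CharP.char_is_prime F p⟩
  have : NeZero k := ⟨by omega⟩
  have hL : finrank F (FiniteField.Extension F p k) = k := FiniteField.finrank_extension F p k
  obtain ⟨g, hg⟩ := IsCyclic.exists_generator (α := (FiniteField.Extension F p k)ˣ)
  refine ⟨FiniteField.Extension F p k, inferInstance, inferInstance, inferInstance, g, finBasisOfFinrankEq F _ hL, ?_⟩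
  have h1 : orderOf g = Nat.card F ^ k - 1 := by
    rw [orderOf_eq_card_of_forall_mem_zpowers hg, Nat.card_units, FiniteField.natCard_extension]
  rw [h1, Nat.cast_sub (Nat.one_le_pow _ _ Nat.card_pos)]
  push_cast
  rfl

theorem exists_gen {k l : ℕ} (hk : k = 3 ∨ k = 4) (hkl : 3 ≤ k + l) (hG : Good (plusForm (k + l) F)) (hq : 3 ≤ Nat.card F) :
    ∃ (z : ↥(E (plusForm (k + l) F))) (f f' f₂ f₂' : F[X]),
      Dat k (fun _ => 1) z.1 f f' ∧ Dat k (fun _ => 1) (z * z).1 f₂ f₂' ∧
      (k = 4 → l = 0 → Nat.card F = 3 → ∀ v, (z ^ 20).1 v = -v) ∧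
      ∀ y : Cfsg.POmega F ⇑(plusForm (k + l) F), y * toPOmega hG z * y⁻¹ ≠ toPOmega hG (z * z) := by
  obtain ⟨K, _, _, _, g, bK, ho⟩ := exists_field F (k := k) (by omega)
  obtain ⟨z, f, f', f₂, f₂', hz, h1, h2, h3⟩ := pair (l := l) (g := g) hG bK (by omega) ho (e := 2)
    (fun i hi => (num hq hk hi).1) (fun i hi => (num hq hk hi).2.1) (fun i hi => by
      have e1 : (2 : ℤ) * ((2 : ℕ) : ℤ) = 4 := by norm_num
      rw [e1]; exact (num hq hk hi).2.2.1) (fun i hi => by
      have e1 : (2 : ℤ) * ((2 : ℕ) : ℤ) = 4 := by norm_num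
      rw [e1]; exact (num hq hk hi).2.2.2) (fun _ => 1) (by
      have e1 : zz bK (g ^ 2) (fun _ : Fin l => (1 : Fˣ)) = tz (bb bK l) (ur g (fun _ => 1) * ur g (fun _ => 1)) := by
        rw [zz, ur_mul, pow_two]
        congr 2
        ext j
        rw [mul_one]
      rw [e1]
      exact tz_sq_mem_E hkl _ _)
  refine ⟨z, f, f', f₂, f₂', ?_, ?_, ?_, h3⟩
  · simpa using h1
  · simpa only [_root_.Subgroup.coe_mul, _root_.mul_one, _root_.Units.val_one] using h2
  · rintro rfl rfl h5 v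
    have h6 : ((z ^ 20 : ↥(E (plusForm (4 + 0) F))) : (Fin (4 + 0) ⊕ Fin (4 + 0) → F) ≃ₗ[F] _) =
        tz (bb bK 0) (ur (g ^ 40) (fun _ => 1)) := by
      rw [SubmonoidClass.coe_pow, hz, zz, ← map_pow]
      congr 1
      apply Units.ext
      rw [Units.val_pow_eq_pow_val, ur_val, ur_val]
      apply Prod.ext
      · show ((g ^ 2 : Kˣ) : K) ^ 20 = ((g ^ 40 : Kˣ) : K)
        rw [← Units.val_pow_eq_pow_val, ← pow_mul]
      · exact Subsingleton.elim _ _
    have h7 : g ^ 40 = -1 := by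
      have h8 : (g ^ 40) ^ 2 = 1 := by
        rw [← pow_mul, ← orderOf_dvd_iff_pow_eq_one]
        rw [h5] at ho
        have h9 : orderOf g = 80 := by
          have : (orderOf g : ℤ) = 80 := by rw [ho]; norm_num
          exact_mod_cast this
        rw [h9]
      have h9 : g ^ 40 ≠ 1 := by
        intro h10
        have h11 := Nat.le_of_dvd (by norm_num) (orderOf_dvd_of_pow_eq_one h10)
        rw [h5] at ho
        have h12 : orderOf g = 80 := by
          have : (orderOf g : ℤ) = 80 := by rw [ho]; norm_num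
          exact_mod_cast this
        omega
      have h10 : ((g ^ 40 : Kˣ) : K) * ((g ^ 40 : Kˣ) : K) = 1 := by
        rw [← Units.val_mul, ← pow_two, h8, Units.val_one]
      rcases mul_self_eq_one_iff.1 h10 with h11 | h11
      · exact absurd (Units.ext h11) h9
      · exact Units.ext (by rw [h11, Units.val_neg, Units.val_one])
    show ((z ^ 20 : ↥(E (plusForm (4 + 0) F))) : (Fin (4 + 0) ⊕ Fin (4 + 0) → F) ≃ₗ[F] _) v = -v
    rw [h6, h7, tz_apply]
    have h8 : (((ur (-1 : Kˣ) (fun _ : Fin 0 => (1 : Fˣ)) : (K × (Fin 0 → F))ˣ) : K × (Fin 0 → F)),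
        (((ur (-1 : Kˣ) (fun _ : Fin 0 => (1 : Fˣ)))⁻¹ : (K × (Fin 0 → F))ˣ) : K × (Fin 0 → F))) =
        -(1 : (K × (Fin 0 → F)) × (K × (Fin 0 → F))) := by
      apply Prod.ext
      · apply Prod.ext
        · simp [ur_val]
        · exact Subsingleton.elim _ _
      · apply Prod.ext
        · rw [ur_inv]
          simp only [ur_val, _root_.inv_neg, _root_.inv_one, _root_.Units.val_neg, _root_.Units.val_one, _root_.Prod.snd_neg, _root_.Prod.snd_one, _root_.Prod.fst_neg, _root_.Prod.fst_one]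
        · exact Subsingleton.elim _ _
    rw [h8, map_neg, map_one]
    rfl

/-- **`k = 4`** -/
theorem exists_four (hG : Good (plusForm 4 F)) (hq : 3 ≤ Nat.card F) :
    ∃ (z : ↥(E (plusForm 4 F))) (f f' f₂ f₂' : F[X]),
      Dat 4 (fun _ => 1) z.1 f f' ∧ Dat 4 (fun _ => 1) (z * z).1 f₂ f₂' ∧
      (Nat.card F = 3 → ∀ v, (z ^ 20).1 v = -v) ∧
      ∀ y : Cfsg.POmega F ⇑(plusForm 4 F), y * toPOmega hG z * y⁻¹ ≠ toPOmega hG (z * z) := by
  obtain ⟨z, f, f', f₂, f₂', h1, h2, h3, h4⟩ := exists_gen (k := 4) (l := 0) (Or.inr rfl) (by norm_num) hG hq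
  exact ⟨z, f, f', f₂, f₂', h1, h2, h3 rfl rfl, h4⟩

/-- **`k = 3`** -/
theorem exists_three (hG : Good (plusForm 4 F)) (hq : 3 ≤ Nat.card F) :
    ∃ (z : ↥(E (plusForm 4 F))) (f f' f₂ f₂' : F[X]),
      Dat 3 (fun _ => 1) z.1 f f' ∧ Dat 3 (fun _ => 1) (z * z).1 f₂ f₂' ∧
      ∀ y : Cfsg.POmega F ⇑(plusForm 4 F), y * toPOmega hG z * y⁻¹ ≠ toPOmega hG (z * z) := by
  obtain ⟨z, f, f', f₂, f₂', h1, h2, -, h4⟩ := exists_gen (k := 3) (l := 1) (Or.inl rfl) (by norm_num) hG hq
  exact ⟨z, f, f', f₂, f₂', h1, h2, h4⟩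

/-- the norm of a generator -/
theorem norm_gen {K : Type} [Field K] [Finite K] [Algebra F K] {g : Kˣ} (bK : Basis (Fin 2) F K) (hq : 3 ≤ Nat.card F)
    (ho : (orderOf g : ℤ) = (Nat.card F : ℤ) ^ 2 - 1) {j : ℕ} (hj : (Units.map (Algebra.norm F : K →* F) g) ^ j = 1) :
    Nat.card F - 1 ∣ j := by
  have hk : finrank F K = 2 := by rw [finrank_eq_card_basis bK, Fintype.card_fin]
  have h1 : algebraMap F K (Algebra.norm F (g : K)) = (g : K) ^ (Nat.card F + 1) := by
    rw [FiniteField.algebraMap_norm_eq_pow]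
    congr 1
    rw [Module.natCard_eq_pow_finrank (K := F) (V := K), hk]
    have e1 : Nat.card F ^ 2 - 1 = (Nat.card F + 1) * (Nat.card F - 1) := by
      rw [← one_pow 2, Nat.sq_sub_sq, one_pow]
    rw [e1]
    exact Nat.mul_div_cancel _ (by omega)
  have h2 : g ^ ((Nat.card F + 1) * j) = 1 := by
    apply Units.ext
    have h3 : (Algebra.norm F (g : K)) ^ j = 1 := congrArg Units.val hj
    rw [Units.val_pow_eq_pow_val, pow_mul, ← h1, ← map_pow, h3, map_one, Units.val_one]
  have h3 := orderOf_dvd_of_pow_eq_one h2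
  have h4 : orderOf g = (Nat.card F + 1) * (Nat.card F - 1) := by
    have h5 : (orderOf g : ℤ) = (((Nat.card F + 1) * (Nat.card F - 1) : ℕ) : ℤ) := by
      rw [ho, Nat.cast_mul, Nat.cast_sub (by omega)]
      push_cast
      ring
    exact_mod_cast h5
  rw [h4] at h3
  exact Nat.dvd_of_mul_dvd_mul_left (by omega) h3

theorem zz_two_mem {K : Type} [Field K] [Finite K] [Algebra F K] (g : Kˣ) (bK : Basis (Fin 2) F K) :
    zz bK g (fun j : Fin 2 => (![1, 1, 1, Units.map (Algebra.norm F : K →* F) g] : Fin (2 + 2) → Fˣ) (Fin.natAdd 2 j)) ∈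
      E (plusForm (2 + 2) F) := by
  have hc : Algebra.norm F (g : K) ≠ 0 := (Units.map (Algebra.norm F : K →* F) g).ne_zero
  refine tz_mem_E (by norm_num) _ hc ?_
  rw [norm_ur]
  congr 1
  rw [Fin.prod_univ_two]
  show (1 : F) * Algebra.norm F (g : K) = _
  rw [one_mul]

/-- **`k = 2`, one class** -/
theorem exists_two_one (hq : 3 ≤ Nat.card F) :
    ∃ (z : ↥(E (plusForm 4 F))) (f f' : F[X]) (c : F), c ≠ 1 ∧ c ≠ 0 ∧ Dat 2 ![1, 1, 1, c] z.1 f f' ∧
      (Nat.card F = 3 → c = -1 ∧ z ^ 8 = 1 ∧ z ^ 4 ≠ 1) := by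
  obtain ⟨K, _, _, _, g, bK, ho⟩ := exists_field F (k := 2) le_rfl
  have hk : finrank F K = 2 := by rw [finrank_eq_card_basis bK, Fintype.card_fin]
  have hE := zz_two_mem g bK
  have hu : Ok F 2 g := by
    have h1 : Ok F 2 (g ^ 1) := ok_pow ho hk le_rfl (fun i hi => by
      rw [Nat.cast_one, one_mul]; exact (num_one hq hi).1) (fun i hi => by
      rw [Nat.cast_one, one_mul]; exact (num_one hq hi).2)
    rwa [pow_one] at h1
  have hc1 : Units.map (Algebra.norm F : K →* F) g ≠ 1 := by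
    intro h
    have h1 := Nat.le_of_dvd one_pos (norm_gen bK hq ho (j := 1) (by rw [pow_one, h]))
    omega
  have hD := dat_zz bK hu _ hE
  refine ⟨⟨_, hE⟩, minpoly F (g : K), minpoly F ((g⁻¹ : Kˣ) : K), (Units.map (Algebra.norm F : K →* F) g : Fˣ), fun h => hc1 (Units.ext h), Units.ne_zero _, ?_, ?_⟩
  · have e1 : (fun i => (((![1, 1, 1, Units.map (Algebra.norm F : K →* F) g] : Fin (2 + 2) → Fˣ) i : Fˣ) : F)) =
        (![1, 1, 1, ((Units.map (Algebra.norm F : K →* F) g : Fˣ) : F)] : Fin 4 → F) := by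
      funext i
      fin_cases i <;> rfl
    rw [e1] at hD
    exact hD
  · intro h3
    have ho' : orderOf g = 8 := by
      have : (orderOf g : ℤ) = 8 := by rw [ho, h3]; norm_num
      exact_mod_cast this
    have hcF : ∀ a : Fˣ, a ^ 2 = 1 := by
      intro a
      have h4 : a ^ Nat.card Fˣ = 1 := pow_card_eq_one'
      rw [Nat.card_units, h3] at h4
      exact h4
    set! c := Units.map (Algebra.norm F : K →* F) g with hc; rewrite [← hc] at hD hc1 hE
    refine ⟨?_, ?_, ?_⟩
    · have h4 := hcF c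
      rw [pow_two] at h4
      have h5 : (c : F) * (c : F) = 1 := by rw [← Units.val_mul, h4, Units.val_one]
      rcases mul_self_eq_one_iff.1 h5 with h6 | h6
      · exact absurd (Units.ext h6) hc1
      · exact h6
    · apply Subtype.ext
      rw [SubmonoidClass.coe_pow]
      show (tz (bb bK 2) (ur g _)) ^ 8 = 1
      rw [← map_pow]
      have h5 : (ur g (fun j : Fin 2 => (![1, 1, 1, c] : Fin (2 + 2) → Fˣ) (Fin.natAdd 2 j))) ^ 8 = 1 := by
        apply Units.ext
        rw [Units.val_pow_eq_pow_val, ur_val, Units.val_one]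
        apply Prod.ext
        · show (g : K) ^ 8 = 1
          rw [← Units.val_pow_eq_pow_val, ← ho', pow_orderOf_eq_one, Units.val_one]
        · funext j
          show (((![1, 1, 1, c] : Fin (2 + 2) → Fˣ) (Fin.natAdd 2 j) : Fˣ) : F) ^ 8 = 1
          rw [← Units.val_pow_eq_pow_val]
          have h6 : ((![1, 1, 1, c] : Fin (2 + 2) → Fˣ) (Fin.natAdd 2 j)) ^ 8 = 1 := by
            rw [show (8 : ℕ) = 2 * 4 from rfl, pow_mul, hcF, one_pow]
          rw [h6, Units.val_one]
      rw [h5, map_one]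
    · intro h4
      have h5 := congrArg Subtype.val h4
      rw [SubmonoidClass.coe_pow] at h5
      have h6 : tz (bb bK 2) ((ur g (fun j : Fin 2 => (![1, 1, 1, c] : Fin (2 + 2) → Fˣ) (Fin.natAdd 2 j))) ^ 4) = 1 := by
        rw [map_pow]
        exact h5
      have h7 : (ur g (fun j : Fin 2 => (![1, 1, 1, c] : Fin (2 + 2) → Fˣ) (Fin.natAdd 2 j))) ^ 4 = 1 :=
        (tz_injective (bb bK 2) (h6.trans (map_one _).symm) :)
      have h8 := congrArg (fun w : (K × (Fin 2 → F))ˣ => (w : K × (Fin 2 → F)).1) h7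
      have h9 : (g : K) ^ 4 = 1 := h8
      have h10 : g ^ 4 = 1 := Units.ext (by rw [Units.val_pow_eq_pow_val, h9, Units.val_one])
      have h11 := Nat.le_of_dvd (by norm_num) (orderOf_dvd_of_pow_eq_one h10)
      omega

/-- **`k = 2`, two classes** -/
theorem exists_two (hG : Good (plusForm 4 F)) (hq : 4 ≤ Nat.card F) :
    ∃ (z : ↥(E (plusForm 4 F))) (f f' f₂ f₂' : F[X]) (c : F), c ≠ 0 ∧ c ≠ 1 ∧ c * c ≠ 1 ∧
      Dat 2 ![1, 1, 1, c] z.1 f f' ∧ Dat 2 ![1, 1, 1, c * c] (z * z).1 f₂ f₂' ∧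
      ∀ y : Cfsg.POmega F ⇑(plusForm 4 F), y * toPOmega hG z * y⁻¹ ≠ toPOmega hG (z * z) := by
  obtain ⟨K, _, _, _, g, bK, ho⟩ := exists_field F (k := 2) le_rfl
  have hk : finrank F K = 2 := by rw [finrank_eq_card_basis bK, Fintype.card_fin]
  have hc : ∀ j, 0 < j → j < 3 → (Units.map (Algebra.norm F : K →* F) g) ^ j ≠ 1 := by
    intro j hj0 hj h
    have h1 := Nat.le_of_dvd hj0 (norm_gen bK (by omega) ho h)
    omega
  obtain ⟨z, f, f', f₂, f₂', hz, h1, h2, h3⟩ := pair (l := 2) (g := g) hG bK le_rfl ho (e := 1)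
    (fun i hi => (num_two hq hi).1) (fun i hi => (num_two hq hi).2.1) (fun i hi => by
      rw [Nat.cast_one, mul_one]; exact (num_two hq hi).2.2.1) (fun i hi => by
      rw [Nat.cast_one, mul_one]; exact (num_two hq hi).2.2.2) ![1, 1, 1, Units.map (Algebra.norm F : K →* F) g] (by
      rw [pow_one]
      exact zz_two_mem g bK)
  refine ⟨z, f, f', f₂, f₂', (Units.map (Algebra.norm F : K →* F) g : Fˣ), Units.ne_zero _, ?_, ?_, ?_, ?_, h3⟩
  · intro h
    exact hc 1 one_pos (by norm_num) (by rw [pow_one]; exact Units.ext h)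
  · intro h
    exact hc 2 two_pos (by norm_num) (by rw [pow_two]; exact Units.ext h)
  · have e1 : (fun i => (((![1, 1, 1, Units.map (Algebra.norm F : K →* F) g] : Fin (2 + 2) → Fˣ) i : Fˣ) : F)) =
        (![1, 1, 1, ((Units.map (Algebra.norm F : K →* F) g : Fˣ) : F)] : Fin 4 → F) := by
      funext i
      fin_cases i <;> rfl
    rw [e1] at h1
    exact h1
  · have e1 : (fun i => (((![1, 1, 1, Units.map (Algebra.norm F : K →* F) g] : Fin (2 + 2) → Fˣ) i *
        (![1, 1, 1, Units.map (Algebra.norm F : K →* F) g] : Fin (2 + 2) → Fˣ) i : Fˣ) : F)) =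
        (![1, 1, 1, ((Units.map (Algebra.norm F : K →* F) g : Fˣ) : F) *
          ((Units.map (Algebra.norm F : K →* F) g : Fˣ) : F)] : Fin 4 → F) := by
      funext i
      fin_cases i
      · exact congrArg Units.val (one_mul (1 : Fˣ))
      · exact congrArg Units.val (one_mul (1 : Fˣ))
      · exact congrArg Units.val (one_mul (1 : Fˣ))
      · rfl
    rw [e1] at h2
    exact h2

end main

end Cfsg.Agent.H292.OZ
end

-- part: H128/OZ/EightAsm
section
/-!
# S4842, row `POmega⁺₈ (q)`, `q ≥ 3`: the assembly in the frame of `H158.OZ` (helper128)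

`YY F = PΩ(plusForm 4 F)`, `pi4 F : E Q →* YY F`; root group datum `RS` of type `D₄` (`TSS`, `nS`, `XS`; nodes `0, 1, 2, 3` of
`TypeD.M 2`, centre `1`).

`HC F` : the facts on the representations of `YY F`; `plusEight_of` : the row.
-/

set_option autoImplicit false

namespace Cfsg.Agent.H128.OZ.Asm

open Cfsg Module Polynomial
open Cfsg.Agent.Characters
open Cfsg.Agent.ChevalleyStructure.CoxeterGeom Cfsg.Agent.Tits.Roots
open Cfsg.Agent.Nodes.Comb Cfsg.Agent.Nodes.Reps Cfsg.Agent.Nodes.BNOf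
open Cfsg.Agent.Nodes.RGDLib Cfsg.Agent.Nodes.WittAll Cfsg.Agent.Nodes.WittU Cfsg.Agent.Nodes.RGDChev
open Cfsg.Agent.LieClassical Cfsg.Agent.LieClassical.OrthCore Cfsg.Agent.LieClassical.OrthTrans
open Cfsg.Agent.LieClassical.OrthSimple Cfsg.Agent.LieClassical.OrthFinite Cfsg.Agent.LieClassical.OrthForms
open Cfsg.Agent.TitsThree.KSideO
open Cfsg.Agent.Nodes.TypeD Cfsg.Agent.Nodes.WittInst Cfsg.Agent.Nodes Cfsg.Agent.Nodes.Bruhat Cfsg.Agent.Nodes.StabComb
open Cfsg.Agent.Nodes.LeviDec Cfsg.Agent.H985.VZ Cfsg.Agent.H730.OZ Cfsg.Agent.H530.OZ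
open Cfsg.Agent.H158.OZ Cfsg.Agent.H292.OZ Cfsg.Agent.H224.OZ.Q3

universe u

section defs

variable (F : Type) [Field F]

/-- the group -/
abbrev YY : Type := Cfsg.POmega F ⇑(plusForm 4 F)

theorem hG [Finite F] : _root_.Cfsg.Agent.LieClassical.OrthTrans.Good (plusForm 4 F) := by
  apply good_of_finite (nondeg_plusForm 4 F)
  rw [Module.finrank_fintype_fun_eq_card, Fintype.card_sum, Fintype.card_fin]
  omega

variable [Finite F]

/-- the projection -/
noncomputable abbrev pi4 : E (Q8 F) →* YY F := toPOmega (hG F)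

theorem pi4_surj : Function.Surjective (pi4 F) := toPOmega_surjective (hG F)

theorem pi4_ker : ∀ z : E (Q8 F), z ∈ (pi4 F).ker → ∃ a : F, ∀ v, (z : V8 F ≃ₗ[F] V8 F) v = a • v :=
  fun _ hz => scalar_of_center (hG F) (center_of_toPOmega (hG F) hz)

/-- the Coxeter system -/
abbrev cs4 : CoxeterSystem (M 2) (M 2).Group := (M 2).toCoxeterSystem

/-- the torus -/
noncomputable abbrev T4 : Subgroup (YY F) := TSS (pi4 F)

/-- the root groups -/
noncomputable abbrev X4 : (Fin 4 → ℤ) → Subgroup (YY F) := XS (pi4 F)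

/-- elliptic elements -/
abbrev El4 (J : Set (Fin 4)) (t : YY F) : Prop := Ell cs4 (isCartan 2) (T4 F) (X4 F) J t

end defs

variable (F : Type) [Field F] [Fintype F]

theorem rgd4 {p : ℕ} [Fact p.Prime] [CharP F p] : RGD cs4 (isCartan 2) p (T4 F) (nS (pi4 F)) (X4 F) :=
  RS (ker_le (pi4_ker F)) cs4

theorem gg4 : GG cs4 (isCartan 2) (T4 F) (X4 F) = ⊤ := GGS (pi4_surj F) cs4

/-- The facts used in the row `POmega⁺₈ (q)`, `q ≥ 3`. -/
structure HC : Prop where
  /-- `V^B ≠ 0` -/
  vb : ∀ {N : ℕ} {ρ : Representation ℂ (YY F) (Fin N → ℂ)}, ρ.IsIrreducible → ∀ {t t' t'' : YY F},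
    El4 F {0, 1} t → ρ.character t ≠ 0 → El4 F {0, 1, 2} t' → ρ.character t' ≠ 0 →
    El4 F {0, 1, 3} t'' → ρ.character t'' ≠ 0 → fx ρ (RGD.B cs4 (isCartan 2) (T4 F) (X4 F)) ≠ ⊥
  /-- the determinant -/
  det : ∀ {N : ℕ} {ρ : Representation ℂ (YY F) (Fin N → ℂ)}, ρ.IsIrreducible →
    fx ρ (RGD.B cs4 (isCartan 2) (T4 F) (X4 F)) ≠ ⊥ → ∀ {p f : ℕ}, p.Prime → Fintype.card F = p ^ f →
    ∑ᶠ u ∈ pSet p (YY F), ρ.character u = (p : ℂ) ^ (12 * f) * ρ.character 1 →
    2 * finrank ℂ (fx ρ (PJ cs4 (isCartan 2) (T4 F) (X4 F) {0})) = finrank ℂ (fx ρ (RGD.B cs4 (isCartan 2) (T4 F) (X4 F)))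
  /-- the value at an elliptic element of type `{0}` -/
  val0 : ∀ {N : ℕ} {ρ : Representation ℂ (YY F) (Fin N → ℂ)}, ρ.IsIrreducible →
    fx ρ (RGD.B cs4 (isCartan 2) (T4 F) (X4 F)) ≠ ⊥ →
    2 * finrank ℂ (fx ρ (PJ cs4 (isCartan 2) (T4 F) (X4 F) {0})) = finrank ℂ (fx ρ (RGD.B cs4 (isCartan 2) (T4 F) (X4 F))) →
    ∀ {t : YY F}, El4 F {0} t → ρ.character t = 0
  /-- the value at an elliptic element of type `{0, 1, 2}` is even -/
  even012 : ∀ {N : ℕ} {ρ : Representation ℂ (YY F) (Fin N → ℂ)}, ρ.IsIrreducible →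
    fx ρ (RGD.B cs4 (isCartan 2) (T4 F) (X4 F)) ≠ ⊥ →
    2 * finrank ℂ (fx ρ (PJ cs4 (isCartan 2) (T4 F) (X4 F) {0})) = finrank ℂ (fx ρ (RGD.B cs4 (isCartan 2) (T4 F) (X4 F))) →
    ∀ {t : YY F}, El4 F {0, 1, 2} t → ∃ k : ℤ, ρ.character t = 2 * k
  /-- two classes of elliptic elements -/
  two01 : ∃ t t' : YY F, El4 F {0, 1} t ∧ El4 F {0, 1} t' ∧ ¬ IsConj t t'
  two012 : ∃ t t' : YY F, El4 F {0, 1, 2} t ∧ El4 F {0, 1, 2} t' ∧ ¬ IsConj t t'
  two013 : ∃ t t' : YY F, El4 F {0, 1, 3} t ∧ El4 F {0, 1, 3} t' ∧ ¬ IsConj t t'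
  two0 : 4 ≤ Fintype.card F → ∃ t t' : YY F, El4 F {0} t ∧ El4 F {0} t' ∧ ¬ IsConj t t'
  /-- the elements for `q = 3` -/
  three : Fintype.card F = 3 → ∃ z s : E (Q8 F), ZElt z ∧ SElt s ∧ El4 F {0, 1, 2} (pi4 F z) ∧ El4 F {0} (pi4 F s)

variable {F}

theorem exists_ne_of_two {G : Type*} [Group G] {P : G → Prop} {χ : G → ℂ} (h0 : OneZero χ)
    (h : ∃ t t' : G, P t ∧ P t' ∧ ¬ IsConj t t') : ∃ t, P t ∧ χ t ≠ 0 := by
  obtain ⟨t, t', ht, ht', hne⟩ := h
  by_cases h1 : χ t = 0
  · refine ⟨t', ht', fun h2 => hne ?_⟩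
    obtain ⟨x, -, hx⟩ := h0
    exact (hx t h1).symm.trans (hx t' h2)
  · exact ⟨t, ht, h1⟩

/-! ### The elements, from ellipticity -/

variable (F) in
/-- **(A)** : ellipticity of the elements of helper292 (helper224) -/
structure EA : Prop where
  four : ∀ {z : E (Q8 F)} {f f' : F[X]}, Dat 4 (fun _ => 1) z.1 f f' → El4 F {0, 1, 2} (pi4 F z)
  three : ∀ {z : E (Q8 F)} {f f' : F[X]}, Dat 3 (fun _ => 1) z.1 f f' → El4 F {0, 1} (pi4 F z)
  two : ∀ {z : E (Q8 F)} {f f' : F[X]} {c : F}, c ≠ 0 → c ≠ 1 → Dat 2 ![1, 1, 1, c] z.1 f f' → El4 F {0} (pi4 F z)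

theorem not_isConj {G : Type*} [Group G] {a b : G} (h : ∀ y : G, y * a * y⁻¹ ≠ b) : ¬ IsConj a b := fun h' => by
  obtain ⟨c, hc⟩ := isConj_iff.1 h'
  exact h c hc

theorem EA.two01 (H : EA F) (h3 : 3 ≤ Fintype.card F) : ∃ t t' : YY F, El4 F {0, 1} t ∧ El4 F {0, 1} t' ∧ ¬ IsConj t t' := by
  obtain ⟨z, f, f', f₂, f₂', h1, h2, h4⟩ := exists_three (hG F) (by rw [Nat.card_eq_fintype_card]; exact h3)
  exact ⟨_, _, H.three h1, H.three h2, not_isConj h4⟩

theorem EA.two012 (H : EA F) (h3 : 3 ≤ Fintype.card F) :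
    ∃ t t' : YY F, El4 F {0, 1, 2} t ∧ El4 F {0, 1, 2} t' ∧ ¬ IsConj t t' := by
  obtain ⟨z, f, f', f₂, f₂', h1, h2, -, h4⟩ := _root_.Cfsg.Agent.H292.OZ.exists_four (hG F) (by rw [Nat.card_eq_fintype_card]; exact h3)
  exact ⟨_, _, H.four h1, H.four h2, not_isConj h4⟩

theorem EA.two0 (H : EA F) (h3 : 4 ≤ Fintype.card F) :
    ∃ t t' : YY F, El4 F {0} t ∧ El4 F {0} t' ∧ ¬ IsConj t t' := by
  obtain ⟨z, f, f', f₂, f₂', c, hc0, hc1, hc2, h1, h2, h4⟩ := exists_two (hG F) (by rw [Nat.card_eq_fintype_card]; exact h3)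
  exact ⟨_, _, H.two hc0 hc1 h1, H.two (mul_ne_zero hc0 hc0) hc2 h2, not_isConj h4⟩

theorem EA.elts3 (H : EA F) (h3 : Fintype.card F = 3) :
    ∃ z s : E (Q8 F), ZElt z ∧ SElt s ∧ El4 F {0, 1, 2} (pi4 F z) ∧ El4 F {0} (pi4 F s) := by
  have h3' : Nat.card F = 3 := by rw [Nat.card_eq_fintype_card]; exact h3
  obtain ⟨z, f, f', f₂, f₂', h1, h2, h4, -⟩ := _root_.Cfsg.Agent.H292.OZ.exists_four (hG F) h3'.ge
  obtain ⟨s, g, g', c, hc1, hc0, h5, h6⟩ := exists_two_one (F := F) h3'.ge
  obtain ⟨rfl, h8, h9⟩ := h6 h3'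
  exact ⟨z, s, zelt_of_dat h2 (h4 h3'), selt_of_dat h5 rfl rfl h8 h9, H.four h1, H.two hc0 hc1 h5⟩

end Cfsg.Agent.H128.OZ.Asm
end

-- part: H224/OZ/EllDat
section
/-!
# S4842, `PΩ⁺_8(q)`: the elements `Dat` are elliptic (helper224)

`z ∈ E (Q8 F)`, `π : E (Q8 F) →* S` surjective with kernel scalars.

* `ell_four` : `Dat 4 s z f f'` gives `Ell` for `J = {0,1,2}`; `hz_four`, `hc_four`, `hirr_four`
* `ell_three` : `Dat 3 s z f f'`, `s 3 = 1`, gives `Ell` for `J = {0,1}`
* `ell_two` : `Dat 2 s z f f'`, `s 2 = 1`, `s 3 ≠ 1`, gives `Ell` for `J = {0}`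
-/

set_option autoImplicit false
set_option linter.unusedSectionVars false
set_option linter.unusedSimpArgs false

open Cfsg

namespace Cfsg.Agent.H224.OZ.EllDat

open CoxeterSystem Cfsg.Agent.Tits.Roots Cfsg.Agent.H158.OZ Cfsg.Agent.Nodes
open Cfsg.Agent.Nodes.TypeC (ng)
open Cfsg.Agent.Nodes.TypeD (isCartan)
open Cfsg.Agent.LieClassical.OrthCore Cfsg.Agent.LieClassical.OrthTrans Cfsg.Agent.LieClassical.OrthForms
open QuadraticMap Polynomial
open Cfsg.Agent.H985.VZ (Ell)
open Cfsg.Agent.H292.OZ (Dat)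

theorem aeval_eig {F V : Type*} [Field F] [AddCommGroup V] [Module F V] {Z : Module.End F V} {v : V} {a : F}
    (h : Z v = a • v) (q : F[X]) : aeval Z q v = q.eval a • v := by
  induction q using Polynomial.induction_on' with
  | add p q hp hq => rw [map_add, LinearMap.add_apply, hp, hq, eval_add, add_smul]
  | monomial n b =>
    have hp : (Z ^ n) v = a ^ n • v := by
      induction n with
      | zero => rw [pow_zero, pow_zero, one_smul]; rfl
      | succ n ih => rw [pow_succ', Module.End.mul_apply, ih, map_smul, h, smul_smul, pow_succ]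
    rw [aeval_monomial, Module.End.mul_apply, Module.algebraMap_end_apply, hp, smul_smul, eval_monomial]

theorem coprime_lin {F : Type*} [Field F] {f : F[X]} {a : F} (h : f.eval a ≠ 0) : IsCoprime f (X - C a) := by
  refine IsCoprime.symm (((irreducible_X_sub_C a).coprime_iff_not_dvd).2 fun h' => h ?_)
  exact dvd_iff_isRoot.1 h'

section dat

variable {F : Type*} [Field F]

theorem SZ_mono {Z Z' : Set (Fin 4 × Bool)} (h : Z ⊆ Z') : (SZ Z : Submodule F (V8 F)) ≤ SZ Z' :=
  fun _ hv x hx => hv x fun h' => hx (h h')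

/-- the eigenvalues -/
def evx (s : Fin 4 → F) (x : Fin 4 × Bool) : F := cond x.2 (s x.1) (s x.1)⁻¹

/-- the blocks -/
def PP (k : ℕ) (b : Bool) : Set (Fin 4 × Bool) := {x | x.2 = b ∧ (x.1 : ℕ) < k}

variable {k : ℕ} {s : Fin 4 → F} {z : V8 F ≃ₗ[F] V8 F} {f f' : F[X]} (D : Dat k s z f f')

include D

theorem z_bb {x : Fin 4 × Bool} (hx : k ≤ (x.1 : ℕ)) : z (bb x) = evx s x • bb x := by
  obtain ⟨i, b⟩ := x
  rw [bb_eq]
  cases b
  · exact D.sr i hx
  · exact D.sl i hx

theorem z_P {v : V8 F} (hv : v ∈ SZ (PP k true)) : z v ∈ SZ (PP k true) := by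
  obtain ⟨h1, h2⟩ := D.pl v (fun i => hv (i, false) fun h => Bool.false_ne_true h.1)
    (fun i hi => hv (i, true) fun h => absurd h.2 (not_lt.2 hi))
  rintro ⟨i, b⟩ hx
  cases b
  · exact h1 i
  · exact h2 i (not_lt.1 fun h => hx ⟨rfl, h⟩)

theorem kf_bb {x : Fin 4 × Bool} (hx : x ∈ PP k true) : aeval (z : Module.End F (V8 F)) f (bb x) = 0 := by
  obtain ⟨i, b⟩ := x
  obtain ⟨h1, h2⟩ := hx
  change b = true at h1
  subst h1
  rw [bb_eq]
  exact D.kf i h2

theorem kf'_bb {x : Fin 4 × Bool} (hx : x ∈ PP k false) : aeval (z : Module.End F (V8 F)) f' (bb x) = 0 := by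
  obtain ⟨i, b⟩ := x
  obtain ⟨h1, h2⟩ := hx
  change b = false at h1
  subst h1
  rw [bb_eq]
  exact D.kf' i h2

/-- the kernel of `f'(z)` -/
theorem ker_f' {v : V8 F} (hv : aeval (z : Module.End F (V8 F)) f' v = 0) : v ∈ SZ (PP k false) := by
  classical
  have hP : ∀ x ∈ PP k true, aeval (z : Module.End F (V8 F)) f' (bb x) ∈ SZ (PP k true) := fun x hx =>
    Cfsg.Agent.H158.OZ.aeval_mem (fun w hw => z_P D hw) f' (bb_mem_SZ hx)
  -- the eigenvector coordinates vanish
  have h1 : ∀ y : Fin 4 × Bool, k ≤ (y.1 : ℕ) → co y v = 0 := by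
    intro y hy
    have h2 := congrArg (co y) hv
    rw [apply_eq_sum (aeval (z : Module.End F (V8 F)) f') v, map_sum, map_zero, Finset.sum_eq_single y] at h2
    · rw [aeval_eig (z_bb D hy), map_smul, map_smul, co_bb, if_pos rfl, smul_eq_mul, smul_eq_mul, mul_one] at h2
      exact (mul_eq_zero.1 h2).resolve_right (D.ev' _)
    · intro x _ hxy
      rw [map_smul, smul_eq_mul]
      refine mul_eq_zero_of_right _ ?_
      by_cases hx : k ≤ (x.1 : ℕ)
      · rw [aeval_eig (z_bb D hx), map_smul, co_bb, if_neg (Ne.symm hxy), smul_zero]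
      · rcases hb : x.2 with _ | _
        · rw [kf'_bb D ⟨hb, not_le.1 hx⟩, map_zero]
        · exact hP x ⟨hb, not_le.1 hx⟩ y fun h => absurd h.2 (not_lt.2 hy)
    · intro h
      exact absurd (Finset.mem_univ y) h
  have h2 : v - pr (PP k true) v ∈ SZ (PP k false) := by
    intro x hx
    rw [map_sub, co_pr]
    by_cases hx1 : x ∈ PP k true
    · rw [if_pos hx1, sub_self]
    · rw [if_neg hx1, sub_zero]
      apply h1
      by_contra h3
      rcases hb : x.2 with _ | _
      · exact hx ⟨hb, not_le.1 h3⟩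
      · exact hx1 ⟨hb, not_le.1 h3⟩
  have h3 : aeval (z : Module.End F (V8 F)) f' (v - pr (PP k true) v) ∈ (⊥ : Submodule F (V8 F)) :=
    map_SZ (fun x hx => by rw [Submodule.mem_bot, kf'_bb D hx]) h2
  rw [Submodule.mem_bot, map_sub, hv, zero_sub, neg_eq_zero] at h3
  have h4 : aeval (z : Module.End F (V8 F)) f (pr (PP k true) v) ∈ (⊥ : Submodule F (V8 F)) :=
    map_SZ (fun x hx => by rw [Submodule.mem_bot, kf_bb D hx]) (pr_mem _ v)
  rw [Submodule.mem_bot] at h4
  have h5 := coprime_zero D.cop h4 h3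
  rwa [h5, sub_zero] at h2

theorem z_P' {x : Fin 4 × Bool} (hx : x ∈ PP k false) : z (bb x) ∈ SZ (PP k false) := by
  apply ker_f' D
  have h1 : Commute (z : Module.End F (V8 F)) (z : Module.End F (V8 F)) := Commute.refl _
  have h2 := congrArg (fun g : Module.End F (V8 F) => g (bb x)) (commute_aeval h1 f').eq
  have h3 : aeval (z : Module.End F (V8 F)) f' (z (bb x)) = z (aeval (z : Module.End F (V8 F)) f' (bb x)) := h2.symm
  rw [h3, kf'_bb D hx, map_zero]

/-- **the blocks** -/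
theorem hz_of {β : Fin 4 × Bool → ℕ} (h1 : ∀ b : Bool, ∀ x ∈ PP k b, ∀ y ∈ PP k b, β y = β x) (x : Fin 4 × Bool) :
    z (bb x) ∈ SZ {y | β y = β x} := by
  by_cases hx : k ≤ (x.1 : ℕ)
  · rw [z_bb D hx]
    exact Submodule.smul_mem _ _ (bb_mem_SZ (show β x = β x from rfl))
  · rcases hb : x.2 with _ | _
    · have hx' : x ∈ PP k false := ⟨hb, not_le.1 hx⟩
      exact SZ_mono (h1 false x hx') (z_P' D hx')
    · have hx' : x ∈ PP k true := ⟨hb, not_le.1 hx⟩
      exact SZ_mono (h1 true x hx') (z_P D (bb_mem_SZ hx'))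

/-- **irreducibility** -/
theorem hirr_of {ZJ : Set (Fin 4 × Bool)} (h : ∀ x, x ∈ ZJ ↔ x ∈ PP k true) (D' : Submodule F (V8 F)) (h1 : D' ≤ SZ ZJ)
    (h2 : ∀ v ∈ D', z v ∈ D') : D' = ⊥ ∨ D' = SZ ZJ := by
  by_cases h3 : D' = ⊥
  · exact Or.inl h3
  refine Or.inr (le_antisymm h1 fun v hv => ?_)
  have h4 := D.irr D' (fun v hv => ⟨fun i => h1 hv (i, false) fun h' => Bool.false_ne_true ((h _).1 h').1,
    fun i hi => h1 hv (i, true) fun h' => absurd ((h _).1 h').2 (not_lt.2 hi)⟩) h2 h3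
  refine map_SZ (g := LinearMap.id) (fun x hx => ?_) hv
  obtain ⟨i, b⟩ := x
  obtain ⟨h5, h6⟩ := (h _).1 hx
  change b = true at h5
  subst h5
  rw [LinearMap.id_apply, bb_eq]
  exact h4 i h6

end dat

section comm

variable {F : Type*} [Field F] {s : Fin 4 → F} {z u : V8 F ≃ₗ[F] V8 F} {f f' : F[X]}

theorem hz_four (D : Dat 4 s z f f') (x : Fin 4 × Bool) : z (bb x) ∈ SZ {y | r1 y = r1 x} := by
  refine hz_of D ?_ x
  rintro b x ⟨hx, -⟩ y ⟨hy, -⟩
  unfold r1
  rw [hx, hy]

theorem hc_four (D : Dat 4 s z f f') (hu : u ∈ UF r1) (hzu : z * u = u * z) : u = 1 := by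
  refine eq_one_of_blocks (β := r1) (fun _ _ h => h) hu fun x => block_of_comm hzu (hz_four D)
    (g := fun n => if n = 0 then f else f') (fun x => ?_) (fun x y h => ?_) x
  · rcases hb : x.2 with _ | _
    · rw [if_neg (by unfold r1; rw [hb]; decide)]
      exact kf'_bb D ⟨hb, x.1.2⟩
    · rw [if_pos (by unfold r1; rw [hb]; decide)]
      exact kf_bb D ⟨hb, x.1.2⟩
  · by_cases h1 : r1 x = 0
    · rw [if_pos h1, if_neg fun h2 => h (h1.trans h2.symm)]
      exact D.cop
    · rw [if_neg h1]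
      have h2 : r1 y = 0 := by
        by_contra h2
        apply h
        revert h1 h2
        unfold r1
        split_ifs <;> simp
      rw [if_pos h2]
      exact D.cop.symm

theorem hirr_four (D : Dat 4 s z f f') (D' : Submodule F (V8 F)) (h1 : D' ≤ SZ (DI 3)) (h2 : ∀ v ∈ D', z v ∈ D') :
    D' = ⊥ ∨ D' = SZ (DI 3) :=
  hirr_of D (fun x => ⟨fun h => ⟨h, x.1.2⟩, fun h => h.1⟩) D' h1 h2

theorem hz_three (D : Dat 3 s z f f') (x : Fin 4 × Bool) : z (bb x) ∈ SZ {y | b3 y = b3 x} := by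
  refine hz_of D ?_ x
  have key : ∀ (b : Bool) (x y : Fin 4 × Bool), (x.2 = b ∧ (x.1 : ℕ) < 3) → (y.2 = b ∧ (y.1 : ℕ) < 3) → b3 y = b3 x := by
    decide +kernel
  exact fun b x hx y hy => key b x y hx hy

theorem hc_three (D : Dat 3 s z f f') (h3 : s 3 = 1) (hu : u ∈ UF r3) (hzu : z * u = u * z) : u = 1 := by
  refine eq_one_of_blocks (β := r3) (fun _ _ h => h) hu fun x => block_of_comm hzu (fun x => ?_)
    (g := fun n => if n = 0 then f else if n = 1 then X - C 1 else f') (fun x => ?_) (fun x y h => ?_) x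
  · refine SZ_mono ?_ (hz_three D x)
    have key : ∀ x y : Fin 4 × Bool, b3 y = b3 x → r3 y = r3 x := by decide
    exact fun y hy => key x y hy
  · have key : ∀ x : Fin 4 × Bool, (r3 x = 0 ∧ (x.2 = true ∧ (x.1 : ℕ) < 3)) ∨ (r3 x = 1 ∧ x.1 = 3) ∨
        (r3 x = 2 ∧ (x.2 = false ∧ (x.1 : ℕ) < 3)) := by decide
    rcases key x with ⟨h1, h2⟩ | ⟨h1, h2⟩ | ⟨h1, h2⟩
    · rw [h1, if_pos rfl]
      exact kf_bb D h2
    · rw [h1, if_neg one_ne_zero, if_pos rfl, aeval_eig (z_bb D (show 3 ≤ (x.1 : ℕ) by rw [h2]; exact le_rfl))]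
      have h4 : evx s x = 1 := by
        unfold evx
        rw [h2, h3]
        cases x.2
        · exact inv_one
        · rfl
      rw [h4, eval_sub, eval_X, eval_C, sub_self, zero_smul]
    · rw [h1, if_neg two_ne_zero, if_neg (by decide)]
      exact kf'_bb D h2
  · have key : ∀ x : Fin 4 × Bool, r3 x = 0 ∨ r3 x = 1 ∨ r3 x = 2 := by decide
    rcases key x with h1 | h1 | h1 <;> rcases key y with h2 | h2 | h2 <;> rw [h1, h2] at h ⊢ <;>
      first | exact absurd rfl h | skip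
    · exact coprime_lin (D.ev 1)
    · exact D.cop
    · exact (coprime_lin (D.ev 1)).symm
    · exact (coprime_lin (D.ev' 1)).symm
    · exact D.cop.symm
    · exact coprime_lin (D.ev' 1)

theorem hz_two (D : Dat 2 s z f f') (x : Fin 4 × Bool) : z (bb x) ∈ SZ {y | b4 y = b4 x} := by
  refine hz_of D ?_ x
  have key : ∀ (b : Bool) (x y : Fin 4 × Bool), (x.2 = b ∧ (x.1 : ℕ) < 2) → (y.2 = b ∧ (y.1 : ℕ) < 2) → b4 y = b4 x := by
    decide +kernel
  exact fun b x hx y hy => key b x y hx hy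

/-- the coarse blocks for `{0}` -/
def c4 (x : Fin 4 × Bool) : ℕ := if x.1 = 3 then 2 else if x.1 = 2 then 1 else if x.2 then 0 else 3

theorem hc_two (D : Dat 2 s z f f') (h2 : s 2 = 1) (h3 : s 3 ≠ 1) (huO : u ∈ O (Q8 F)) (hu : u ∈ UF r4)
    (hzu : z * u = u * z) : u = 1 := by
  have hs3' : (s 3)⁻¹ ≠ 1 := fun h => h3 (inv_eq_one.1 h)
  have hcb : ∀ x, u (bb x) ∈ SZ {y | c4 y = c4 x} := by
    refine block_of_comm hzu (fun x => ?_)
      (g := fun n => if n = 0 then f else if n = 1 then X - C 1 else if n = 2 then (X - C (s 3)) * (X - C (s 3)⁻¹)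
        else f') (fun x => ?_) (fun x y h => ?_)
    · refine SZ_mono ?_ (hz_two D x)
      have key : ∀ x y : Fin 4 × Bool, b4 y = b4 x → c4 y = c4 x := by decide
      exact fun y hy => key x y hy
    · have key : ∀ x : Fin 4 × Bool, (c4 x = 0 ∧ (x.2 = true ∧ (x.1 : ℕ) < 2)) ∨ (c4 x = 1 ∧ x.1 = 2) ∨
        (c4 x = 2 ∧ x.1 = 3) ∨ (c4 x = 3 ∧ (x.2 = false ∧ (x.1 : ℕ) < 2)) := by decide
      rcases key x with ⟨h1, h4⟩ | ⟨h1, h4⟩ | ⟨h1, h4⟩ | ⟨h1, h4⟩
      · rw [h1, if_pos rfl]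
        exact kf_bb D h4
      · rw [h1, if_neg one_ne_zero, if_pos rfl, aeval_eig (z_bb D (show 2 ≤ (x.1 : ℕ) by rw [h4]; exact le_rfl))]
        have h5 : evx s x = 1 := by
          unfold evx
          rw [h4, h2]
          cases x.2
          · exact inv_one
          · rfl
        rw [h5, eval_sub, eval_X, eval_C, sub_self, zero_smul]
      · rw [h1, if_neg two_ne_zero, if_neg (by decide), if_pos rfl,
          aeval_eig (z_bb D (show 2 ≤ (x.1 : ℕ) by rw [h4]; decide))]
        have h5 : evx s x = s 3 ∨ evx s x = (s 3)⁻¹ := by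
          unfold evx
          rw [h4]
          cases x.2
          · exact Or.inr rfl
          · exact Or.inl rfl
        rw [eval_mul, eval_sub, eval_sub, eval_X, eval_C, eval_C]
        rcases h5 with h5 | h5
        · rw [h5, sub_self, zero_mul, zero_smul]
        · rw [h5, sub_self, mul_zero, zero_smul]
      · rw [h1, if_neg three_ne_zero, if_neg (by decide), if_neg (by decide)]
        exact kf'_bb D h4
    · have e1 : IsCoprime (X - C 1 : F[X]) ((X - C (s 3)) * (X - C (s 3)⁻¹)) := by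
        refine IsCoprime.mul_right (coprime_lin ?_) (coprime_lin ?_)
        · rw [eval_sub, eval_X, eval_C]
          exact sub_ne_zero.2 h3
        · rw [eval_sub, eval_X, eval_C]
          exact sub_ne_zero.2 hs3'
      have e2 : IsCoprime f ((X - C (s 3)) * (X - C (s 3)⁻¹)) :=
        IsCoprime.mul_right (coprime_lin (D.ev _)) (coprime_lin (D.ev _))
      have e3 : IsCoprime f' ((X - C (s 3)) * (X - C (s 3)⁻¹)) :=
        IsCoprime.mul_right (coprime_lin (D.ev' _)) (coprime_lin (D.ev' _))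
      have key : ∀ x : Fin 4 × Bool, c4 x = 0 ∨ c4 x = 1 ∨ c4 x = 2 ∨ c4 x = 3 := by decide
      rcases key x with h1 | h1 | h1 | h1 <;> rcases key y with h4 | h4 | h4 | h4 <;> rw [h1, h4] at h ⊢ <;>
        first | exact absurd rfl h | skip
      · exact coprime_lin (D.ev 1)
      · exact e2
      · exact D.cop
      · exact (coprime_lin (D.ev 1)).symm
      · exact e1
      · exact (coprime_lin (D.ev' 1)).symm
      · exact e2.symm
      · exact e1.symm
      · exact e3.symm
      · exact D.cop.symm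
      · exact coprime_lin (D.ev' 1)
      · exact e3
  -- outside `f2` the element is trivial
  have h1 : ∀ x : Fin 4 × Bool, x ≠ (2, false) → u (bb x) = bb x := by
    intro x hx
    rw [← sub_eq_zero]
    apply co_ext
    intro y
    rw [map_zero]
    have key : ∀ x y : Fin 4 × Bool, x ≠ (2, false) → c4 y = c4 x → ¬ r4 y < r4 x := by decide
    by_cases hy : c4 y = c4 x
    · exact UF_bb hu x y (key x y hx hy)
    · have h4 : u (bb x) - bb x ∈ SZ {y | c4 y = c4 x} :=
        Submodule.sub_mem _ (hcb x) (bb_mem_SZ (show c4 x = c4 x from rfl))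
      exact h4 y hy
  have h4 : u (bb (2, false)) = bb (2, false) + co (2, true) (u (bb (2, false))) • bb (2, true) := by
    rw [← sub_eq_iff_eq_add']
    apply co_ext
    intro y
    rw [map_smul, co_bb]
    by_cases hy1 : y = (2, true)
    · subst hy1
      rw [if_pos rfl, map_sub, co_bb, if_neg (by decide), sub_zero, smul_eq_mul, mul_one]
    · rw [if_neg hy1, smul_zero]
      have key : ∀ y : Fin 4 × Bool, y ≠ (2, true) → c4 y = c4 (2, false) → ¬ r4 y < r4 (2, false) := by decide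
      by_cases hy : c4 y = c4 (2, false)
      · exact UF_bb hu (2, false) y (key y hy1 hy)
      · have h4 : u (bb (2, false)) - bb (2, false) ∈ SZ {y | c4 y = c4 (2, false)} :=
          Submodule.sub_mem _ (hcb _) (bb_mem_SZ (show c4 (2, false) = c4 (2, false) from rfl))
        exact h4 y hy
  have h5 : co (2, true) (u (bb (2, false))) = 0 := by
    have h6 := huO (bb (2, false))
    rw [h4, Q8_apply, Q8_apply, Fin.sum_univ_four, Fin.sum_univ_four] at h6
    simp only [map_add, map_smul, co_bb, smul_eq_mul, Prod.mk.injEq] at h6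
    simpa only [_root_.Fin.isValue, _root_.Cfsg.Agent.TitsThree.WBridge.toFrame_b_false, _root_.Nat.reduceAdd, _root_.Fin.reduceEq, _root_.Bool.true_eq_false, _root_.and_self, ↓ _root_.reduceIte, _root_.and_true, _root_.MulZeroClass.mul_zero, _root_.add_zero, _root_.Bool.false_eq_true, _root_.and_false, _root_.mul_one, _root_.zero_add] using h6
  rw [h5, zero_smul, add_zero] at h4
  apply ext_bb
  intro x
  by_cases hx : x = (2, false)
  · subst hx; exact h4
  · exact h1 x hx

end comm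

section ell

variable {F : Type*} [Field F] [Finite F] {S : Type*} [Group S] {π : E (Q8 F) →* S}
  {W : Type*} [Group W] {cs : CoxeterSystem (TypeD.M 2) W}
  (hk : ∀ z : E (Q8 F), z ∈ π.ker → ∃ a : F, ∀ v, (z : V8 F ≃ₗ[F] V8 F) v = a • v)
  (hπ : Function.Surjective π) {p : ℕ} [Fact p.Prime] [CharP F p] {z : E (Q8 F)} {s : Fin 4 → F} {f f' : F[X]}

include hk hπ p

/-- **`{0, 1, 2}`** -/
theorem ell_four (D : Dat 4 s (z : V8 F ≃ₗ[F] V8 F) f f') : Ell cs (isCartan 2) (TSS π) (XS π) {0, 1, 2} (π z) := by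
  refine ell_of (p := p) dt1 hk hπ (hz_four D) ?_ ⟨(0, true), rfl⟩ (fun u hu hzu => hc_four D hu hzu) (ZJ := DI 3) ?_ ?_
    (fun D' h1 h2 => hirr_four D D' h1 h2)
  · intro i hi x hx y hy
    have key : ∀ x y : Fin 4 × Bool, DB 3 x = true → r1 y = r1 x → DB 3 y = true := by decide
    have h3 : i = 3 := by
      revert hi
      (revert i; simp only [_root_.Fin.forall_fin_succ, Fin.isValue, _root_.Set.mem_insert_iff, _root_.Set.mem_singleton_iff, _root_.not_or, _root_.and_imp, _root_.not_true_eq_false, _root_.zero_ne_one, _root_.not_false_eq_true, Fin.reduceEq, _root_.imp_false, _root_.imp_self, _root_.implies_true, _root_.Fin.succ_ne_zero, _root_.forall_const, _root_.Fin.succ_zero_eq_one, _root_.Fin.succ_one_eq_two, Fin.reduceSucc, _root_.IsEmpty.forall_iff, _root_.and_self])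
    subst h3
    exact key x y hx hy
  · intro x
    refine ⟨fun h j hj => ?_, fun h => h 3 (by simp)⟩
    have h3 : j = 3 := by
      revert hj
      (revert j; simp only [_root_.Fin.forall_fin_succ, Fin.isValue, _root_.Set.mem_insert_iff, _root_.Set.mem_singleton_iff, _root_.not_or, _root_.and_imp, _root_.not_true_eq_false, _root_.zero_ne_one, _root_.not_false_eq_true, Fin.reduceEq, _root_.imp_false, _root_.imp_self, _root_.Fin.succ_ne_zero, _root_.forall_const, _root_.Fin.succ_zero_eq_one, _root_.Fin.succ_one_eq_two, Fin.reduceSucc, _root_.IsEmpty.forall_iff, _root_.and_self])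
    subst h3
    exact h
  · intro i hi
    have key : ∀ i : Fin 4, i ≠ 3 → (∃ x, DB 3 x = true ∧ DB i x = true) ∧ ∃ y, DB 3 y = true ∧ ¬ DB i y = true := by
      decide
    exact key i (by rintro rfl; simp at hi)

/-- **`{0, 1}`** -/
theorem ell_three (D : Dat 3 s (z : V8 F ≃ₗ[F] V8 F) f f') (h3 : s 3 = 1) :
    Ell cs (isCartan 2) (TSS π) (XS π) {0, 1} (π z) := by
  have key1 : ∀ i : Fin 4, i ∉ ({0, 1} : Set (Fin 4)) → i = 2 ∨ i = 3 := by
    intro i
    (revert i; simp only [_root_.Fin.forall_fin_succ, Fin.isValue, _root_.Set.mem_insert_iff, _root_.Set.mem_singleton_iff, _root_.not_or, _root_.and_imp, _root_.not_true_eq_false, _root_.zero_ne_one, _root_.not_false_eq_true, Fin.reduceEq, _root_.or_self, _root_.imp_false, _root_.imp_self, _root_.Fin.succ_ne_zero, _root_.forall_const, _root_.Fin.succ_zero_eq_one, _root_.Fin.succ_one_eq_two, _root_.or_false, Fin.reduceSucc, _root_.or_true, _root_.IsEmpty.forall_iff, _root_.and_self])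
  refine ell_of (p := p) dt3 hk hπ (hz_three D) ?_ ⟨(0, true), rfl⟩ (fun u hu hzu => hc_three D h3 hu hzu)
    (ZJ := PP 3 true) ?_ ?_ (fun D' h1 h2 => hirr_of D (fun _ => Iff.rfl) D' h1 h2)
  · intro i hi x hx y hy
    have key : ∀ (i : Fin 4) (x y : Fin 4 × Bool), (i = 2 ∨ i = 3) → DB i x = true → b3 y = b3 x → DB i y = true := by
      decide +kernel
    exact key i x y (key1 i hi) hx hy
  · intro x
    have key : ∀ x : Fin 4 × Bool, (x.2 = true ∧ (x.1 : ℕ) < 3) ↔ (DB 2 x = true ∧ DB 3 x = true) := by decide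
    constructor
    · intro h j hj
      have h4 := (key x).1 h
      rcases key1 j hj with rfl | rfl
      · exact h4.1
      · exact h4.2
    · intro h
      exact (key x).2 ⟨h 2 (by simp), h 3 (by simp)⟩
  · intro i hi
    have key : ∀ i : Fin 4, i = 0 ∨ i = 1 → (∃ x : Fin 4 × Bool, (x.2 = true ∧ (x.1 : ℕ) < 3) ∧ DB i x = true) ∧
        ∃ y : Fin 4 × Bool, (y.2 = true ∧ (y.1 : ℕ) < 3) ∧ ¬ DB i y = true := by
      decide
    exact key i hi

/-- **`{0}`** -/
theorem ell_two (D : Dat 2 s (z : V8 F ≃ₗ[F] V8 F) f f') (h2 : s 2 = 1) (h3 : s 3 ≠ 1) :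
    Ell cs (isCartan 2) (TSS π) (XS π) {0} (π z) := by
  have key1 : ∀ i : Fin 4, i ∉ ({0} : Set (Fin 4)) → i = 1 ∨ i = 2 ∨ i = 3 := by
    intro i
    (revert i; simp only [_root_.Fin.forall_fin_succ, Fin.isValue, _root_.Set.mem_singleton_iff, _root_.not_true_eq_false, _root_.zero_ne_one, Fin.reduceEq, _root_.or_self, _root_.imp_self, _root_.Fin.succ_ne_zero, _root_.not_false_eq_true, _root_.forall_const, _root_.Fin.succ_zero_eq_one, _root_.or_false, _root_.Fin.succ_one_eq_two, _root_.or_true, Fin.reduceSucc, _root_.IsEmpty.forall_iff, _root_.and_self])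
  refine ell_of (p := p) dt4 hk hπ (hz_two D) ?_ ⟨(0, true), rfl⟩
    (fun u hu hzu => hc_two D h2 h3 (E_le_O u.2) hu hzu)
    (ZJ := PP 2 true) ?_ ?_ (fun D' h1 h2 => hirr_of D (fun _ => Iff.rfl) D' h1 h2)
  · intro i hi x hx y hy
    have key : ∀ (i : Fin 4) (x y : Fin 4 × Bool), (i = 1 ∨ i = 2 ∨ i = 3) → DB i x = true → b4 y = b4 x →
        DB i y = true := by
      decide +kernel
    exact key i x y (key1 i hi) hx hy
  · intro x
    have key : ∀ x : Fin 4 × Bool, (x.2 = true ∧ (x.1 : ℕ) < 2) ↔ (DB 1 x = true ∧ DB 2 x = true ∧ DB 3 x = true) := by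
      decide
    constructor
    · intro h j hj
      have h4 := (key x).1 h
      rcases key1 j hj with rfl | rfl | rfl
      · exact h4.1
      · exact h4.2.1
      · exact h4.2.2
    · intro h
      exact (key x).2 ⟨h 1 (by simp), h 2 (by simp), h 3 (by simp)⟩
  · intro i hi
    have key : (∃ x : Fin 4 × Bool, (x.2 = true ∧ (x.1 : ℕ) < 2) ∧ DB 0 x = true) ∧
        ∃ y : Fin 4 × Bool, (y.2 = true ∧ (y.1 : ℕ) < 2) ∧ ¬ DB 0 y = true := by
      decide
    have h4 : i = 0 := hi
    subst h4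
    exact key

end ell

end Cfsg.Agent.H224.OZ.EllDat
end

-- part: H128/OZ/EightEA
section
/-!
# S4842, row `POmega⁺₈ (q)`, `q ≥ 3`: the elliptic elements, `V^B ≠ 0` from the dictionary (helper128)
-/

set_option autoImplicit false

namespace Cfsg.Agent.H128.OZ.Asm

open Cfsg Module Polynomial
open Cfsg.Agent.Characters
open Cfsg.Agent.ChevalleyStructure.CoxeterGeom Cfsg.Agent.Tits.Roots
open Cfsg.Agent.Nodes.Comb Cfsg.Agent.Nodes.Reps Cfsg.Agent.Nodes.BNOf
open Cfsg.Agent.Nodes.RGDLib Cfsg.Agent.Nodes.WittAll Cfsg.Agent.Nodes.WittU Cfsg.Agent.Nodes.RGDChev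
open Cfsg.Agent.LieClassical Cfsg.Agent.LieClassical.OrthCore Cfsg.Agent.LieClassical.OrthTrans
open Cfsg.Agent.LieClassical.OrthSimple Cfsg.Agent.LieClassical.OrthFinite Cfsg.Agent.LieClassical.OrthForms
open Cfsg.Agent.TitsThree.KSideO
open Cfsg.Agent.Nodes.TypeD Cfsg.Agent.Nodes.WittInst Cfsg.Agent.Nodes Cfsg.Agent.Nodes.Bruhat Cfsg.Agent.Nodes.StabComb
open Cfsg.Agent.Nodes.LeviDec Cfsg.Agent.H985.VZ Cfsg.Agent.H730.OZ Cfsg.Agent.H530.OZ
open Cfsg.Agent.H158.OZ Cfsg.Agent.H292.OZ Cfsg.Agent.H224.OZ.Q3 Cfsg.Agent.H224.OZ.EllDat Cfsg.Agent.H631.VZ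

theorem ea (F : Type) [Field F] [Fintype F] : EA F := by
  obtain ⟨p, hch⟩ := CharP.exists F
  obtain ⟨⟨f, hf⟩, hp, hcard⟩ := FiniteField.card F p
  have hpf : Fact p.Prime := ⟨hp⟩
  exact ⟨fun D => ell_four (p := p) (pi4_ker F) (pi4_surj F) D,
    fun D => ell_three (p := p) (pi4_ker F) (pi4_surj F) D rfl,
    fun _ hc1 D => ell_two (p := p) (pi4_ker F) (pi4_surj F) D rfl hc1⟩

end Cfsg.Agent.H128.OZ.Asm
end

private theorem dce_a049620cae46 : _root_.True := by
  try have : _root_.True := by simp only [_root_.Cfsg.Agent.H224.OZ.Q3.fv.eq_1]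
  try have : _root_.True := by simp only [_root_.Cfsg.Agent.H224.OZ.Q3.ev.eq_1]
  try have : _root_.True := by simp only [_root_.Cfsg.Agent.H224.OZ.Q3.wEl.eq_1]
  try have : _root_.True := by simp only [_root_.Cfsg.Agent.TitsThree.KSideO.toPOmega.congr_simp]
  exact _root_.True.intro
end

-- part: H30/OZ/He_mg
section
prune_inst 0x23560317502c0120000042597d1203eb7cf0005b00d2b8001dba60e400e87fb234082af60ec803c075b2aa2a100010028020000d900400000040006000000012080f956463374ad0cd5001f007986010000000000000000000000000000041004004010000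
set_option linter.all false
open scoped Cfsg.Agent.FastGrp

-- part: H30/OZ/Tools
section
/-!
# One vanishing class: tools for the rows He and Tits (helper30, S4842)

* `ExF f χ S t` : an excess of at least `t` from elements `g` with `f g ∈ S` (`f` a class function); disjoint unions;
* `mod_of_iso` : an isolated prime `p` with automizer of order less than `p - 1`: `χ 1 ≡ ± 1 mod p`;
* `dvd_of_not` : `d ∣ p ^ (k + 1) * m`, `p ^ (k + 1) ∤ d`.
-/

set_option autoImplicit false
set_option linter.unusedSectionVars false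

namespace Cfsg.Agent.H30.OZ

open Cfsg Cfsg.Agent.Characters Finset
open Cfsg.Agent.H732.VZ Cfsg.Agent.H695.OneZero

universe u

theorem dvd_of_not {p : ℕ} (hp : p.Prime) {k m d : ℕ} (h : d ∣ p ^ (k + 1) * m)
    (hd : ¬ p ^ (k + 1) ∣ d) : d ∣ p ^ k * m := by
  obtain ⟨a, b, ha, hb, rfl⟩ := (Nat.dvd_mul).1 h
  obtain ⟨i, hi, rfl⟩ := (Nat.dvd_prime_pow hp).1 ha
  refine Nat.mul_dvd_mul (pow_dvd_pow p ?_) hb
  rcases Nat.lt_succ_iff_lt_or_eq.1 (Nat.lt_succ_of_le hi) with h1 | h1
  · omega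
  · exact absurd (Dvd.intro b (by rw [h1])) hd

section

variable {G : Type u} [Group G] [Finite G] {χ : IrrCharacter G} {x : G}

open Cfsg.Agent.H504.Zeros Cfsg.Agent.H504.ZeroTI Cfsg.Agent.SmallSimple.SelfCentSum in
theorem mod_of_iso [IsSimpleGroup G] {p : ℕ} (hp : p.Prime) (h7 : 7 ≤ p) (hsq : ¬ p ^ 2 ∣ Nat.card G)
    (hG : Nat.card G ≠ p) {z : G} (hz : orderOf z = p) (hC : Nat.card (Subgroup.centralizer ({z} : Set G)) = p) {n : ℕ}
    (hn : Nat.card G = p * n) (hw : n % p ≠ p - 1) (h : _root_.Cfsg.Agent.H732.VZ.One χ x) (h4 : 4 ≤ Cfsg.Agent.H604.OZ.cent x) :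
    charDegree (χ : G → ℂ) % p = 1 ∨ charDegree (χ : G → ℂ) % p = p - 1 := by
  rcases H849.OZ.iso hp h7 hsq hG hz hC h h4 with h1 | h1 | ⟨-, -, -, h1⟩
  · exact Or.inl h1
  · exact Or.inr h1
  exfalso
  have hfact : Fact p.Prime := ⟨hp⟩
  have hA : CC (Subgroup.zpowers z) := cc_of_prime hp hz hC
  have cA : Nat.card (Subgroup.zpowers z) = p := by rw [Nat.card_zpowers, hz]
  have he : eIdx (Subgroup.zpowers z) = n % p := by
    rw [eIdx_eq_mod hA (by rw [cA]; exact hp.one_lt) (n := n) (by rw [hn, cA]), cA]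
  obtain ⟨m, hm⟩ := hA.dvd
  rw [cA] at hm
  obtain ⟨s, hs, hs2, hsA⟩ := exists_reps (m := m) hA (by rw [cA]; have := hp.one_lt; omega)
  have hord : ∀ a ∈ Subgroup.zpowers z, a ≠ 1 → orderOf a = p := by
    intro a ha ha1
    have h1 : orderOf a ∣ p := by
      have := orderOf_dvd_natCard (⟨a, ha⟩ : Subgroup.zpowers z)
      rwa [← Subgroup.orderOf_coe, cA] at this
    rcases (Nat.dvd_prime hp).1 h1 with h | h
    · exact absurd (orderOf_eq_one_iff.1 h) ha1
    · exact h
  have hm1 : m ≤ 1 := by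
    rw [← hs2]
    refine Finset.card_le_one.2 fun a ha b hb => hs a ha b hb ?_
    exact (h1 a (hord a (hsA a ha).1 (hsA a ha).2)).symm.trans (h1 b (hord b (hsA b hb).1 (hsA b hb).2))
  have hm2 : m = 1 := by
    rcases Nat.lt_or_ge 0 m with h2 | h2
    · omega
    · have h3 : m = 0 := by omega
      rw [h3, mul_zero] at hm
      have := hp.one_lt
      omega
  rw [hm2, mul_one, he] at hm
  exact hw hm.symm

end

variable {G : Type u} [Group G] [Fintype G] {χ : IrrCharacter G} {x : G} {ι : Type*}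

/-- an excess of at least `t` from elements `g` with `f g ∈ S` -/
def ExF (f : G → ι) (χ : IrrCharacter G) (S : Set ι) (t : ℝ) : Prop :=
  ∃ Y : Finset G, Ex χ Y t ∧ ∀ g ∈ Y, f g ∈ S

theorem ExF.union {f : G → ι} {S S' : Set ι} {t t' : ℝ} (h : ExF f χ S t) (h' : ExF f χ S' t') (hd : Disjoint S S') :
    ExF f χ (S ∪ S') (t + t') := by
  classical
  obtain ⟨Y, hY, hS⟩ := h
  obtain ⟨Y', hY', hS'⟩ := h'
  refine ⟨Y ∪ Y', hY.union hY' ?_, fun g hg => ?_⟩
  · rw [Finset.disjoint_left]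
    intro g hg hg'
    exact Set.disjoint_left.1 hd (hS g hg) (hS' g hg')
  · rcases mem_union.1 hg with hg | hg
    · exact Or.inl (hS g hg)
    · exact Or.inr (hS' g hg)

theorem ExF.false {f : G → ι} {S : Set ι} {t : ℝ} (hY : ExF f χ S t) (h : _root_.Cfsg.Agent.H732.VZ.One χ x) {c : ℕ} (hc : c ≤ cent x)
    (ht : 0 ≤ t) (hct : 1 < (c : ℝ) * t) : False := by
  obtain ⟨Y, hY, -⟩ := hY
  exact hY.false h hc ht hct

/-- `ex_rat` -/
theorem exF_rat {f : G → ι} (hf : ∀ g g', IsConj g g' → f g = f g') {y : G}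
    (hy : ∀ k : ℕ, k.Coprime (orderOf y) → IsConj y (y ^ k)) (h0 : ¬ IsConj x y) (h : _root_.Cfsg.Agent.H732.VZ.One χ x)
    {n : ℕ} (hn : 0 < n) (hint : IsIntegral ℤ ((χ : G → ℂ) y / n)) {B : ℕ} (hB : cent y ≤ B) :
    ExF f χ {f y} (((n : ℝ) ^ 2 - 1) / B) := by
  refine ⟨cls y, ex_rat (fun k hk => hy k (Nat.Coprime.coprime_dvd_right (orderOf_dvd_natCard y) hk)) (ne_of_one h h0)
    hn hint hB, fun g hg => ?_⟩
  rw [Set.mem_singleton_iff]
  exact (hf _ _ (mem_cls.1 hg)).symm

/-- `ex_two` -/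
theorem exF_two {f : G → ι} (hf : ∀ g g', IsConj g g' → f g = f g') {y : G} {j : ℕ} (hj : j.Coprime (orderOf y))
    (hjj : IsConj y (y ^ (j * j)))
    (hy : ∀ k : ℕ, k.Coprime (orderOf y) → IsConj y (y ^ k) ∨ IsConj (y ^ j) (y ^ k))
    (h : _root_.Cfsg.Agent.H732.VZ.One χ x) (h0 : ¬ IsConj x y) (h0' : ¬ IsConj x (y ^ j))
    {r : ℕ} (hr : r.Prime) {k : ℕ} (hyr : y ^ r ^ k = 1) (hd : r ∣ charDegree (χ : G → ℂ)) {B : ℕ} (hB : cent y ≤ B) :
    ExF f χ {f y, f (y ^ j)} (2 * ((r : ℝ) - 1) / B) := by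
  classical
  refine ⟨cls y ∪ cls (y ^ j), ex_two hj hjj hy (ne_of_one h h0) (ne_of_one h h0') hr hyr hd hB, fun g hg => ?_⟩
  rw [Set.mem_insert_iff, Set.mem_singleton_iff]
  rcases mem_union.1 hg with hg | hg
  · exact Or.inl (hf _ _ (mem_cls.1 hg)).symm
  · exact Or.inr (hf _ _ (mem_cls.1 hg)).symm

/-- rational `r`-elements, `r ∣ χ 1` -/
theorem exF_elt {f : G → ι} (hf : ∀ g g', IsConj g g' → f g = f g') {y : G}
    (hy : ∀ k : ℕ, k.Coprime (orderOf y) → IsConj y (y ^ k)) (h0 : ¬ IsConj x y) (h : _root_.Cfsg.Agent.H732.VZ.One χ x)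
    {r : ℕ} (hr : r.Prime) {k : ℕ} (hyr : y ^ r ^ k = 1) (hd : r ∣ charDegree (χ : G → ℂ)) {B : ℕ} (hB : cent y ≤ B) :
    ExF f χ {f y} (((r : ℝ) ^ 2 - 1) / B) :=
  exF_rat hf hy h0 h hr.pos (isIntegral_div_of_elt (fun k hk => hy k (Nat.Coprime.coprime_dvd_right
    (orderOf_dvd_natCard y) hk)) hr hyr hd) hB

/-- conjugate elements have centralizers of the same order -/
theorem cent_congr {G : Type u} [Group G] {a b : G} (h : IsConj a b) : cent a = cent b := by
  obtain ⟨c, rfl⟩ := isConj_iff.1 h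
  have h2 : Subgroup.centralizer ({c * a * c⁻¹} : Set G) =
      (Subgroup.centralizer ({a} : Set G)).map (MulAut.conj c).toMonoidHom := by
    ext g
    rw [Subgroup.mem_centralizer_singleton_iff, Subgroup.mem_map]
    constructor
    · intro h
      refine ⟨c⁻¹ * g * c, ?_, by simp [mul_assoc]⟩
      rw [Subgroup.mem_centralizer_singleton_iff]
      calc c⁻¹ * g * c * a = c⁻¹ * (g * (c * a * c⁻¹)) * c := by group
        _ = c⁻¹ * ((c * a * c⁻¹) * g) * c := by rw [h]
        _ = a * (c⁻¹ * g * c) := by group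
    · rintro ⟨g', hg', rfl⟩
      rw [Subgroup.mem_centralizer_singleton_iff] at hg'
      simp only [MulEquiv.coe_toMonoidHom, MulAut.conj_apply]
      calc c * g' * c⁻¹ * (c * a * c⁻¹) = c * (g' * a) * c⁻¹ := by group
        _ = c * (a * g') * c⁻¹ := by rw [hg']
        _ = c * a * c⁻¹ * (c * g' * c⁻¹) := by group
  unfold cent
  rw [h2, Subgroup.card_map_of_injective (MulEquiv.injective _)]

/-- the centralizer of `y` contains `y` -/
theorem orderOf_dvd_cent {G : Type u} [Group G] (y : G) : orderOf y ∣ cent y := by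
  rw [← Nat.card_zpowers]
  refine Subgroup.card_dvd_of_le ?_
  rw [Subgroup.zpowers_le, Subgroup.mem_centralizer_singleton_iff]

end Cfsg.Agent.H30.OZ
end

-- part: H30/OZ/He
section
/-!
# The row of the Held group for S4842 (helper30)

The degree is `± 1` modulo 17; `2^10`, `27`, `25`, `343` do not divide it; it is at least 42.  The elements 8A
(centralizer of order 16), 4C, 5A, 7D, 7C, 2B have large values if 2, 5 or 7 divides the degree.
-/

set_option autoImplicit false
set_option maxRecDepth 100000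

namespace Cfsg.Agent.H30.OZ.HeRow

open Cfsg Cfsg.Spor.He Cfsg.Agent.SporadicB.HePerm Cfsg.Agent.FixBN.HeStab Cfsg.Agent.KFacts.He.Lv
open Cfsg.Agent.H732.VZ Cfsg.Agent.H30.OZ.HeDat
open Cfsg.Agent.H153.Zeros.He17 (W17 o17 card_cent_eq)
open Cfsg.Agent.H868.Dl.HeCls (W8 order_eight card_eight)
open Cfsg.Agent.H348.PPD.HeCent (U W order_U card_cent_U conj_pow_U dvd_card_W GW)

universe u

noncomputable instance instFintypeHe : Fintype Cfsg.Spor.He := Fintype.ofFinite _

theorem ncard : Nat.card Cfsg.Spor.He = 4030387200 := Cfsg.Agent.KFacts.He.Classes.card_he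

theorem pow_mod' {G : Type*} [Group G] {y : G} {o : ℕ} (ho : orderOf y = o) (k : ℕ) : y ^ k = y ^ (k % o) := by
  rw [← ho, pow_mod_orderOf]

theorem rat5 : ∀ k : ℕ, k.Coprime (orderOf (wd W5)) → IsConj (wd W5) (wd W5 ^ k) := by
  intro k hk
  rw [o5] at hk
  have c2 : IsConj (wd W5) (wd W5 ^ 2) := conj5
  have c4 : IsConj (wd W5) (wd W5 ^ 4) := c2.trans (by have := isConj_pow c2 2; rwa [← pow_mul] at this)
  have c3 : IsConj (wd W5) (wd W5 ^ 3) := c4.trans (by
    have := isConj_pow c2 4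
    rwa [← pow_mul, pow_mod' o5 (2 * 4)] at this)
  rw [pow_mod' o5 k]
  have h1 : k % 5 < 5 := Nat.mod_lt _ (by norm_num)
  have h2 : k % 5 ≠ 0 := fun h => by
    have h3 : 5 ∣ k := Nat.dvd_of_mod_eq_zero h
    have h4 := Nat.dvd_gcd h3 (dvd_refl 5)
    rw [hk] at h4
    norm_num at h4
  generalize k % 5 = m at h1 h2
  interval_cases m
  · exact absurd rfl h2
  · rw [pow_one]
  · exact c2
  · exact c3
  · exact c4

theorem rat8 : ∀ k : ℕ, k.Coprime (orderOf (wd W8)) → IsConj (wd W8) (wd W8 ^ k) := by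
  intro k hk
  rw [order_eight] at hk
  have c3 : IsConj (wd W8) (wd W8 ^ 3) := conj8_3
  have c5 : IsConj (wd W8) (wd W8 ^ 5) := conj8_5
  have c7 : IsConj (wd W8) (wd W8 ^ 7) := c3.trans (by
    have := isConj_pow c5 3
    rwa [← pow_mul, pow_mod' order_eight (5 * 3)] at this)
  rw [pow_mod' order_eight k]
  have h1 : k % 8 < 8 := Nat.mod_lt _ (by norm_num)
  have h2 : ¬ 2 ∣ k := fun h => by
    have h4 := Nat.dvd_gcd h (show 2 ∣ 8 by norm_num)
    rw [hk] at h4
    norm_num at h4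
  have h3 : ¬ 2 ∣ k % 8 := by omega
  generalize k % 8 = m at h1 h3
  interval_cases m
  all_goals first | (exfalso; omega) | skip
  · rw [pow_one]
  · exact c3
  · exact c5
  · exact c7

theorem rat4 : ∀ k : ℕ, k.Coprime (orderOf (wd W4)) → IsConj (wd W4) (wd W4 ^ k) := by
  intro k hk
  rw [o4] at hk
  rw [pow_mod' o4 k]
  have h1 : k % 4 < 4 := Nat.mod_lt _ (by norm_num)
  have h2 : ¬ 2 ∣ k := fun h => by
    have h4 := Nat.dvd_gcd h (show 2 ∣ 4 by norm_num)
    rw [hk] at h4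
    norm_num at h4
  have h3 : ¬ 2 ∣ k % 4 := by omega
  generalize k % 4 = m at h1 h3
  interval_cases m
  all_goals first | (exfalso; omega) | skip
  · rw [pow_one]
  · exact conj4

theorem rat2 : ∀ k : ℕ, k.Coprime (orderOf (wd [.d])) → IsConj (wd [.d]) (wd [.d] ^ k) := by
  intro k hk
  rw [o2] at hk
  rw [pow_mod' o2 k]
  have h2 : ¬ 2 ∣ k := fun h => by
    have h4 := Nat.dvd_gcd h (dvd_refl 2)
    rw [hk] at h4
    norm_num at h4
  rw [show k % 2 = 1 by omega, pow_one]

theorem ratU : ∀ k : ℕ, k.Coprime (orderOf U) → IsConj U (U ^ k) := by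
  intro k hk
  rw [order_U] at hk
  refine conj_pow_U fun h => ?_
  have h4 := Nat.dvd_gcd (Nat.dvd_of_mod_eq_zero h) (dvd_refl 7)
  rw [hk] at h4
  norm_num at h4

theorem quad7 : ∀ k : ℕ, k.Coprime (orderOf (wd W7)) → IsConj (wd W7) (wd W7 ^ k) ∨ IsConj (wd W7 ^ 6) (wd W7 ^ k) := by
  intro k hk
  rw [o7] at hk
  have c2 : IsConj (wd W7) (wd W7 ^ 2) := conj7
  have c4 : IsConj (wd W7) (wd W7 ^ 4) := c2.trans (by have := isConj_pow c2 2; rwa [← pow_mul] at this)
  have c5 : IsConj (wd W7 ^ 6) (wd W7 ^ 5) := by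
    have := isConj_pow c2 6
    rwa [← pow_mul, pow_mod' o7 (2 * 6)] at this
  have c3 : IsConj (wd W7 ^ 6) (wd W7 ^ 3) := by
    have := isConj_pow c4 6
    rwa [← pow_mul, pow_mod' o7 (4 * 6)] at this
  rw [pow_mod' o7 k]
  have h1 : k % 7 < 7 := Nat.mod_lt _ (by norm_num)
  have h2 : k % 7 ≠ 0 := fun h => by
    have h4 := Nat.dvd_gcd (Nat.dvd_of_mod_eq_zero h) (dvd_refl 7)
    rw [hk] at h4
    norm_num at h4
  generalize k % 7 = m at h1 h2
  interval_cases m
  · exact absurd rfl h2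
  · rw [pow_one]; exact Or.inl (IsConj.refl _)
  · exact Or.inl c2
  · exact Or.inr c3
  · exact Or.inl c4
  · exact Or.inr c5
  · exact Or.inr (IsConj.refl _)

/-! ### Degrees -/

/-- the check of a degree -/
def P (d : ℕ) : Bool :=
  !(d % 17 == 1 || d % 17 == 16) || (Nat.blt d 42 || (d % 49 == 0 || ((d % 2 == 0 && d % 5 == 0) ||
    ((d % 2 == 0 && d % 7 == 0) || (d % 256 == 0 || d == 288)))))

theorem list : ∀ a : Fin 10, ∀ b : Fin 3, ∀ c : Fin 2, ∀ e : Fin 3,
    P (2 ^ (a : ℕ) * (3 ^ (b : ℕ) * (5 ^ (c : ℕ) * 7 ^ (e : ℕ)))) = true := by decide +kernel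

theorem P_spec {d : ℕ} (h : P d = true) (h17 : d % 17 = 1 ∨ d % 17 = 16) :
    d < 42 ∨ 49 ∣ d ∨ (2 ∣ d ∧ 5 ∣ d) ∨ (2 ∣ d ∧ 7 ∣ d) ∨ 256 ∣ d ∨ d = 288 := by
  unfold P at h
  simp only [Bool.or_eq_true, Bool.and_eq_true, Bool.not_eq_true', Bool.or_eq_false_iff, beq_iff_eq,
    beq_eq_false_iff_ne, ne_eq, Nat.blt_eq] at h
  omega

theorem cases_of {d : ℕ} (h : d ∣ 4030387200) (h2 : ¬ 2 ^ 10 ∣ d) (h3 : ¬ 3 ^ 3 ∣ d) (h5 : ¬ 5 ^ 2 ∣ d)
    (h7 : ¬ 7 ^ 3 ∣ d) (h17 : d % 17 = 1 ∨ d % 17 = 16) :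
    d < 42 ∨ 49 ∣ d ∨ (2 ∣ d ∧ 5 ∣ d) ∨ (2 ∣ d ∧ 7 ∣ d) ∨ 256 ∣ d ∨ d = 288 := by
  have e1 : d ∣ 2 ^ 9 * (3 ^ 3 * 5 ^ 2 * 7 ^ 3 * 17) := dvd_of_not Nat.prime_two (by
    rwa [show 2 ^ (9 + 1) * (3 ^ 3 * 5 ^ 2 * 7 ^ 3 * 17) = 4030387200 by norm_num]) h2
  have e2 : d ∣ 3 ^ 2 * (2 ^ 9 * 5 ^ 2 * 7 ^ 3 * 17) := dvd_of_not Nat.prime_three (by
    rwa [show 3 ^ (2 + 1) * (2 ^ 9 * 5 ^ 2 * 7 ^ 3 * 17) = 2 ^ 9 * (3 ^ 3 * 5 ^ 2 * 7 ^ 3 * 17) by norm_num]) h3
  have e3 : d ∣ 5 ^ 1 * (2 ^ 9 * 3 ^ 2 * 7 ^ 3 * 17) := dvd_of_not Nat.prime_five (by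
    rwa [show 5 ^ (1 + 1) * (2 ^ 9 * 3 ^ 2 * 7 ^ 3 * 17) = 3 ^ 2 * (2 ^ 9 * 5 ^ 2 * 7 ^ 3 * 17) by norm_num]) h5
  have e4 : d ∣ 7 ^ 2 * (2 ^ 9 * 3 ^ 2 * 5 ^ 1 * 17) := dvd_of_not (by norm_num) (by
    rwa [show 7 ^ (2 + 1) * (2 ^ 9 * 3 ^ 2 * 5 ^ 1 * 17) = 5 ^ 1 * (2 ^ 9 * 3 ^ 2 * 7 ^ 3 * 17) by norm_num]) h7
  have e5 : d ∣ 17 ^ 0 * (2 ^ 9 * (3 ^ 2 * (5 ^ 1 * 7 ^ 2))) := dvd_of_not (by norm_num) (by
    rwa [show 17 ^ (0 + 1) * (2 ^ 9 * (3 ^ 2 * (5 ^ 1 * 7 ^ 2))) = 7 ^ 2 * (2 ^ 9 * 3 ^ 2 * 5 ^ 1 * 17) by norm_num])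
      (by omega)
  rw [pow_zero, one_mul] at e5
  obtain ⟨p1, q1, hp1, hq1, r1⟩ := (Nat.dvd_mul).1 e5
  obtain ⟨a, ha, ra⟩ := (Nat.dvd_prime_pow Nat.prime_two).1 hp1
  obtain ⟨p2, q2, hp2, hq2, r2⟩ := (Nat.dvd_mul).1 hq1
  obtain ⟨b, hb, rb⟩ := (Nat.dvd_prime_pow Nat.prime_three).1 hp2
  obtain ⟨p3, q3, hp3, hq3, r3⟩ := (Nat.dvd_mul).1 hq2
  obtain ⟨c, hc, rc⟩ := (Nat.dvd_prime_pow Nat.prime_five).1 hp3
  obtain ⟨e, he, re⟩ := (Nat.dvd_prime_pow (by norm_num)).1 hq3
  have hl := list ⟨a, by omega⟩ ⟨b, by omega⟩ ⟨c, by omega⟩ ⟨e, by omega⟩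
  have hd : d = 2 ^ a * (3 ^ b * (5 ^ c * 7 ^ e)) := by rw [← r1, ← r2, ← r3, ra, rb, rc, re]
  rw [hd] at h17 ⊢
  exact P_spec hl h17

section

variable {χ : IrrCharacter Cfsg.Spor.He} {x : Cfsg.Spor.He}

theorem hford : ∀ g g' : Cfsg.Spor.He, IsConj g g' → orderOf g = orderOf g' := fun _ _ h =>
  H604.OZ.orderOf_eq_of_conj h

/-- the inverse of 7D -/
theorem ne_seven (h : _root_.Cfsg.Agent.H732.VZ.One χ x) (hn : ¬ IsConj x (wd W7)) : ¬ IsConj x (wd W7 ^ 6) := by
  intro hc
  have h1 := h.conj_pow (m := 13) (by rw [ncard]; decide)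
  have h2 := isConj_pow hc 13
  rw [← pow_mul, pow_mod' o7 (6 * 13)] at h2
  have h3 := h1.trans h2
  rw [show 6 * 13 % 7 = 1 by norm_num, pow_one] at h3
  exact hn h3

theorem ex7 (h : _root_.Cfsg.Agent.H732.VZ.One χ x) (hd : 7 ∣ charDegree (χ : Cfsg.Spor.He → ℂ)) (hn : ¬ IsConj x (wd W7)) :
    ExF orderOf χ {7, 7} (2 * ((7 : ℕ) - 1) / (196 : ℕ)) := by
  have h1 := exF_two (f := orderOf) hford (y := wd W7) (j := 6) (by rw [o7]; decide)
    (by rw [pow_mod' o7 (6 * 6), show 6 * 6 % 7 = 1 by norm_num, pow_one])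
    quad7 h hn (ne_seven h hn) (r := 7) (by norm_num) (k := 1) (by rw [pow_one, ← o7, pow_orderOf_eq_one]) hd cent7
  rwa [orderOf_pow, o7] at h1

theorem ex5 (h : _root_.Cfsg.Agent.H732.VZ.One χ x) (hd : 5 ∣ charDegree (χ : Cfsg.Spor.He → ℂ)) (hn : ¬ IsConj x (wd W5)) :
    ExF orderOf χ {5} (((5 : ℕ) ^ 2 - 1) / (300 : ℕ)) := by
  have h1 := exF_elt (f := orderOf) hford rat5 hn h (r := 5) (by norm_num) (k := 1)
    (by rw [pow_one, ← o5, pow_orderOf_eq_one]) hd cent5
  rwa [o5] at h1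

theorem ex8 (h : _root_.Cfsg.Agent.H732.VZ.One χ x) (hd : 2 ∣ charDegree (χ : Cfsg.Spor.He → ℂ)) (hn : ¬ IsConj x (wd W8)) :
    ExF orderOf χ {8} (((2 : ℕ) ^ 2 - 1) / (16 : ℕ)) := by
  have h1 := exF_elt (f := orderOf) hford rat8 hn h (r := 2) (by norm_num) (k := 3)
    (by rw [show 2 ^ 3 = 8 by norm_num, ← order_eight, pow_orderOf_eq_one]) hd card_eight
  rwa [order_eight] at h1

theorem ex4 (h : _root_.Cfsg.Agent.H732.VZ.One χ x) (hd : 2 ∣ charDegree (χ : Cfsg.Spor.He → ℂ)) (hn : ¬ IsConj x (wd W4)) :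
    ExF orderOf χ {4} (((2 : ℕ) ^ 2 - 1) / (128 : ℕ)) := by
  have h1 := exF_elt (f := orderOf) hford rat4 hn h (r := 2) (by norm_num) (k := 2)
    (by rw [show 2 ^ 2 = 4 by norm_num, ← o4, pow_orderOf_eq_one]) hd cent4
  rwa [o4] at h1

/-- the 2-part of the degree divides the value at a 2-central involution -/
theorem ex2 (h : _root_.Cfsg.Agent.H732.VZ.One χ x) {a : ℕ} (hd : 2 ^ a ∣ charDegree (χ : Cfsg.Spor.He → ℂ)) (hn : ¬ IsConj x (wd [.d])) :
    ExF orderOf χ {2} ((((2 ^ a : ℕ) : ℝ) ^ 2 - 1) / (21504 : ℕ)) := by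
  have hidx : (Subgroup.centralizer ({wd [.d]} : Set Cfsg.Spor.He)).index = 187425 := by
    have h1 := (Subgroup.centralizer ({wd [.d]} : Set Cfsg.Spor.He)).card_mul_index
    rw [centd, ncard] at h1
    omega
  have h1 := exF_rat (f := orderOf) hford rat2 hn h (n := 2 ^ a) (by positivity)
    (isIntegral_div_pow (a := a) (b := 0) Nat.prime_two (by rwa [add_zero]) (by rw [hidx]; decide)) centd.le
  rwa [o2] at h1

theorem centU_dvd : 343 ∣ cent U := by
  have h1 : IsConj W U := isConj_iff.2 ⟨_, GW⟩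
  rw [← cent_congr h1]
  exact dvd_card_W

theorem exU (h : _root_.Cfsg.Agent.H732.VZ.One χ x) (hd : 49 ∣ charDegree (χ : Cfsg.Spor.He → ℂ)) (hn : ¬ IsConj x U) :
    ExF orderOf χ {7} (((49 : ℕ) ^ 2 - 1) / (1715 : ℕ)) := by
  have hidx : ¬ 7 ^ (0 + 1) ∣ (Subgroup.centralizer ({U} : Set Cfsg.Spor.He)).index := by
    intro h1
    have h2 := (Subgroup.centralizer ({U} : Set Cfsg.Spor.He)).card_mul_index
    rw [ncard] at h2
    have h3 := Nat.mul_dvd_mul centU_dvd h1
    rw [show cent U * (Subgroup.centralizer ({U} : Set Cfsg.Spor.He)).index = 4030387200 from h2] at h3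
    revert h3
    decide
  have h1 := exF_rat (f := orderOf) hford ratU hn h (n := 49) (by norm_num)
    (by
      have := isIntegral_div_pow (χ := χ) (y := U) (a := 2) (b := 0) (r := 7) (by norm_num) (by simpa using hd) hidx
      simpa using this) card_cent_U
  rwa [order_U] at h1

end

/-- **No irreducible character of the Held group vanishes at exactly one class.** -/
theorem no_one {χ : IrrCharacter Cfsg.Spor.He} {x : Cfsg.Spor.He} (h : _root_.Cfsg.Agent.H732.VZ.One χ x) : False := by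
  have hs : IsSimpleGroup Cfsg.Spor.He := (SporadicB.HePerm.isHe_of_card_le ncard.le).1
  have h4 : 4 ≤ cent x := H604.OZ.four_le_cent h (by rw [ncard]; decide) (by rw [ncard]; decide)
  have h5 : cent x ≠ 5 := fun h5 => H604.OZ.cent_prime (H604.OZ.ne_one h)
    (show (cent x).Prime by rw [h5]; norm_num) (show cent x ^ 2 ∣ _ by rw [h5, ncard]; decide)
  have h42 := HeMin.le_deg HeMin.minDeg h
  have hmod := mod_of_iso (p := 17) (by norm_num) (by norm_num) (by rw [ncard]; decide) (by rw [ncard]; norm_num)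
    o17 card_cent_eq (n := 237081600) (by rw [ncard]) (by norm_num) h h4
  have hdvd := H604.OZ.deg_dvd χ
  rw [ncard] at hdvd
  have n2 := H604.OZ.not_dvd_deg' h (r := 2) (n := 10) (by norm_num) (by rw [ncard]; decide) (by rw [ncard]; decide)
    (g := wd [.d]) (g' := wd W8) (by rw [o2]) (by rw [order_eight]; decide) (by rw [o2, order_eight]; decide)
  have n3 := H604.OZ.not_dvd_deg' h (r := 3) (n := 3) (by norm_num) (by rw [ncard]; decide) (by rw [ncard]; decide)
    (g := wd [.b, .c]) (g' := wd [.a, .b, .c]) (by rw [o3]) (by rw [o6]; decide) (by rw [o3, o6]; decide)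
  have n5 := H604.OZ.not_dvd_deg' h (r := 5) (n := 2) (by norm_num) (by rw [ncard]; decide) (by rw [ncard]; decide)
    (g := wd W5) (g' := wd [.c, .d]) (by rw [o5]) (by rw [o10]; decide) (by rw [o5, o10]; decide)
  have n7 := H604.OZ.not_dvd_deg' h (r := 7) (n := 3) (by norm_num) (by rw [ncard]; decide) (by rw [ncard]; decide)
    (g := wd W7) (g' := wd [.d, .c, .b, .g, .d, .g, .f]) (by rw [o7]) (by rw [o14]; decide) (by rw [o7, o14]; decide)
  have hcases := cases_of hdvd n2 n3 n5 n7 hmod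
  -- the even case
  have even : 2 ∣ charDegree (χ : Cfsg.Spor.He → ℂ) →
      (5 ∣ charDegree (χ : Cfsg.Spor.He → ℂ) ∨ 7 ∣ charDegree (χ : Cfsg.Spor.He → ℂ) ∨
        2 ^ 8 ∣ charDegree (χ : Cfsg.Spor.He → ℂ) ∨ 2 ^ 5 ∣ charDegree (χ : Cfsg.Spor.He → ℂ)) → False := by
    intro hev hc
    by_cases h8 : IsConj x (wd W8)
    · have hc16 : 16 ≤ cent x := by rw [cent_congr h8]; exact cent8_ge
      have ho : orderOf x = 8 := by rw [hford _ _ h8, order_eight]
      have hne : ∀ y : Cfsg.Spor.He, orderOf y ≠ 8 → ¬ IsConj x y := fun y hy hxy => hy (by rw [← hford _ _ hxy, ho])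
      have nn5 := hne (wd W5) (by rw [o5]; norm_num)
      have nn7 := hne (wd W7) (by rw [o7]; norm_num)
      have nn4 := hne (wd W4) (by rw [o4]; norm_num)
      have nn2 := hne (wd [.d]) (by rw [o2]; norm_num)
      rcases hc with hc | hc | hc | hc
      · exact (ex5 h hc nn5).false h hc16 (by norm_num) (by norm_num)
      · exact ((ex7 h hc nn7).union (ex4 h hev nn4) (by simp)).false h hc16 (by norm_num) (by norm_num)
      · exact (ex2 h hc nn2).false h hc16 (by norm_num) (by norm_num)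
      · exact ((ex2 h hc nn2).union (ex4 h hev nn4) (by simp)).false h hc16 (by norm_num) (by norm_num)
    · have e8 := ex8 h hev h8
      have h6 : cent x < 6 := by
        by_contra hlt
        push Not at hlt
        exact e8.false h hlt (by norm_num) (by norm_num)
      have hc4 : cent x = 4 := by (clear * - h4 h5 h42 h6; omega)
      have hne : ∀ y : Cfsg.Spor.He, cent y ≠ 4 → ¬ IsConj x y := fun y hy hxy => hy (by rw [← cent_congr hxy, hc4])
      have nn5 := hne (wd W5) (fun h => by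
        have := orderOf_dvd_cent (wd W5)
        rw [h, o5] at this
        norm_num at this)
      have nn7 := hne (wd W7) (fun h => by
        have := orderOf_dvd_cent (wd W7)
        rw [h, o7] at this
        norm_num at this)
      have nn4 := hne (wd W4) (fun h => by
        have : 8 ≤ cent (wd W4) := cent4_ge
        omega)
      have nn2 := hne (wd [.d]) (fun h => by
        have : cent (wd [.d]) = 21504 := centd
        omega)
      rcases hc with hc | hc | hc | hc
      · exact (e8.union (ex5 h hc nn5) (by simp)).false h h4 (by norm_num) (by norm_num)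
      · exact ((e8.union (ex7 h hc nn7) (by simp)).union (ex4 h hev nn4) (by simp)).false h h4 (by norm_num)
          (by norm_num)
      · exact (ex2 h hc nn2).false h h4 (by norm_num) (by norm_num)
      · exact ((e8.union (ex2 h hc nn2) (by simp)).union (ex4 h hev nn4) (by simp)).false h h4 (by norm_num)
          (by norm_num)
  rcases hcases with hc | hc | ⟨hev, hc⟩ | ⟨hev, hc⟩ | hc | hc
  · omega
  · by_cases hU : IsConj x U
    · have hc343 : 343 ≤ cent x := by
        rw [cent_congr hU]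
        exact Nat.le_of_dvd Nat.card_pos centU_dvd
      have nn7 : ¬ IsConj x (wd W7) := fun h7 => by
        have h1 := cent_congr h7
        have h2 : cent (wd W7) ≤ 196 := cent7
        omega
      exact (ex7 h (dvd_trans (by norm_num) hc) nn7).false h hc343 (by norm_num) (by norm_num)
    · exact (exU h hc hU).false h h4 (by norm_num) (by norm_num)
  · exact even hev (Or.inl hc)
  · exact even hev (Or.inr (Or.inl hc))
  · exact even (dvd_trans (by norm_num) hc) (Or.inr (Or.inr (Or.inl (by simpa using hc))))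
  · exact even (by rw [hc]; norm_num) (Or.inr (Or.inr (Or.inr (by rw [hc]; norm_num))))

end Cfsg.Agent.H30.OZ.HeRow

namespace Cfsg.Agent.H30.OZ

universe u

/-- **S4842, the Held group.** -/
theorem row_he {S : Type u} [Group S] [Finite S] (_hs : IsSimpleGroup S) (h : Cfsg.Spor.IsoHe S) :
    Cfsg.Agent.H730.OZ.Row S := by
  obtain ⟨e⟩ := h
  exact H730.OZ.Row.congr e (H604.OZ.row_of fun _ _ h => HeRow.no_one h)

end Cfsg.Agent.H30.OZ
end

-- part: H285/HN/Eight
section
/-!
# `HN`: an element of order 8 with centralizer of order 80 (helper285, for S4842)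

`g = [1, 2, 4, 2]` has order 40 in `H0 = 2.HS.2`, `g ^ 20 = τ`; `v = g ^ 5` has order 8, `v ^ 4 = τ`, `|C(v)| = 80`, and `v` is
conjugate to all its odd powers.
-/

set_option autoImplicit false
set_option maxRecDepth 100000

namespace Cfsg.Agent.H285.HNEight

open Subgroup Cfsg.Agent.HN Cfsg.Agent.HN.Pres Cfsg.Agent.HN.HS100 Cfsg.Agent.HN.H0Basic
open Cfsg.Agent.HN.P1408 hiding ψ ψ_gx ψ_gy ψ_gz ψ_injective
open Cfsg.Agent.HN.Classes Cfsg.Agent.HN.ColChain Cfsg.Agent.HN.CentUp Cfsg.Agent.HN.NormalH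
open Cfsg.Agent.SporadicA.PermTab

/-- the word of order 40 -/
def wg : List ℕ := [1, 2, 4, 2]
/-- the word of `v` -/
def wv : List ℕ := wg ++ wg ++ wg ++ wg ++ wg
/-- the element of order 40 -/
def g : H0 := hw wg
/-- the element of order 8 -/
def v : H0 := hw wv

theorem v_eq : v = g ^ 5 := by
  simp only [v, wv, g, hw_append, pow_succ, pow_zero, one_mul]

theorem v_four : v ^ 4 = τ := by
  rw [← hw_τ]
  simp only [v, pow_succ, pow_zero, one_mul, ← hw_append]
  exact hw_eq (by decide +kernel)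

theorem v_eight : v ^ 8 = 1 := by
  rw [show (8 : ℕ) = 4 * 2 by norm_num, pow_mul, v_four, τ_sq]

theorem order_v : orderOf v = 8 := by
  have : Fact (Nat.Prime 2) := ⟨Nat.prime_two⟩
  refine orderOf_eq_prime_pow (n := 2) (p := 2) ?_ ?_
  · change ¬ v ^ 4 = 1
    rw [v_four]
    exact τ_ne_one
  · exact v_eight

/-- conjugating words -/
def x3 : List ℕ := [0, 2, 2]
/-- conjugating words -/
def x5 : List ℕ := [0, 2, 0, 3, 0, 2, 2, 2, 0, 2, 2, 1, 3]

theorem conj_three : (hw x3)⁻¹ * v * hw x3 = v ^ 3 := by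
  rw [← hw_iw]
  simp only [v, pow_succ, pow_zero, one_mul, ← hw_append]
  exact hw_eq (by decide +kernel)

theorem conj_five : (hw x5)⁻¹ * v * hw x5 = v ^ 5 := by
  rw [← hw_iw]
  simp only [v, pow_succ, pow_zero, one_mul, ← hw_append]
  exact hw_eq (by decide +kernel)

theorem conj_five' : (hw x5)⁻¹ * hw wv * hw x5 = hw wv * τ := by
  rw [← v_four]
  exact conj_five.trans (pow_succ' v 4)

/-! ### the centralizer -/

/-- tables -/
def cVV : List ℕ := [0x7a1082e0560c20c028048074044220450aa0542485a04016c0405e0ae0c42a01e04210c2785f01c0601684e06a0fc250290720f00785104c0bc3103208e0142082e05006c2c85d0a4050090030480dc1381a0321303000b026008160460680ec0682b00e040200530020001281f018160268330120a80b0060380103183e07008c0503609605c1101d]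
/-- chain -/
def cVBS : List (ℕ × ℕ × ℕ × ℕ) := [
  (14, 20, 0x40000000400000007d000000400000007d00000040000000400000007d000000400000004000000040000000400000007d000000400000007d00000040000000400000004000000040000000400000007d000000400000004000000040000000400000007d0000007d0000007d0000007d0000004000000040000000400000007d000000400000007d0000004000000040000000400000004000000040000000400000004000000040000000400000007d000000400000007d0000007d00000040000000400000004000000040000000400000007d0000004000000040000000400000007d000000400000004000000040000000400000004000000040000000400000004000000040000000400000007d000000400000004000000040000000400000004000000040000000400000004000000040000000400000007d00000040000000400000004000000040000000400000007d0000004000000040000000400000004000000040000000400000004000000040000000400000004000000040000000400000004000000040, 0x6ee0000007d0000007d),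
  (10, 2, 0x7d0000007d0000005033d0007d000000430c1000400000004000000081bf10004000000040000000400000004cc4000081bf10004cc40000430c10004000000040000000400000004cc40000400000005033d0007d0000007d0000004cc400004000000081bf1000430c1000430c10005033d0007d0000007d0000004cc40000430c1000400000005033d0004cc400004000000040000000400000004000000040000000400000004cc400004000000081bf10007d000000430c10005033d000400000004000000040000000400000004000000081bf1000400000007d00000040000000fb89d0007d0000004cc4000040000000400000004cc400004000000040000000400000004cc400004cc40000430c10007d0000004000000040000000400000007d0000004000000040000000400000004cc400007d000000430c100040000000400000004cc400004000000040000000ac1c90004000000040000000400000007d0000004cc400007d00000040000000400000004cc400004cc400004000000040000000400000007d000, 0x684e5c0007d0000004cc40),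
  (32, 2, 0x5ca6bf20a897bf2115f72ba05ca6bf207a2d52a077145f9046535f906157af3077145f9046535f9077145f91202c23906157af3112935f905566276046535f9046535f90525f6391202c2390525f639115f72ba05ca6bf20a897bf2112935f9046535f906157af307a2d52a055662761239653605ca6bf20a897bf2112935f9049541fa046535f9115f72ba112935f9046535f9046535f9046535f9046535f90525f639046535f91202c239083815390ad66e2305ca6bf2049541fa115f72ba046535f9077145f90525f639046535f9046535f906157af3046535f905ca6bf2046535f908049d2105ca6bf2112935f9046535f9077145f9112935f90525f6390838153908381539112935f9112935f9049541fa05ca6bf2046535f9077145f9046535f905ca6bf2046535f9046535f90525f639112935f905ca6bf2049541fa08381539046535f91202c239046535f9046535f93543dfa3046535f9077145f90838153908262df2112935f90a897bf20525f6390525f639112935f91822b5f9046535f9077145f90838153905ca6bf2, 0xae9d51dc112935f905ca6bf2)]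
/-- last table -/
def cVT : ℕ := 0x39bce14205fbc4340c1523bd39bce142227e75d61a664c0702c53bbe0b7f2f181a664c070a44ba8e2c7d19ac29315c2d0b7f2f1832d4256123b923131000dde93843d36a2ef2fc5929315c2d2ef2fc592d83aa8b39bce14205fbc434117f21c302c53bbe0b7f2f18239d2f68327b977a242d8ee70fa9f8060f910251117f21c332c5fbbf02c53bbe0c1523bd117f21c302c53bbe02c53bbe3843d36a02c53bbe2ef2fc591000dde929315c2d2216c95d1744ed2e37b3d32532c5fbbf2d83aa8b02c53bbe2c7d19ac025c9d2202c53bbe3843d36a0b7f2f180a44ba8e39bce14202c53bbe39fb68d937b3d325117f21c302c53bbe1a664c07117f21c32ef2fc590ce63c3209824cb8117f21c321f69d92046cd41f37b3d3251000dde91a664c0702c53bbe37b3d32502c53bbe1000dde92eda89fe32d4256137b3d32532c5fbbf304e78943843d36a154f55c402c53bbe02c53bbe0c3f41e00a44ba8e1a664c07304e7894004530b0117f21c305fbc4340214a07d0214a07d117f21c322df1eaa3843d36a048bb0d0304e789437b3d325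
/-- ranks -/
def cVR : ℕ := 0x7c01c2305802610c168400880c41781c0580880905003603c0400e0561140504c06c0602e82803e1881f85b0aa178210340a81440e8390281700480306e0140f01606a1380084d0700640d04107a14c0685702e17c1903c00012c1980c09208c318480b40902904f00c0081303b05c0c00201004e11c108610941801482a02a158058250221641d020
/-- order -/
def cVO : ℕ := 0x3a1180600a04c1082483a08806c010600500182183f0540641f0540300c81804c04402c0f81c01c1842705b0bc1041605c08a18c158240280041e02f06e12c198400420942d0120b204c2e85709e0200484801e0540201a03c1580680008e0d41e8580a60b41704a04e0d00383b0be154018100a41401482000a1341c8510c405c1b01107005818823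

theorem cV_le : Nat.card (cenA [wv]) ≤ 80 :=
  card_cenA_le (VS := cVV) (bs := cVBS) (T := cVT) (R := cVR) (O := cVO) (by decide +kernel) (by decide +kernel)

theorem card_cent_le : Nat.card (centralizer ({v} : Set H0)) ≤ 80 :=
  card_centralizer_le_of_conj cV_le conj_five'

/-- an element of order 8 commuting with `v` -/
def u : H0 := hw [0, 4, 2, 4, 3, 0, 4, 3, 4, 2, 4]

theorem u_comm : u * v = v * u := by
  simp only [u, v, ← hw_append]
  exact hw_eq (by decide +kernel)

theorem u_eight : u ^ 8 = 1 := by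
  simp only [u, pow_succ, pow_zero, one_mul, ← hw_append]
  rw [← hw_nil]
  exact hw_eq (by decide +kernel)

/-- the words of the powers of `v` -/
def wp (n : ℕ) : List ℕ := Nat.rec [] (fun _ ih => ih ++ wv) n

theorem hw_wp (n : ℕ) : hw (wp n) = v ^ n := by
  induction n with
  | zero => rw [pow_zero]; rfl
  | succ n ih =>
    rw [pow_succ, ← ih, v, ← hw_append]
    rfl

theorem pow_ne : ∀ n < 8, v ^ n ≠ u := by
  intro n hn
  rw [← hw_wp n, u]
  interval_cases n
  · exact hw_ne rfl rfl (p := 0) (by norm_num) (by decide +kernel)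
  · exact hw_ne rfl rfl (p := 0) (by norm_num) (by decide +kernel)
  · exact hw_ne rfl rfl (p := 0) (by norm_num) (by decide +kernel)
  · exact hw_ne rfl rfl (p := 0) (by norm_num) (by decide +kernel)
  · exact hw_ne rfl rfl (p := 0) (by norm_num) (by decide +kernel)
  · exact hw_ne rfl rfl (p := 0) (by norm_num) (by decide +kernel)
  · exact hw_ne rfl rfl (p := 0) (by norm_num) (by decide +kernel)
  · exact hw_ne rfl rfl (p := 8) (by norm_num) (by decide +kernel)

theorem u_not_mem : u ∉ zpowers v := by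
  intro h
  obtain ⟨k, hk⟩ := (mem_zpowers_iff.1 h : ∃ k : ℤ, v ^ k = u)
  have h1 : v ^ (k % 8) = u := by
    rw [← hk]
    have := zpow_mod_orderOf v k
    rwa [order_v] at this
  have h2 : 0 ≤ k % 8 := Int.emod_nonneg _ (by norm_num)
  have h3 : k % 8 < 8 := Int.emod_lt_of_pos _ (by norm_num)
  obtain ⟨n, hn⟩ := Int.eq_ofNat_of_zero_le h2
  rw [hn, zpow_natCast] at h1
  have h4 : n < 8 := by omega
  exact pow_ne n h4 h1

theorem sixteen_dvd : 16 ∣ Nat.card (centralizer ({v} : Set H0)) := by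
  have hv : v ∈ centralizer ({v} : Set H0) := centralizer_singleton_mem.2 rfl
  have hu : u ∈ centralizer ({v} : Set H0) := centralizer_singleton_mem.2 u_comm
  set C := centralizer ({v} : Set H0) with hC
  let v' : C := ⟨v, hv⟩
  let u' : C := ⟨u, hu⟩
  have hcen : ∀ y : C, y * v' = v' * y := fun y => Subtype.ext (centralizer_singleton_mem.1 y.2)
  have hnorm : (zpowers v').Normal := by
    refine ⟨fun n hn y => ?_⟩
    obtain ⟨k, rfl⟩ := hn
    have h1 : Commute y (v' ^ k) := Commute.zpow_right (hcen y) k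
    rw [show y * (fun x => v' ^ x) k * y⁻¹ = v' ^ k from by
      change y * v' ^ k * y⁻¹ = v' ^ k
      rw [h1.eq, mul_inv_cancel_right]]
    exact ⟨k, rfl⟩
  have hov : orderOf v' = 8 := by
    rw [← order_v, ← Subgroup.orderOf_coe]
  have h1 : IsPGroup 2 ↥(zpowers v') := IsPGroup.of_card (n := 3) (by rw [Nat.card_zpowers, hov]; norm_num)
  have h2 : IsPGroup 2 ↥(zpowers u') := by
    obtain ⟨m, -, h⟩ := (Nat.dvd_prime_pow Nat.prime_two).1
      (show orderOf u' ∣ 2 ^ 3 from orderOf_dvd_of_pow_eq_one (Subtype.ext (by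
        rw [show (2 : ℕ) ^ 3 = 8 by norm_num]; exact u_eight)))
    exact IsPGroup.of_card (n := m) (by rw [Nat.card_zpowers, h])
  have h3 : IsPGroup 2 ↥(zpowers v' ⊔ zpowers u') := h1.to_sup_of_normal_left h2
  obtain ⟨m, hm⟩ := IsPGroup.iff_card.1 h3
  have h4 : 2 ^ 3 ∣ 2 ^ m := by
    rw [← hm]
    have := card_dvd_of_le (le_sup_left : zpowers v' ≤ zpowers v' ⊔ zpowers u')
    rw [Nat.card_zpowers, hov] at this
    exact this
  have h5 : 3 ≤ m := (Nat.pow_dvd_pow_iff_le_right (by norm_num)).1 h4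
  have h6 : m ≠ 3 := by
    rintro rfl
    have h7 : zpowers v' = zpowers v' ⊔ zpowers u' := by
      refine eq_of_le_of_card_ge le_sup_left ?_
      rw [hm, Nat.card_zpowers, hov]
      norm_num
    have h8 : u' ∈ zpowers v' := by
      rw [h7]
      exact (le_sup_right : zpowers u' ≤ _) (mem_zpowers u')
    obtain ⟨k, hk⟩ := h8
    exact u_not_mem ⟨k, congrArg Subtype.val hk⟩
  have h9 : 2 ^ 4 ∣ 2 ^ m := pow_dvd_pow 2 (by omega)
  rw [← hm] at h9
  exact h9.trans (card_subgroup_dvd_card _)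

theorem five_dvd : 5 ∣ Nat.card (centralizer ({v} : Set H0)) := by
  have h1 : (g ^ 8) ^ 5 = 1 := by
    rw [← pow_mul, show 8 * 5 = 5 * 8 by norm_num, pow_mul, ← v_eq, v_eight]
  refine prime_dvd_card (g := g ^ 8) ?_ Nat.prime_five h1 ?_
  · rw [centralizer_singleton_mem, v_eq, ← pow_add, ← pow_add]
  · intro h2
    have h3 : g ^ 8 = hw (wg ++ wg ++ wg ++ wg ++ wg ++ wg ++ wg ++ wg) := by
      simp only [g, hw_append, pow_succ, pow_zero, one_mul]
    rw [h3, ← hw_nil] at h2
    exact hw_ne rfl rfl (p := 3) (by norm_num) (by decide +kernel) h2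

/-- **`|C_{H0}(v)| = 80`.** -/
theorem card_cent : Nat.card (centralizer ({v} : Set H0)) = 80 := by
  apply le_antisymm card_cent_le
  exact Nat.le_of_dvd Nat.card_pos (Nat.Coprime.mul_dvd_of_dvd_of_dvd (by norm_num : Nat.Coprime 16 5) sixteen_dvd five_dvd)

/-! ### in `HN` -/

theorem ψ_τ : ψ τ = Pres.hx ^ 2 := by
  rw [← ψ_gx, ← map_pow, ← hw_τ, pow_two]
  rfl

theorem ψ_inj : Function.Injective ψ :=
  NormalH.ψ_injective H0Basic.finite_H0 H0Basic.card_H0_le XSq.hx_sq_ne

theorem order_ψv : orderOf (ψ v) = 8 := by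
  rw [orderOf_injective ψ ψ_inj, order_v]

theorem ψv_four : (ψ v) ^ 4 = ψ τ := by
  rw [← map_pow, v_four]

theorem cent_eq : centralizer ({ψ v} : Set Cfsg.Spor.HN) = (centralizer ({v} : Set H0)).map ψ := by
  ext y
  rw [mem_centralizer_singleton_iff]
  constructor
  · intro h
    have h1 : y * ψ τ = ψ τ * y := by
      rw [← ψv_four]
      exact (Commute.pow_right (show Commute y (ψ v) from h) 4).eq
    have h2 : y ∈ ψ.range := by
      rw [range_ψ, ← Central.centralizer_eq, ← ψ_τ]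
      exact mem_centralizer_singleton_iff.2 h1
    obtain ⟨z, rfl⟩ := h2
    refine ⟨z, centralizer_singleton_mem.2 (ψ_inj ?_), rfl⟩
    rw [map_mul, map_mul]
    exact h
  · rintro ⟨z, hz, rfl⟩
    rw [← map_mul, ← map_mul, centralizer_singleton_mem.1 hz]

/-- **`|C_{HN}(v)| = 80`.** -/
theorem card_cent_ψv : Nat.card (centralizer ({ψ v} : Set Cfsg.Spor.HN)) = 80 := by
  rw [cent_eq, ← card_cent]
  exact Nat.card_congr (equivMapOfInjective _ ψ ψ_inj).symm.toEquiv

theorem isConj_three : IsConj v (v ^ 3) :=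
  isConj_iff.2 ⟨(hw x3)⁻¹, by rw [inv_inv]; exact conj_three⟩

theorem isConj_five : IsConj v (v ^ 5) :=
  isConj_iff.2 ⟨(hw x5)⁻¹, by rw [inv_inv]; exact conj_five⟩

theorem isConj_seven : IsConj v (v ^ 7) := by
  have h1 : IsConj (v ^ 3) ((v ^ 5) ^ 3) := by
    obtain ⟨c, hc⟩ := isConj_iff.1 isConj_five
    exact isConj_iff.2 ⟨c, by rw [← conj_pow, hc]⟩
  have h2 : (v ^ 5) ^ 3 = v ^ 7 := by
    rw [← pow_mul, show 5 * 3 = 8 + 7 by norm_num, pow_add, v_eight, one_mul]
  rw [← h2]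
  exact isConj_three.trans h1

/-- `v` is conjugate to all its odd powers. -/
theorem isConj_pow {k : ℕ} (hk : Odd k) : IsConj v (v ^ k) := by
  have h1 : v ^ k = v ^ (k % 8) := by
    have := pow_mod_orderOf v k
    rw [order_v] at this
    exact this.symm
  rw [h1]
  obtain ⟨m, rfl⟩ := hk
  have h2 : (2 * m + 1) % 8 = 1 ∨ (2 * m + 1) % 8 = 3 ∨ (2 * m + 1) % 8 = 5 ∨ (2 * m + 1) % 8 = 7 := by omega
  rcases h2 with h | h | h | h
  · rw [h, pow_one]
  · rw [h]; exact isConj_three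
  · rw [h]; exact isConj_five
  · rw [h]; exact isConj_seven

theorem isConj_ψ_pow {k : ℕ} (hk : Odd k) : IsConj (ψ v) ((ψ v) ^ k) := by
  obtain ⟨c, hc⟩ := isConj_iff.1 (isConj_pow hk)
  exact isConj_iff.2 ⟨ψ c, by rw [← map_pow, ← hc, map_mul, map_mul, map_inv]⟩

/-- the shape used by `H604/OZ/HNKill` -/
theorem p3' : ∃ v : Cfsg.Spor.HN, orderOf v = 8 ∧ 40 ∣ Nat.card (centralizer ({v} : Set Cfsg.Spor.HN)) ∧
    Nat.card (centralizer ({v} : Set Cfsg.Spor.HN)) ≤ 80 ∧ ∀ k : ℕ, Odd k → IsConj (v ^ k) v :=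
  ⟨ψ v, order_ψv, by rw [card_cent_ψv]; exact ⟨2, rfl⟩, card_cent_ψv.le, fun _ hk => (isConj_ψ_pow hk).symm⟩

end Cfsg.Agent.H285.HNEight
end

-- part: H714/HN/FixGe
section
/-!
# Centralizers of 2-elements of an extension of an extraspecial group (helper714)

`cent_ge`: `G` a finite group, `π : G → K` surjective with central kernel of order two, `R` an elementary abelian normal
subgroup of `K` of order 256, `x ∈ G` whose image in `K/R` has order 1, 2 or 4: `16 ≤ |C(x)|`.
-/

set_option autoImplicit false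

namespace Cfsg.Agent.H714.HN

open Subgroup

section abs

theorem card_ker_mul {A B : Type*} [Group A] [Group B] [Finite A] (h : A →* B) :
    Nat.card A = Nat.card h.range * Nat.card h.ker := by
  rw [← Nat.card_congr (QuotientGroup.quotientKerEquivRange h).toEquiv]
  exact Subgroup.card_eq_card_quotient_mul_card_subgroup h.ker

/-- `|ker (f ∘ f)| ≤ |ker f|²` -/
theorem card_ker_sq {R : Type*} [Group R] [Finite R] (f g : R →* R) (hg : ∀ a, g a = f (f a)) :
    Nat.card g.ker ≤ Nat.card f.ker ^ 2 := by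
  have h0 : ∀ a : g.ker, f a ∈ f.ker := by
    intro a
    rw [MonoidHom.mem_ker, ← hg]
    exact a.2
  let h : g.ker →* f.ker := (f.comp g.ker.subtype).codRestrict f.ker h0
  rw [card_ker_mul h, pow_two]
  refine Nat.mul_le_mul (Nat.card_le_card_of_injective _ h.range.subtype_injective) ?_
  have h2 : ∀ x : h.ker, f (x : g.ker) = 1 := by
    intro x
    exact congrArg Subtype.val (MonoidHom.mem_ker.1 x.2)
  refine Nat.card_le_card_of_injective (fun x => (⟨((x : g.ker) : R), MonoidHom.mem_ker.2 (h2 x)⟩ : f.ker)) ?_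
  intro x y hxy
  have h3 : ((x : g.ker) : R) = ((y : g.ker) : R) := Subtype.mk.inj hxy
  exact Subtype.ext (Subtype.ext h3)

variable {R : Type*} [Group R] [Finite R]

/-- the map `a ↦ σ(a) a` -/
def tw (hc : ∀ a b : R, a * b = b * a) (σ : R →* R) : R →* R where
  toFun a := σ a * a
  map_one' := by rw [map_one, one_mul]
  map_mul' a b := by
    rw [map_mul]
    calc σ a * σ b * (a * b) = σ a * (σ b * a) * b := by group
      _ = σ a * (a * σ b) * b := by rw [hc (σ b) a]
      _ = σ a * a * (σ b * b) := by group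

omit [Finite R] in
theorem tw_tw (hc : ∀ a b : R, a * b = b * a) (hs : ∀ a : R, a * a = 1) (σ τ : R →* R) (hτ : ∀ a, τ a = σ (σ a))
    (a : R) : tw hc τ a = tw hc σ (tw hc σ a) := by
  change τ a * a = σ (σ a * a) * (σ a * a)
  rw [map_mul, hτ]
  calc σ (σ a) * a = σ (σ a) * (σ a * σ a) * a := by rw [hs, mul_one]
    _ = _ := by group

omit [Finite R] in
theorem mem_tw (hc : ∀ a b : R, a * b = b * a) (hs : ∀ a : R, a * a = 1) (σ : R →* R) (a : R) :
    a ∈ (tw hc σ).ker ↔ σ a = a := by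
  rw [MonoidHom.mem_ker]
  change σ a * a = 1 ↔ σ a = a
  constructor
  · intro h
    calc σ a = σ a * (a * a) := by rw [hs, mul_one]
      _ = a := by rw [← mul_assoc, h, one_mul]
  · intro h
    rw [h, hs]

theorem fix_two (hc : ∀ a b : R, a * b = b * a) (hs : ∀ a : R, a * a = 1) (σ : R →* R) (h : ∀ a, σ (σ a) = a) :
    Nat.card R ≤ Nat.card (tw hc σ).ker ^ 2 := by
  have h1 := card_ker_sq (tw hc σ) (tw hc (MonoidHom.id R)) (tw_tw hc hs σ (MonoidHom.id R) (fun a => (h a).symm))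
  have h2 : (tw hc (MonoidHom.id R)).ker = ⊤ := by
    rw [eq_top_iff]
    intro a _
    exact (mem_tw hc hs _ a).2 rfl
  rw [h2, Nat.card_congr Subgroup.topEquiv.toEquiv] at h1
  exact h1

theorem fix_four (hc : ∀ a b : R, a * b = b * a) (hs : ∀ a : R, a * a = 1) (σ : R →* R)
    (h : ∀ a, σ (σ (σ (σ a))) = a) : Nat.card R ≤ Nat.card (tw hc σ).ker ^ 4 := by
  have h1 := card_ker_sq (tw hc σ) (tw hc (σ.comp σ)) (tw_tw hc hs σ (σ.comp σ) (fun a => rfl))
  have h2 := fix_two hc hs (σ.comp σ) h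
  calc Nat.card R ≤ Nat.card (tw hc (σ.comp σ)).ker ^ 2 := h2
    _ ≤ (Nat.card (tw hc σ).ker ^ 2) ^ 2 := Nat.pow_le_pow_left h1 2
    _ = _ := by rw [← pow_mul]

end abs

section main

variable {G K : Type*} [Group G] [Group K] [Finite G] [Finite K]

/-- the fixed points of `y` on `R` -/
theorem fix_ge {R : Subgroup K} [R.Normal] (hc : ∀ a b : R, a * b = b * a) (hs : ∀ a : R, a * a = 1)
    (hR : Nat.card R = 256) (y : K) {m : ℕ} (hm : m = 1 ∨ m = 2 ∨ m = 4) (hy : y ^ m ∈ R) :
    16 ≤ m * Nat.card ↥(R ⊓ centralizer ({y} : Set K)) := by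
  let σ : R →* R := (MulAut.conjNormal y : MulAut R).toMonoidHom
  have hσ : ∀ a : R, σ a = MulAut.conjNormal y a := fun a => rfl
  have hk : Nat.card (tw hc σ).ker ≤ Nat.card ↥(R ⊓ centralizer ({y} : Set K)) := by
    have h1 : ∀ a : (tw hc σ).ker, ((a : R) : K) ∈ R ⊓ centralizer ({y} : Set K) := by
      intro a
      refine mem_inf.2 ⟨(a : R).2, mem_centralizer_singleton_iff.2 ?_⟩
      have h2 := congrArg Subtype.val ((mem_tw hc hs σ a).1 a.2)
      rw [hσ, MulAut.conjNormal_apply] at h2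
      exact (mul_inv_eq_iff_eq_mul.1 h2).symm
    refine Nat.card_le_card_of_injective (fun a => (⟨_, h1 a⟩ : ↥(R ⊓ centralizer ({y} : Set K)))) ?_
    intro a b hab
    have h3 : ((a : R) : K) = ((b : R) : K) := Subtype.mk.inj hab
    exact Subtype.ext (Subtype.ext h3)
  have h1 : ∀ r ∈ R, ∀ a : R, (MulAut.conjNormal r : MulAut R) a = a := by
    intro r hr a
    apply Subtype.ext
    rw [MulAut.conjNormal_apply]
    have := congrArg Subtype.val (hc ⟨r, hr⟩ a)
    change r * (a : K) = a * r at this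
    rw [this, mul_inv_cancel_right]
  rcases hm with rfl | rfl | rfl
  · rw [pow_one] at hy
    have h2 : (tw hc σ).ker = ⊤ := by
      rw [eq_top_iff]
      intro a _
      exact (mem_tw hc hs _ a).2 (by rw [hσ]; exact h1 y hy a)
    rw [h2, Nat.card_congr Subgroup.topEquiv.toEquiv, hR] at hk
    omega
  · have h2 := fix_two hc hs σ (fun a => by
      rw [hσ, hσ, ← MulAut.mul_apply, ← map_mul, ← pow_two]
      exact h1 _ hy a)
    rw [hR] at h2
    have h3 : 16 ≤ Nat.card (tw hc σ).ker := by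
      by_contra hcon
      push Not at hcon
      have : Nat.card (tw hc σ).ker ^ 2 < 16 ^ 2 := Nat.pow_lt_pow_left hcon (by norm_num)
      omega
    omega
  · have h2 := fix_four hc hs σ (fun a => by
      rw [hσ, hσ, hσ, hσ, ← MulAut.mul_apply, ← MulAut.mul_apply, ← MulAut.mul_apply, ← map_mul, ← map_mul, ← map_mul]
      have h3 : y * y * y * y = y ^ 4 := by simp only [pow_succ, pow_zero, one_mul]
      rw [h3]
      exact h1 _ hy a)
    rw [hR] at h2
    have h3 : 4 ≤ Nat.card (tw hc σ).ker := by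
      by_contra hcon
      push Not at hcon
      have : Nat.card (tw hc σ).ker ^ 4 < 4 ^ 4 := Nat.pow_lt_pow_left hcon (by norm_num)
      omega
    omega

omit [Finite K] in
/-- the commutator map on the preimage of the centralizer -/
theorem comm_ge (π : G →* K) (hπ : Function.Surjective π) (hz : ∀ u ∈ π.ker, ∀ g : G, u * g = g * u)
    (hk : Nat.card π.ker = 2) (F : Subgroup K) (x : G) (hF : ∀ a ∈ F, a * π x = π x * a) :
    Nat.card F ≤ Nat.card ↥(F.comap π ⊓ centralizer ({x} : Set G)) := by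
  -- `|D| = 2 |F|`
  have h0 : ∀ d : F.comap π, π d ∈ F := fun d => d.2
  let h : F.comap π →* F := (π.comp (F.comap π).subtype).codRestrict F h0
  have hs : Function.Surjective h := by
    rintro ⟨a, ha⟩
    obtain ⟨g, rfl⟩ := hπ a
    exact ⟨⟨g, ha⟩, rfl⟩
  have h1 := card_ker_mul h
  rw [MonoidHom.range_eq_top.2 hs, Nat.card_congr Subgroup.topEquiv.toEquiv] at h1
  have h2 : 2 ≤ Nat.card h.ker := by
    rw [← hk]
    have h3 : ∀ u : π.ker, (u : G) ∈ F.comap π := by
      intro u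
      rw [mem_comap, MonoidHom.mem_ker.1 u.2]
      exact F.one_mem
    have h4 : ∀ u : π.ker, (⟨u, h3 u⟩ : F.comap π) ∈ h.ker := by
      intro u
      rw [MonoidHom.mem_ker]
      exact Subtype.ext (MonoidHom.mem_ker.1 u.2)
    refine Nat.card_le_card_of_injective (fun u => (⟨⟨u, h3 u⟩, h4 u⟩ : h.ker)) ?_
    intro a b hab
    have h5 : (a : G) = (b : G) := Subtype.mk.inj (Subtype.mk.inj hab)
    exact Subtype.ext h5
  -- the commutator map
  have h5 : ∀ d ∈ F.comap π, x * d * x⁻¹ * d⁻¹ ∈ π.ker := by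
    intro d hd
    rw [MonoidHom.mem_ker, map_mul, map_mul, map_mul, map_inv, map_inv, ← hF _ hd]
    group
  let θ : F.comap π →* π.ker :=
    { toFun := fun d => ⟨x * d * x⁻¹ * (d : G)⁻¹, h5 d d.2⟩
      map_one' := by
        apply Subtype.ext
        change x * 1 * x⁻¹ * 1⁻¹ = 1
        group
      map_mul' := by
        intro a b
        apply Subtype.ext
        change x * (a * b) * x⁻¹ * ((a : G) * b)⁻¹ = x * a * x⁻¹ * (a : G)⁻¹ * (x * b * x⁻¹ * (b : G)⁻¹)
        have h6 := hz _ (h5 b b.2) (a : G)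
        calc x * (a * b) * x⁻¹ * ((a : G) * b)⁻¹ = x * a * x⁻¹ * (x * b * x⁻¹ * (b : G)⁻¹) * (a : G)⁻¹ := by group
          _ = x * a * x⁻¹ * ((a : G)⁻¹ * (a * (x * b * x⁻¹ * (b : G)⁻¹))) * (a : G)⁻¹ := by group
          _ = x * a * x⁻¹ * ((a : G)⁻¹ * ((x * b * x⁻¹ * (b : G)⁻¹) * a)) * (a : G)⁻¹ := by rw [h6]
          _ = _ := by group }
  have h6 := card_ker_mul θ
  have h7 : Nat.card θ.range ≤ 2 := by
    rw [← hk]
    exact Nat.card_le_card_of_injective _ θ.range.subtype_injective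
  have h8 : Nat.card θ.ker ≤ Nat.card ↥(F.comap π ⊓ centralizer ({x} : Set G)) := by
    have h9 : ∀ d : θ.ker, ((d : F.comap π) : G) ∈ F.comap π ⊓ centralizer ({x} : Set G) := by
      intro d
      refine mem_inf.2 ⟨(d : F.comap π).2, mem_centralizer_singleton_iff.2 ?_⟩
      have h10 := congrArg Subtype.val (MonoidHom.mem_ker.1 d.2)
      change x * (d : F.comap π) * x⁻¹ * ((d : F.comap π) : G)⁻¹ = 1 at h10
      exact (mul_inv_eq_iff_eq_mul.1 (mul_inv_eq_one.1 h10)).symm
    refine Nat.card_le_card_of_injective (fun d => (⟨_, h9 d⟩ : ↥(F.comap π ⊓ centralizer ({x} : Set G)))) ?_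
    intro a b hab
    have h10 : ((a : F.comap π) : G) = ((b : F.comap π) : G) := Subtype.mk.inj hab
    exact Subtype.ext (Subtype.ext h10)
  have h9 : Nat.card F * 2 ≤ 2 * Nat.card θ.ker := by
    calc Nat.card F * 2 ≤ Nat.card F * Nat.card h.ker := Nat.mul_le_mul_left _ h2
      _ = Nat.card (F.comap π) := h1.symm
      _ = Nat.card θ.range * Nat.card θ.ker := h6
      _ ≤ 2 * Nat.card θ.ker := Nat.mul_le_mul_right _ h7
  omega

/-- **main lemma** -/
theorem cent_ge (π : G →* K) (hπ : Function.Surjective π) (hz : ∀ u ∈ π.ker, ∀ g : G, u * g = g * u)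
    (hk : Nat.card π.ker = 2) {R : Subgroup K} [R.Normal] (hc : ∀ a b : R, a * b = b * a)
    (hs : ∀ a : R, a * a = 1) (hR : Nat.card R = 256) (x : G)
    (hm : orderOf ((QuotientGroup.mk' R) (π x)) ∣ 4) : 16 ≤ Nat.card (centralizer ({x} : Set G)) := by
  set m := orderOf ((QuotientGroup.mk' R) (π x)) with hmdef
  have hm' : m = 1 ∨ m = 2 ∨ m = 4 := by
    have h1 : m ∣ 2 ^ 2 := hm
    obtain ⟨k, hk, hk'⟩ := (Nat.dvd_prime_pow Nat.prime_two).1 h1
    interval_cases k <;> omega
  have hy : (π x) ^ m ∈ R := by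
    have h1 := pow_orderOf_eq_one ((QuotientGroup.mk' R) (π x))
    rw [← hmdef, ← map_pow] at h1
    exact (QuotientGroup.eq_one_iff _).1 h1
  have h1 := fix_ge hc hs hR (π x) hm' hy
  set F : Subgroup K := R ⊓ centralizer ({π x} : Set K) with hFdef
  have hF : ∀ a ∈ F, a * π x = π x * a := fun a ha => mem_centralizer_singleton_iff.1 (mem_inf.1 ha).2
  have h2 := comm_ge π hπ hz hk F x hF
  let χ : centralizer ({x} : Set G) →* K ⧸ R :=
    ((QuotientGroup.mk' R).comp π).comp (centralizer ({x} : Set G)).subtype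
  have h3 := card_ker_mul χ
  have h4 : Nat.card F ≤ Nat.card χ.ker := by
    refine h2.trans ?_
    have h5 : ∀ d : ↥(F.comap π ⊓ centralizer ({x} : Set G)), (d : G) ∈ centralizer ({x} : Set G) :=
      fun d => (mem_inf.1 d.2).2
    have h6 : ∀ d : ↥(F.comap π ⊓ centralizer ({x} : Set G)), (⟨d, h5 d⟩ : centralizer ({x} : Set G)) ∈ χ.ker := by
      intro d
      rw [MonoidHom.mem_ker]
      have h7 : π d ∈ R := (mem_inf.1 ((mem_inf.1 d.2).1 : π d ∈ F)).1
      exact (QuotientGroup.eq_one_iff _).2 h7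
    refine Nat.card_le_card_of_injective (fun d => (⟨⟨d, h5 d⟩, h6 d⟩ : χ.ker)) ?_
    intro a b hab
    have h7 : (a : G) = (b : G) := Subtype.mk.inj (Subtype.mk.inj hab)
    exact Subtype.ext h7
  have h5 : m ≤ Nat.card χ.range := by
    have h6 : (QuotientGroup.mk' R) (π x) ∈ χ.range :=
      ⟨⟨x, mem_centralizer_singleton_iff.2 rfl⟩, rfl⟩
    have h7 : orderOf (⟨_, h6⟩ : χ.range) ≤ Nat.card χ.range := _root_.orderOf_le_card
    rwa [Subgroup.orderOf_mk] at h7
  calc 16 ≤ m * Nat.card F := h1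
    _ ≤ Nat.card χ.range * Nat.card χ.ker := Nat.mul_le_mul h5 h4
    _ = _ := h3.symm

end main

end Cfsg.Agent.H714.HN
end

-- part: H714/HN/P4
section
/-!
# The 2-elements of HN have centralizers of order at least 16 (helper714)
-/

set_option autoImplicit false

namespace Cfsg.Agent.H714.HN

open Subgroup
open Cfsg.Agent.HN.Pres Cfsg.Agent.HN.H0Basic
open Cfsg.Agent.HN.XWords (W0 W0_sq)
open Cfsg.Agent.HN.XStruct Cfsg.Agent.HN.XQuot Cfsg.Agent.HN.XInst
open Cfsg.Agent.KFacts.HN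
open Cfsg.Agent.CpAutHN.LqFacts

theorem Rk_comm (a b : Rk) : a * b = b * a := by
  obtain ⟨a, m, _, rfl⟩ := a
  obtain ⟨b, n, _, rfl⟩ := b
  exact Subtype.ext (hyp.toBas.r_comm m n)

theorem Rk_sq (a : Rk) : a * a = 1 := by
  obtain ⟨a, m, _, rfl⟩ := a
  exact Subtype.ext (hyp.toBas.r_sq m)

theorem card_Rk : Nat.card Rk = 256 := by
  let F : Fin 256 → Rk := fun m => ⟨r k m, r_mem_R hyp.toBas m.2⟩
  have hF : Function.Bijective F := by
    constructor
    · intro a b hab
      exact Fin.ext (hyp.toBas.r_inj a.2 b.2 (congrArg Subtype.val hab))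
    · rintro ⟨x, m, hm, rfl⟩
      exact ⟨⟨m, hm⟩, rfl⟩
  rw [← Nat.card_eq_of_bijective F hF, Nat.card_fin]

/-- `C(W0)` -/
abbrev CW : Subgroup Cfsg.Spor.HN := centralizer ({W0} : Set Cfsg.Spor.HN)

/-- the projection -/
noncomputable def p0 : CW →* KK W0 := QuotientGroup.mk' (Zw W0)

theorem p0_surj : Function.Surjective p0 := QuotientGroup.mk'_surjective _

theorem ker_p0 : p0.ker = Zw W0 := QuotientGroup.ker_mk' _

theorem card_ker_p0 : Nat.card p0.ker = 2 := by
  rw [ker_p0, Zw, Nat.card_zpowers]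
  refine orderOf_eq_prime ?_ ?_
  · apply Subtype.ext
    change W0 ^ 2 = 1
    rw [pow_two, W0_sq]
  · intro h
    exact PCard.W0_ne_one (congrArg Subtype.val h)

theorem central_p0 : ∀ u ∈ p0.ker, ∀ g : CW, u * g = g * u := by
  intro u hu g
  rw [ker_p0, Zw, mem_zpowers_iff] at hu
  obtain ⟨n, rfl⟩ := hu
  have h1 : Commute (⟨W0, mem_centralizer_singleton_iff.2 rfl⟩ : CW) g :=
    Subtype.ext (mem_PP.1 g.2).symm
  exact h1.zpow_left n

/-! ### the 2-elements of `Lq` -/

theorem perm_four : ∀ a : Equiv.Perm (Fin 5), a * a * (a * a) = 1 → Equiv.Perm.sign a = 1 → a * a = 1 := by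
  decide +kernel

theorem A5_two {a : A5} {n : ℕ} (h : a ^ 2 ^ n = 1) : a * a = 1 := by
  have h1 := orderOf_dvd_of_pow_eq_one h
  obtain ⟨k, _, hk⟩ := (Nat.dvd_prime_pow Nat.prime_two).1 h1
  have h2 : orderOf a ∣ Nat.card A5 := _root_.orderOf_dvd_natCard a
  have h3 : Nat.card A5 = 60 := by
    rw [nat_card_alternatingGroup, Nat.card_fin]
    decide
  rw [h3, hk] at h2
  have h4 : k ≤ 2 := by
    by_contra hcon
    push Not at hcon
    have h5 : 2 ^ 3 ∣ 2 ^ k := pow_dvd_pow 2 hcon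
    exact absurd (h5.trans h2) (by norm_num)
  have h5 : a ^ 4 = 1 := by
    apply orderOf_dvd_iff_pow_eq_one.1
    rw [hk]
    exact pow_dvd_pow 2 h4
  have h6 : (a : Equiv.Perm (Fin 5)) * a * (a * a) = 1 := by
    have := congrArg Subtype.val h5
    change (a : Equiv.Perm (Fin 5)) ^ 4 = 1 at this
    rw [← this]
    simp only [pow_succ, pow_zero, one_mul, mul_assoc]
  exact Subtype.ext (perm_four a h6 (Equiv.Perm.mem_alternatingGroup.1 a.2))

theorem LL_two {x : Lq} (hx : x ∈ LL) {n : ℕ} (h : x ^ 2 ^ n = 1) : x * x = 1 := by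
  obtain ⟨a, b, rfl⟩ := mem_LL.1 hx
  have hc : Commute (φA a) (φB b) := comm_AB a b
  rw [hc.mul_pow, ← map_pow, ← map_pow] at h
  have h1 : φA (a ^ 2 ^ n) * φB (b ^ 2 ^ n) = φA 1 * φB 1 := by rw [h, map_one, map_one, one_mul]
  obtain ⟨h2, h3⟩ := φ2_inj h1
  rw [← pow_two, hc.mul_pow, pow_two, pow_two, ← map_mul, ← map_mul, A5_two h2, A5_two h3, map_one, map_one, one_mul]

theorem Lq_two {x : Lq} {n : ℕ} (h : x ^ 2 ^ n = 1) : x ^ 4 = 1 := by
  have h1 : x ^ 2 ∈ LL := Subgroup.sq_mem_of_index_two index_LL x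
  have h2 : (x ^ 2) ^ 2 ^ n = 1 := by rw [← pow_mul, mul_comm, pow_mul, h, one_pow]
  have h3 := LL_two h1 h2
  rw [← h3, ← pow_add]

theorem finite_G : Finite Cfsg.Spor.HN := Nat.finite_of_card_ne_zero (by
  rw [Cfsg.Agent.S1701.result.2]; norm_num)

/-- **(P4)** for the 2-elements of `C(W0)` -/
theorem p4_CW {x : CW} (h2 : ∃ n : ℕ, x ^ 2 ^ n = 1) : 16 ≤ Nat.card (centralizer ({x} : Set CW)) := by
  have := finite_G
  have h4 : Finite (KK W0) := Finite.of_surjective p0 p0_surj
  obtain ⟨n, hn⟩ := h2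
  refine cent_ge p0 p0_surj central_p0 card_ker_p0 Rk_comm Rk_sq card_Rk x ?_
  apply orderOf_dvd_of_pow_eq_one
  exact Lq_two (n := n) (by rw [← map_pow, ← map_pow, hn, map_one, map_one])

/-- **(P4)** -/
theorem p4 {x : Cfsg.Spor.HN} (hx : x ∈ PP) (h2 : ∃ n : ℕ, x ^ 2 ^ n = 1) :
    16 ≤ Nat.card (centralizer ({x} : Set Cfsg.Spor.HN)) := by
  have := finite_G
  obtain ⟨n, hn⟩ := h2
  refine (p4_CW (x := ⟨x, hx⟩) ⟨n, Subtype.ext hn⟩).trans ?_
  have h1 : ∀ c : centralizer ({(⟨x, hx⟩ : CW)} : Set CW), ((c : CW) : Cfsg.Spor.HN) ∈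
      centralizer ({x} : Set Cfsg.Spor.HN) := by
    intro c
    rw [mem_centralizer_singleton_iff]
    exact congrArg Subtype.val (mem_centralizer_singleton_iff.1 c.2)
  refine Nat.card_le_card_of_injective (fun c => (⟨_, h1 c⟩ : centralizer ({x} : Set Cfsg.Spor.HN))) ?_
  intro a b hab
  have h3 : ((a : CW) : Cfsg.Spor.HN) = ((b : CW) : Cfsg.Spor.HN) := Subtype.mk.inj hab
  exact Subtype.ext (Subtype.ext h3)

/-- every 2-element is conjugate to an element of `C(W0)` -/
theorem exists_conj_PP {x : Cfsg.Spor.HN} (h2 : ∃ n : ℕ, x ^ 2 ^ n = 1) : ∃ g : Cfsg.Spor.HN, g * x * g⁻¹ ∈ PP := by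
  have := finite_G
  have : Fact (Nat.Prime 2) := ⟨Nat.prime_two⟩
  obtain ⟨n, hn⟩ := h2
  have hz : IsPGroup 2 (zpowers x) := by
    rw [IsPGroup.iff_card]
    rw [Nat.card_zpowers]
    obtain ⟨k, _, hk⟩ := (Nat.dvd_prime_pow Nat.prime_two).1 (orderOf_dvd_of_pow_eq_one hn)
    exact ⟨k, hk⟩
  obtain ⟨P, hP⟩ := hz.exists_le_sylow
  obtain ⟨Q⟩ : Nonempty (Sylow 2 PP) := inferInstance
  have hQ : Nat.card Q = 2 ^ 14 := by
    rw [Q.card_eq_multiplicity]
    have h1 : Nat.card PP = 2 ^ 14 * 225 := PCard.card_centralizer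
    rw [h1, Nat.factorization_mul (by norm_num) (by norm_num), Nat.prime_two.factorization_pow]
    have h3 : (225 : ℕ).factorization 2 = 0 := Nat.factorization_eq_zero_of_not_dvd (by norm_num)
    rw [Finsupp.add_apply, h3, Finsupp.single_eq_same]
  have hQ' : Nat.card ((Q : Subgroup PP).map PP.subtype) = 2 ^ 14 := by
    rw [← hQ]
    exact (Nat.card_congr ((Q : Subgroup PP).equivMapOfInjective _ PP.subtype_injective).toEquiv).symm
  have hG : (Nat.card Cfsg.Spor.HN).factorization 2 = 14 := by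
    have h1 : Nat.card Cfsg.Spor.HN = 2 ^ 14 * 16664484375 := by
      rw [Cfsg.Agent.S1701.result.2]
      norm_num
    rw [h1, Nat.factorization_mul (by norm_num) (by norm_num), Nat.prime_two.factorization_pow]
    have h3 : (16664484375 : ℕ).factorization 2 = 0 := Nat.factorization_eq_zero_of_not_dvd (by norm_num)
    rw [Finsupp.add_apply, h3, Finsupp.single_eq_same]
  let Q' : Sylow 2 Cfsg.Spor.HN := Sylow.ofCard ((Q : Subgroup PP).map PP.subtype) (by rw [hQ', hG])
  obtain ⟨g, hg⟩ := MulAction.exists_smul_eq Cfsg.Spor.HN P Q'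
  refine ⟨g, ?_⟩
  have h1 : g * x * g⁻¹ ∈ (g • P : Sylow 2 Cfsg.Spor.HN) := by
    change g * x * g⁻¹ ∈ ((g • P : Sylow 2 Cfsg.Spor.HN) : Subgroup Cfsg.Spor.HN)
    rw [Sylow.coe_subgroup_smul]
    exact Subgroup.smul_mem_pointwise_smul x (MulAut.conj g) _ (hP (mem_zpowers x))
  rw [hg] at h1
  have h2 : g * x * g⁻¹ ∈ (Q : Subgroup PP).map PP.subtype := h1
  obtain ⟨y, _, hy⟩ := h2
  rw [← hy]
  exact y.2

/-- **(P4)** for all the 2-elements -/
theorem p4_all {x : Cfsg.Spor.HN} (h2 : ∃ n : ℕ, x ^ 2 ^ n = 1) :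
    16 ≤ Nat.card (centralizer ({x} : Set Cfsg.Spor.HN)) := by
  obtain ⟨g, hg⟩ := exists_conj_PP h2
  obtain ⟨n, hn⟩ := h2
  have h1 := p4 hg ⟨n, by rw [conj_pow, hn, mul_one, mul_inv_cancel]⟩
  refine h1.trans (le_of_eq ?_)
  have h3 : centralizer ({g * x * g⁻¹} : Set Cfsg.Spor.HN) =
      (centralizer ({x} : Set Cfsg.Spor.HN)).map (MulAut.conj g).toMonoidHom := by
    ext y
    rw [mem_centralizer_singleton_iff, mem_map]
    constructor
    · intro hy
      refine ⟨g⁻¹ * y * g, ?_, ?_⟩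
      · rw [mem_centralizer_singleton_iff]
        calc g⁻¹ * y * g * x = g⁻¹ * (y * (g * x * g⁻¹)) * g := by group
          _ = g⁻¹ * (g * x * g⁻¹ * y) * g := by rw [hy]
          _ = x * (g⁻¹ * y * g) := by group
      · change g * (g⁻¹ * y * g) * g⁻¹ = y
        group
    · rintro ⟨z, hz, rfl⟩
      rw [mem_centralizer_singleton_iff] at hz
      change g * z * g⁻¹ * (g * x * g⁻¹) = g * x * g⁻¹ * (g * z * g⁻¹)
      calc g * z * g⁻¹ * (g * x * g⁻¹) = g * (z * x) * g⁻¹ := by group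
        _ = g * (x * z) * g⁻¹ := by rw [hz]
        _ = _ := by group
  rw [h3]
  exact (Nat.card_congr ((centralizer ({x} : Set Cfsg.Spor.HN)).equivMapOfInjective _
    (MulAut.conj g).injective).toEquiv).symm

end Cfsg.Agent.H714.HN
end

-- part: H672/OZ/HN
section
/-!
# One vanishing class: `HN` (helper672, S4842)

The sieve with the primes 19 (`|C| = 19`) and 11 (`|C| = 22`) leaves the degrees 24300, 2025000, 6480, 540000, 1728,
144000, 38400, 3200000, 10240, all divisible by 6 or by `2 ^ 10`.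
-/

set_option autoImplicit false
set_option maxRecDepth 100000

open Cfsg Cfsg.Agent.Characters Cfsg.Agent.H732.VZ Cfsg.Agent.H604.OZ

namespace Cfsg.Agent.H672.OZ

universe u

/-- the remaining degrees -/
theorem hn_deg [Finite Spor.HN] {χ : IrrCharacter Spor.HN} {x : Spor.HN} (h : _root_.Cfsg.Agent.H732.VZ.One χ x) :
    charDegree (χ : Spor.HN → ℂ) ∈ [24300, 2025000, 6480, 540000, 1728, 144000, 38400, 3200000, 10240] := by
  have hN : Nat.card Spor.HN = 273030912000000 := Cfsg.Agent.S1701.result.2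
  have hs : IsSimpleGroup Spor.HN := Cfsg.Agent.S1701.result.1
  have h4 : 4 ≤ cent x := four_le_cent h (by rw [hN]; norm_num) (by rw [hN]; norm_num)
  have h19 : charDegree (χ : Spor.HN → ℂ) % 19 = 0 ∨ charDegree (χ : Spor.HN → ℂ) % 19 = 1 ∨
      charDegree (χ : Spor.HN → ℂ) % 19 = 19 - 1 :=
    iso_mod h (by norm_num) (by norm_num) (by rw [hN]; norm_num) (by rw [hN]; norm_num) (by rw [hN]; norm_num)
      (fun y hy => H315.PwHN.card_nineteen hy) h4
  have h11 : charDegree (χ : Spor.HN → ℂ) % 11 = 1 ∨ charDegree (χ : Spor.HN → ℂ) % 11 = 11 - 1 := by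
    have hF : Fact (Nat.Prime 11) := ⟨by norm_num⟩
    obtain ⟨z, hz⟩ := exists_prime_orderOf_dvd_card' (G := Spor.HN) 11 (by rw [hN]; norm_num)
    exact two_mod_of h (by norm_num) (by norm_num) (by rw [hN]; norm_num) (by rw [hN]; norm_num) (by rw [hN]; norm_num)
      hz (by rw [H315.PwHN.card_eleven hz]) h4
  have hiso : ∀ r ∈ [19, 11], charDegree (χ : Spor.HN → ℂ) % r = 0 ∨
      charDegree (χ : Spor.HN → ℂ) % r = 1 ∨ charDegree (χ : Spor.HN → ℂ) % r = r - 1 := by
    intro r hr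
    simp only [List.mem_cons, List.not_mem_nil, or_false] at hr
    rcases hr with rfl | rfl
    · exact h19
    · exact Or.inr h11
  have hm := mem_of_sieve4 h hN (l := [(2,14),(3,6),(5,6),(7,1),(11,1),(19,1)]) (by decide +kernel)
    (by
      intro x hx
      simp only [List.mem_cons, List.not_mem_nil, or_false] at hx
      rcases hx with rfl | rfl | rfl | rfl | rfl | rfl <;> norm_num)
    (by decide +kernel) h4 hiso
    (D := [24300, 2025000, 6480, 540000, 1728, 144000, 38400, 3200000, 10240]) (_root_.Cfsg.Agent.H672.OZ.LowExp.all_of4 (by decide +kernel))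
  exact hm

end Cfsg.Agent.H672.OZ
end

-- part: H604/OZ/HNRow
section
/-!
# One vanishing class: the row `HN` of S4842 (helper604, with helper285 (8B), helper672 (sieve), helper714 (2-elements))
-/

set_option autoImplicit false

open Cfsg Cfsg.Agent.H732.VZ

namespace Cfsg.Agent.H604.OZ.HN

universe u

theorem p4 : P4 := fun _ ⟨n, hn⟩ => Cfsg.Agent.H714.HN.p4_all ⟨n, by rw [← hn, pow_orderOf_eq_one]⟩

/-- no degree divisible by 6 -/
theorem not_six {χ : IrrCharacter Spor.HN} {x : Spor.HN} (h : _root_.Cfsg.Agent.H732.VZ.One χ x) : ¬ 6 ∣ charDegree (χ : Spor.HN → ℂ) :=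
  not_six_of Cfsg.Agent.H285.HNEight.p3' p4 h

theorem row_hn' : H730.OZ.Row Spor.HN := by
  refine row_of fun χ x h => ?_
  have hm := H672.OZ.hn_deg h
  have h1 := not_six h
  have h2 := fun hd => not_two10 h hd
  simp only [List.mem_cons, List.not_mem_nil, or_false] at hm
  rcases hm with e | e | e | e | e | e | e | e | e <;> rw [e] at h1 h2 <;>
    first
      | exact h1 (by decide)
      | exact absurd (h2 (by decide)) (by norm_num)

/-- **`HN`.** -/
theorem row_hn {S : Type u} [Group S] [Finite S] (_hs : IsSimpleGroup S) (h : Spor.IsoHN S) : H730.OZ.Row S := by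
  obtain ⟨e⟩ := h
  exact H730.OZ.Row.congr e row_hn'

end Cfsg.Agent.H604.OZ.HN
end

private theorem dce_e6e0b038568a : _root_.True := by
  try have : _root_.True := by simp only [_root_.Cfsg.Agent.H285.HNEight.v.eq_1]
  try have : _root_.True := by simp only [_root_.Cfsg.Agent.H285.HNEight.u.eq_1]
  try have : _root_.True := by simp only [_root_.Cfsg.Agent.H285.HNEight.wv.eq_1]
  try have : _root_.True := by simp only [_root_.Cfsg.Agent.H714.HN.tw.congr_simp]
  try have : _root_.True := by simp only [_root_.Cfsg.Agent.H285.HNEight.g.eq_1]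
  exact _root_.True.intro
end

-- part: H109/OZ/RowHS_mg
section
prune_inst 0x570607042e2100000002587912000144c0004b00d0000001aa00c40000e32224080a8404c8039054a2a020100010020000000900040000004000000000504010050120431400000400010003182000000000000000000000000000000041004200000000
set_option linter.all false
open scoped Cfsg.Agent.FastGrp

-- part: H109/OZ/RowHS
section
/-!
# One vanishing class: `HS` (helper109, S4842)

The sieve (7 and 11 isolated, T4) leaves the degrees 21, 56, 120, 175, 210, 384, 560, 672, 1792, 2100, 3200.  They are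
excluded by the values at rational elements of order 5 (`|C| ≤ 50`), 8 (`|C| ≤ 16`), 6 (`9 ∣ |C| ≤ 55`) and at a 2-central
involution.
-/

set_option autoImplicit false
set_option maxRecDepth 100000

open Cfsg Cfsg.Agent.Characters Cfsg.Agent.H732.VZ Cfsg.Agent.H604.OZ

namespace Cfsg.Agent.H109.OZ

universe u

/-- `y` is a rational element -/
def Rat {S : Type u} [Group S] (y : S) : Prop := ∀ m : ℕ, m.Coprime (Nat.card S) → IsConj (y ^ m) y

theorem order_of_conj {S : Type u} [Group S] [Finite S] {x y : S} (h : IsConj x y) : orderOf x = orderOf y :=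
  orderOf_eq_of_conj h

/-- the row from the class facts -/
theorem row_abs {S : Type u} [Group S] [Finite S] [IsSimpleGroup S] (hN : Nat.card S = 44352000)
    (z7 : ∃ z : S, orderOf z = 7 ∧ cent z ≤ 7) (z11 : ∃ z : S, orderOf z = 11 ∧ cent z ≤ 11)
    (y5 : ∃ y : S, orderOf y = 5 ∧ Rat y ∧ cent y ≤ 50) (y8 : ∃ y : S, orderOf y = 8 ∧ Rat y ∧ cent y ≤ 16)
    (y2 : ∃ y : S, orderOf y = 2 ∧ 512 ∣ cent y ∧ cent y ≤ 65531)
    (y6 : ∃ y : S, orderOf y = 6 ∧ Rat y ∧ 9 ∣ cent y ∧ cent y ≤ 55) : H730.OZ.Row S := by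
  refine row_of fun χ x h => ?_
  have h4 : 4 ≤ cent x := four_le_cent h (by rw [hN]; norm_num) (by rw [hN]; norm_num)
  have hiso : ∀ r ∈ [7, 11], charDegree (χ : S → ℂ) % r = 0 ∨
      charDegree (χ : S → ℂ) % r = 1 ∨ charDegree (χ : S → ℂ) % r = r - 1 := by
    intro r hr
    simp only [List.mem_cons, List.not_mem_nil, or_false] at hr
    rcases hr with rfl | rfl
    · obtain ⟨z, hz, hzc⟩ := z7
      exact H672.OZ.iso_mod_of h (by norm_num) (by norm_num) (by rw [hN]; norm_num) (by rw [hN]; norm_num) hz hzc h4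
    · obtain ⟨z, hz, hzc⟩ := z11
      exact H672.OZ.iso_mod_of h (by norm_num) (by norm_num) (by rw [hN]; norm_num) (by rw [hN]; norm_num) hz hzc h4
  have hm := H672.OZ.mem_of_sieve4 h hN (l := [(2,9),(3,2),(5,3),(7,1),(11,1)]) (by decide +kernel)
    (by
      intro x hx
      simp only [List.mem_cons, List.not_mem_nil, or_false] at hx
      rcases hx with rfl | rfl | rfl | rfl | rfl <;> norm_num)
    (by decide +kernel) h4 hiso (D := [21, 56, 120, 175, 210, 384, 560, 672, 1792, 2100, 3200]) (by decide +kernel)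
  obtain ⟨y5, o5, r5, c5⟩ := y5
  obtain ⟨y8, o8, r8, c8⟩ := y8
  -- degree divisible by 7
  have h7 : 7 ∣ charDegree (χ : S → ℂ) → orderOf x = 7 ∧ cent x = 7 := fun hd => by
    have h1 := H672.OZ.full h (r := 7) (n := 1) (by norm_num) (by norm_num) (by rw [hN]; norm_num) (by rw [hN]; norm_num)
      (by rwa [pow_one])
    rw [pow_one] at h1
    exact ⟨h1.1, h1.2.1⟩
  -- even degree, `x` not of order 8
  have h2 : 2 ∣ charDegree (χ : S → ℂ) → orderOf x ≠ 8 → cent x ≤ 5 := fun hd hx => by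
    have h1 := H849.OZ.one_prime h (r := 2) (by norm_num) hd ⟨3, o8⟩ r8 (fun hc => hx ((order_of_conj hc).trans o8))
    omega
  -- degree divisible by 5, `x` not of order 5
  have h5 : 5 ∣ charDegree (χ : S → ℂ) → orderOf x = 5 := fun hd => by
    by_contra hx
    have h1 := H849.OZ.one_prime h (r := 5) (by norm_num) hd ⟨1, by rw [o5]; norm_num⟩ r5
      (fun hc => hx ((order_of_conj hc).trans o5))
    omega
  -- degree divisible by 10
  have h10 : ¬ 10 ∣ charDegree (χ : S → ℂ) := fun hd => by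
    have e5 := h5 ((by norm_num : 5 ∣ 10).trans hd)
    have e2 := h2 ((by norm_num : 2 ∣ 10).trans hd) (by rw [e5]; norm_num)
    have h6 : 5 ∣ cent x := by
      rw [← e5]
      exact Subgroup.orderOf_dvd_natCard _ (H672.OZ.mem_cent.2 rfl)
    have h7 : cent x = 5 := by omega
    exact cent_prime (ne_one h) (by rw [h7]; norm_num) (by rw [h7, hN]; norm_num)
  have h14 : ¬ 14 ∣ charDegree (χ : S → ℂ) := fun hd => by
    obtain ⟨e7, c7⟩ := h7 ((by norm_num : 7 ∣ 14).trans hd)
    have e2 := h2 ((by norm_num : 2 ∣ 14).trans hd) (by rw [e7]; norm_num)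
    omega
  have h35 : ¬ 35 ∣ charDegree (χ : S → ℂ) := fun hd => by
    obtain ⟨e7, c7⟩ := h7 ((by norm_num : 7 ∣ 35).trans hd)
    have e5 := h5 ((by norm_num : 5 ∣ 35).trans hd)
    omega
  have hd : charDegree (χ : S → ℂ) = 21 ∨ charDegree (χ : S → ℂ) = 384 := by
    generalize charDegree (χ : S → ℂ) = d at hm h10 h14 h35
    simp only [List.mem_cons, List.not_mem_nil, or_false] at hm
    (clear * - h10 h14 h35 hm; omega)
  rcases hd with hd | hd
  · -- degree 21
    obtain ⟨e7, c7⟩ := h7 (by rw [hd]; norm_num)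
    obtain ⟨y, o6, r6, d9, c6⟩ := y6
    obtain ⟨k, hk⟩ := H849.OZ.rat (χ := χ) r6
    have h1 := H849.OZ.rat_dvd_deg (χ := χ) y hk
    rw [hd] at h1
    have hidx : (Subgroup.centralizer ({y} : Set S)).index * cent y = 44352000 := by
      rw [← hN, mul_comm]
      exact Subgroup.card_mul_index _
    have h3 : (3 : ℤ) ∣ k := by
      have h31 : (3 : ℤ) ∣ ((Subgroup.centralizer ({y} : Set S)).index : ℤ) * k :=
        (by norm_num : (3 : ℤ) ∣ (21 : ℕ)).trans h1
      rcases Int.prime_three.dvd_mul.1 h31 with h32 | h32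
      · exfalso
        have h33 : 3 ∣ (Subgroup.centralizer ({y} : Set S)).index := by exact_mod_cast h32
        have h34 : 3 * 9 ∣ 44352000 := by
          rw [← hidx]
          exact Nat.mul_dvd_mul h33 d9
        revert h34
        norm_num
      · exact h32
    have h5 := H849.OZ.one_class h r6 hk (fun hc => by
      have := order_of_conj hc
      omega) (n := 3) h3
    rw [c7] at h5
    omega
  · -- degree 384
    have c9 : cent x ≤ 9 := H672.OZ.cent_le_of h (r := 3) (n := 2) hN (by norm_num) hd (by norm_num) (by norm_num)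
      (by norm_num)
    obtain ⟨y, o2, d512, c2⟩ := y2
    have r2 : ∀ m : ℕ, m.Coprime (Nat.card S) → IsConj (y ^ m) y := fun m hm => by
      have h1 : m % 2 = 1 := by
        have h2 : Nat.Coprime m 2 := hm.coprime_dvd_right (by rw [hN]; norm_num)
        have h3 := Nat.coprime_two_right.1 h2
        exact Nat.odd_iff.1 h3
      rw [← pow_mod_orderOf, o2, h1, pow_one]
    obtain ⟨k, hk⟩ := H849.OZ.rat (χ := χ) r2
    have h1 := H849.OZ.rat_dvd_deg (χ := χ) y hk
    rw [hd] at h1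
    have hidx : (Subgroup.centralizer ({y} : Set S)).index * cent y = 44352000 := by
      rw [← hN, mul_comm]
      exact Subgroup.card_mul_index _
    have hcop : IsCoprime (128 : ℤ) ((Subgroup.centralizer ({y} : Set S)).index : ℤ) := by
      rw [show (128 : ℤ) = 2 ^ 7 by norm_num]
      apply IsCoprime.pow_left
      have h32 : Nat.Coprime 2 (Subgroup.centralizer ({y} : Set S)).index := by
        rw [Nat.Prime.coprime_iff_not_dvd Nat.prime_two]
        intro h33
        have h34 : 2 * 512 ∣ 44352000 := by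
          rw [← hidx]
          exact Nat.mul_dvd_mul h33 d512
        revert h34
        norm_num
      exact_mod_cast Nat.isCoprime_iff_coprime.2 h32
    have h128 : (128 : ℤ) ∣ k := by
      have h31 : (128 : ℤ) ∣ ((Subgroup.centralizer ({y} : Set S)).index : ℤ) * k :=
        (by norm_num : (128 : ℤ) ∣ (384 : ℕ)).trans h1
      exact hcop.dvd_of_dvd_mul_left h31
    have h5 := H849.OZ.one_class h r2 hk (fun hc => by
      have e1 := H672.OZ.cent_eq_of_conj hc
      have e2 := Nat.le_of_dvd Nat.card_pos d512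
      omega) (n := 128) h128
    omega

/-! ### the elements in the graph -/

section model

open Equiv Cfsg.Agent.HN.HS100 Cfsg.Agent.HN.Pres Cfsg.Agent.SporadicA.PermTab Cfsg.Agent.H922.Ore.Gr Cfsg.Agent.H922.Ore.HS

theorem acts_pow {n : ℕ} {x : Perm (Fin n)} {X : ℕ} (hx : Acts x [X]) (k : ℕ) : Acts (x ^ k) (List.replicate k X) := by
  induction k with
  | zero => exact Acts.one
  | succ k ih =>
    rw [pow_succ]
    exact ih.mul hx

theorem pow_ne {n : ℕ} {x : Perm (Fin n)} {X : ℕ} (hx : Acts x [X]) {k : ℕ}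
    (h : eqv n (List.replicate k X) [] = false) : x ^ k ≠ 1 := by
  intro h1
  have h2 : eqv n (List.replicate k X) [] = true := by
    unfold eqv
    rw [allB_iff]
    intro i hi
    have h3 := acts_pow hx k ⟨i, hi⟩
    rw [h1] at h3
    rw [← h3]
    exact Nat.beq_refl _
  rw [h] at h2
  exact Bool.noConfusion h2

/-- the conjugation `c x = x^k c` -/
theorem conj_of {x : Perm (Fin 100)} {X k : ℕ} (hx : Acts x [X]) (C : List ℕ) (hm : ∀ P ∈ C, InG Q P)
    (he : eqv 100 ([X] ++ C) (C ++ List.replicate k X) = true) : ∃ c ∈ Q, c * x * c⁻¹ = x ^ k := by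
  obtain ⟨c, hc, hC⟩ := exists_ev C hm
  refine ⟨c, hc, ?_⟩
  have hC' : Acts c C := hC
  have h1 : c * x = x ^ k * c := Acts.eq (hC'.mul hx) ((acts_pow hx k).mul hC') he
  rw [h1, mul_inv_cancel_right]

theorem isConj_pow_Q {x : Perm (Fin 100)} (hxQ : x ∈ Q) {k : ℕ} (h : ∃ c ∈ Q, c * x * c⁻¹ = x ^ k) :
    IsConj ((⟨x, hxQ⟩ : Q) ^ k) (⟨x, hxQ⟩ : Q) := by
  obtain ⟨c, hc, h1⟩ := h
  refine (isConj_iff.2 ⟨⟨c, hc⟩, ?_⟩ : IsConj (⟨x, hxQ⟩ : Q) (⟨x, hxQ⟩ ^ k)).symm
  exact Subtype.ext h1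

/-- bound of the centralizer -/
theorem cent_le (i : Fin 21) {x : Perm (Fin 100)} (hx : Acts x [(D i).X]) (C : Subgroup (Perm (Fin 100)))
    (hC : C ≤ φ.range) (hc : ∀ c ∈ C, c * x = x * c) : Nat.card C ≤ bnd (D i).L := by
  have h := chk_all i
  simp only [Cls.chk, Bool.and_eq_true] at h
  refine card_le_of_chC hx (D i).m (D i).k (D i).L C [] (hC.trans HN.HS100.range_le) ?_ ?_ h.2.1
  · intro c hcC j
    have h1 := congrArg (fun z : Perm (Fin 100) => z j) (hc c hcC)
    exact h1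
  · intro c _ f hf
    exact absurd hf List.not_mem_nil

theorem card_map {x : Perm (Fin 100)} (hxQ : x ∈ Q) : cent (⟨x, hxQ⟩ : Q)
    = Nat.card ((Subgroup.centralizer ({(⟨x, hxQ⟩ : Q)} : Set Q)).map Q.subtype) :=
  Nat.card_congr (Subgroup.equivMapOfInjective _ _ Q.subtype_injective).toEquiv

theorem mem_map {x c : Perm (Fin 100)} (hxQ : x ∈ Q)
    (hc : c ∈ (Subgroup.centralizer ({(⟨x, hxQ⟩ : Q)} : Set Q)).map Q.subtype) : c ∈ Q ∧ c * x = x * c := by
  obtain ⟨d, hd, rfl⟩ := hc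
  exact ⟨d.2, congrArg Subtype.val (Subgroup.mem_centralizer_singleton_iff.1 hd)⟩

theorem cent_le_Q (i : Fin 21) {x : Perm (Fin 100)} (hx : Acts x [(D i).X]) (hxQ : x ∈ Q) :
    cent (⟨x, hxQ⟩ : Q) ≤ bnd (D i).L := by
  rw [card_map hxQ]
  exact cent_le i hx _ (fun c hc => Q_le_range (mem_map hxQ hc).1) fun c hc => (mem_map hxQ hc).2

/-- the representatives -/
theorem exists_rep (i : Fin 21) : ∃ x ∈ Q, Acts x [(D i).X] := by
  have h := chk_all i
  simp only [Cls.chk, Bool.and_eq_true] at h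
  obtain ⟨x, hx, h1, -⟩ := Wit.ok (D i).toWit h.1 (mem_all i)
  exact ⟨x, hx, h1⟩

theorem mod_cases {m n N : ℕ} (h : m.Coprime N) (hn : n ∣ N) : (m % n).Coprime n := by
  have h1 : m.Coprime n := h.coprime_dvd_right hn
  rwa [Nat.Coprime, ← Nat.gcd_rec, Nat.gcd_comm]

/-- rationality from the generators of the residues -/
theorem rat_of {G : Type u} [Group G] {n N : ℕ} {y : G} (ho : orderOf y = n) (hN : Nat.card G = N)
    (hn : n ∣ N) (h : ∀ k < n, k.Coprime n → IsConj (y ^ k) y) (hn0 : 0 < n) : Rat y := by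
  intro m hm
  rw [← pow_mod_orderOf, ho]
  exact h _ (Nat.mod_lt _ hn0) (mod_cases (hN ▸ hm) hn)

theorem five : ∃ y : Q, orderOf y = 5 ∧ Rat y ∧ cent y ≤ 50 := by
  obtain ⟨x, hxQ, hx⟩ := exists_rep 9
  have : Fact (Nat.Prime 5) := ⟨by norm_num⟩
  have ho : orderOf (⟨x, hxQ⟩ : Q) = 5 := by
    rw [Subgroup.orderOf_mk]
    refine orderOf_eq_prime (Acts.eq (acts_pow hx 5) Acts.one (by decide +kernel)) ?_
    have h1 := pow_ne hx (k := 1) (by decide +kernel)
    rwa [pow_one] at h1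
  have h2 := isConj_pow_Q hxQ (conj_of hx (k := 2) [tWi, tYi, tWi, tYi, tW, tX, tW, tYi, tWi, tYi]
    (fun P hP => in5g P (by revert P; decide +kernel)) (by decide +kernel))
  have h4 : IsConj ((⟨x, hxQ⟩ : Q) ^ 4) ⟨x, hxQ⟩ := by
    have h3 := H849.OZ.isConj_pow h2 2
    rw [← pow_mul] at h3
    exact h3.trans h2
  have h3 : IsConj ((⟨x, hxQ⟩ : Q) ^ 3) ⟨x, hxQ⟩ := by
    have h3 := H849.OZ.isConj_pow h2 4
    rw [← pow_mul] at h3
    have h5 : (⟨x, hxQ⟩ : Q) ^ (2 * 4) = ⟨x, hxQ⟩ ^ 3 := by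
      rw [← pow_mod_orderOf, ho]
    rw [h5] at h3
    exact h3.trans h4
  refine ⟨⟨x, hxQ⟩, ho, rat_of ho HN.AutBound.card_Q (by norm_num) ?_ (by norm_num), cent_le_Q 9 hx hxQ⟩
  intro k hk hc
  interval_cases k
  · exact absurd hc (by decide)
  · rw [pow_one]
  · exact h2
  · exact h3
  · exact h4

theorem eight : ∃ y : Q, orderOf y = 8 ∧ Rat y ∧ cent y ≤ 16 := by
  obtain ⟨x, hxQ, hx⟩ := exists_rep 13
  have : Fact (Nat.Prime 2) := ⟨Nat.prime_two⟩
  have ho : orderOf (⟨x, hxQ⟩ : Q) = 8 := by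
    rw [Subgroup.orderOf_mk]
    exact orderOf_eq_prime_pow (p := 2) (n := 2) (pow_ne hx (k := 4) (by decide +kernel))
      (Acts.eq (acts_pow hx 8) Acts.one (by decide +kernel))
  refine ⟨⟨x, hxQ⟩, ho, rat_of ho HN.AutBound.card_Q (by norm_num) ?_ (by norm_num), cent_le_Q 13 hx hxQ⟩
  intro k hk hc
  interval_cases k
  · exact absurd hc (by decide)
  · rw [pow_one]
  · exact absurd hc (by decide)
  · exact isConj_pow_Q hxQ (conj_of hx (k := 3) [tW, tX, tW, tY, tY, tY, tWi, tWi, tWi, tYi, tX, tYi]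
      (fun P hP => in5g P (by revert P; decide +kernel)) (by decide +kernel))
  · exact absurd hc (by decide)
  · exact isConj_pow_Q hxQ (conj_of hx (k := 5) [tX, tY, tX, tY, tW, tW, tW, tYi, tYi, tYi, tWi, tX, tWi]
      (fun P hP => in5g P (by revert P; decide +kernel)) (by decide +kernel))
  · exact absurd hc (by decide)
  · exact isConj_pow_Q hxQ (conj_of hx (k := 7) [tX]
      (fun P hP => in5g P (by revert P; decide +kernel)) (by decide +kernel))

/-- a second element of order three in a centralizer -/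
theorem nine_dvd {G : Type u} [Group G] [Finite G] {y u : G} (ho : orderOf y = 6) (hu : orderOf u = 3)
    (hc : u * y = y * u) (h1 : u ≠ y ^ 2) (h2 : u ≠ y ^ 4) : 9 ∣ cent y := by
  classical
  have h3 : Fact (Nat.Prime 3) := ⟨Nat.prime_three⟩
  let C := Subgroup.centralizer ({y} : Set G)
  let a : C := ⟨y ^ 2, Subgroup.mem_centralizer_singleton_iff.2 ((Commute.refl y).pow_left 2).eq⟩
  let v : C := ⟨u, Subgroup.mem_centralizer_singleton_iff.2 hc⟩
  have ha : orderOf a = 3 := by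
    rw [← Subgroup.orderOf_coe]
    show orderOf (y ^ 2) = 3
    rw [orderOf_pow' y (by norm_num), ho]
    norm_num
  have haz : ∀ g : C, g * a = a * g := fun g => by
    apply Subtype.ext
    have h4 : Commute (g : G) y := Subgroup.mem_centralizer_singleton_iff.1 g.2
    exact (h4.pow_right 2).eq
  have hn : (Subgroup.zpowers a).Normal := by
    refine ⟨fun n hn g => ?_⟩
    obtain ⟨j, rfl⟩ := Subgroup.mem_zpowers_iff.1 hn
    have h4 : Commute g (a ^ j) := (show Commute g a from haz g).zpow_right j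
    rw [h4.eq, mul_inv_cancel_right]
    exact Subgroup.mem_zpowers_iff.2 ⟨j, rfl⟩
  have hv : v ∉ Subgroup.zpowers a := by
    intro h4
    rw [mem_zpowers_iff_mem_range_orderOf, ha] at h4
    obtain ⟨k, hk, hk'⟩ := Finset.mem_image.1 h4
    rw [Finset.mem_range] at hk
    have h5 : (y ^ 2) ^ k = u := congrArg Subtype.val hk'
    interval_cases k
    · rw [pow_zero] at h5
      rw [← h5, orderOf_one] at hu
      omega
    · rw [pow_one] at h5
      exact h1 h5.symm
    · rw [← pow_mul] at h5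
      exact h2 h5.symm
  have h6 : orderOf ((QuotientGroup.mk' (Subgroup.zpowers a)) v) = 3 := by
    refine orderOf_eq_prime ?_ ?_
    · rw [← map_pow]
      have h7 : v ^ 3 = 1 := by
        apply Subtype.ext
        show u ^ 3 = 1
        rw [← hu, pow_orderOf_eq_one]
      rw [h7, map_one]
    · intro h7
      apply hv
      rwa [← MonoidHom.mem_ker, QuotientGroup.ker_mk'] at h7
  have h8 : 3 ∣ Nat.card (C ⧸ Subgroup.zpowers a) := by
    rw [← h6]
    exact orderOf_dvd_natCard _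
  have h9 := Subgroup.card_eq_card_quotient_mul_card_subgroup (Subgroup.zpowers a)
  rw [Nat.card_zpowers, ha] at h9
  show 9 ∣ Nat.card C
  rw [h9]
  exact Nat.mul_dvd_mul h8 (dvd_refl 3)

theorem six : ∃ y : Q, orderOf y = 6 ∧ Rat y ∧ 9 ∣ cent y ∧ cent y ≤ 55 := by
  obtain ⟨x, hxQ, hx⟩ := exists_rep 10
  have h6 : x ^ 6 = 1 := Acts.eq (acts_pow hx 6) Acts.one (by decide +kernel)
  have h3 : x ^ 3 ≠ 1 := pow_ne hx (k := 3) (by decide +kernel)
  have h2 : x ^ 2 ≠ 1 := pow_ne hx (k := 2) (by decide +kernel)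
  have ho' : orderOf x = 6 := by
    refine orderOf_eq_of_pow_and_pow_div_prime (by norm_num) h6 ?_
    intro p hp hd
    have h4 : p ∣ 2 * 3 := hd
    rcases hp.dvd_mul.1 h4 with h5 | h5
    · rw [(Nat.prime_dvd_prime_iff_eq hp Nat.prime_two).1 h5]
      exact h3
    · rw [(Nat.prime_dvd_prime_iff_eq hp Nat.prime_three).1 h5]
      exact h2
  have ho : orderOf (⟨x, hxQ⟩ : Q) = 6 := by rw [Subgroup.orderOf_mk, ho']
  have hfin : Finite Q := inferInstance
  refine ⟨⟨x, hxQ⟩, ho, rat_of ho HN.AutBound.card_Q (by norm_num) ?_ (by norm_num), ?_, ?_⟩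
  · intro k hk hc
    interval_cases k
    · exact absurd hc (by decide)
    · rw [pow_one]
    · exact absurd hc (by decide)
    · exact absurd hc (by decide)
    · exact absurd hc (by decide)
    · exact isConj_pow_Q hxQ (conj_of hx (k := 5) [tY, tX, tWi, tX]
        (fun P hP => in5g P (by revert P; decide +kernel)) (by decide +kernel))
  · obtain ⟨u, hu, hU⟩ := exists_ev [tW, tYi, tW, tW, tW, tW, tY, tY, tY, tW, tW, tY, tW, tX, tY]
      (fun P hP => in5g P (by revert P; decide +kernel))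
    have hU' : Acts u [tW, tYi, tW, tW, tW, tW, tY, tY, tY, tW, tW, tY, tW, tX, tY] := hU
    have : Fact (Nat.Prime 3) := ⟨Nat.prime_three⟩
    have hne : ∀ k : ℕ, eqv 100 [tW, tYi, tW, tW, tW, tW, tY, tY, tY, tW, tW, tY, tW, tX, tY]
        (List.replicate k (D 10).X) = false → u ≠ x ^ k := by
      intro k hk h1
      have h4 : eqv 100 [tW, tYi, tW, tW, tW, tW, tY, tY, tY, tW, tW, tY, tW, tX, tY]
          (List.replicate k (D 10).X) = true := by
        unfold eqv
        rw [allB_iff]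
        intro i hi
        rw [← acts_pow hx k ⟨i, hi⟩, ← h1, hU' ⟨i, hi⟩]
        exact Nat.beq_refl _
      rw [hk] at h4
      exact Bool.noConfusion h4
    refine nine_dvd ho (u := ⟨u, hu⟩) ?_ (Subtype.ext ?_) ?_ ?_
    · rw [Subgroup.orderOf_mk]
      refine orderOf_eq_prime ?_ ?_
      · rw [pow_succ, pow_two]
        exact Acts.eq ((hU'.mul hU').mul hU') Acts.one (by decide +kernel)
      · have h4 := hne 0 (by decide +kernel)
        rwa [pow_zero] at h4
    · exact Acts.eq (hU'.mul hx) (hx.mul hU') (by decide +kernel)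
    · intro h4
      exact hne 2 (by decide +kernel) (congrArg Subtype.val h4)
    · intro h4
      exact hne 4 (by decide +kernel) (congrArg Subtype.val h4)
  · -- an odd element of the centralizer
    obtain ⟨a, ha, hA⟩ := exists_ev [tY, tY] (fun P hP => in5g P (by revert P; decide +kernel))
    obtain ⟨b, hb, hB⟩ := exists_ev [tX, tYi, tYi] (fun P hP => in5g P (by revert P; decide +kernel))
    have hA' : Acts a [tY, tY] := hA
    have hB' : Acts b [tX, tYi, tYi] := hB
    have hZ : Acts Z [tZ] := fun _ => rfl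
    have hv := hB'.mul (hZ.mul hA')
    have hZr : Z ∈ φ.range := ⟨gz, φ_gz⟩
    have hvr : b * (Z * a) ∈ φ.range := mul_mem (Q_le_range hb) (mul_mem hZr (Q_le_range ha))
    have hvQ : b * (Z * a) ∉ Q := by
      intro h1
      have h4 : Z ∈ Q := by
        have h5 : Z = b⁻¹ * (b * (Z * a)) * a⁻¹ := by group
        rw [h5]
        exact mul_mem (mul_mem (inv_mem hb) h1) (inv_mem ha)
      have h5 := (mem_Q_iff hZr).1 h4
      rw [sign_Z] at h5
      exact absurd h5 (by decide)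
    have hvc : b * (Z * a) * x = x * (b * (Z * a)) := Acts.eq (hv.mul hx) (hx.mul hv) (by decide +kernel)
    let K : Subgroup (Perm (Fin 100)) := Subgroup.centralizer ({x} : Set (Perm (Fin 100))) ⊓ φ.range
    have hK : Nat.card K ≤ bnd (D 10).L := cent_le 10 hx K inf_le_right fun c hc =>
      Subgroup.mem_centralizer_singleton_iff.1 hc.1
    rw [card_map hxQ]
    have hle : (Subgroup.centralizer ({(⟨x, hxQ⟩ : Q)} : Set Q)).map Q.subtype ≤ K := fun c hc =>
      ⟨Subgroup.mem_centralizer_singleton_iff.2 (mem_map hxQ hc).2, Q_le_range (mem_map hxQ hc).1⟩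
    have h2c := Cfsg.Agent.Schreier.UTFive.two_mul_card_le hle (x := b * (Z * a))
      ⟨Subgroup.mem_centralizer_singleton_iff.2 hvc, hvr⟩ (fun h => hvQ (mem_map hxQ h).1)
    have h72 : bnd (D 10).L = 72 := by decide +kernel
    omega

end model

/-- **S4842, `HS`.** -/
theorem row_hs {S : Type u} [Group S] [Finite S] (_hs : IsSimpleGroup S) (h : Spor.IsoHS S) : H730.OZ.Row S := by
  obtain ⟨e⟩ := h
  obtain ⟨⟨f⟩, hsim⟩ := HN.AutHS.nonempty_Q
  have hQ : Spor.IsoHS HN.HS100.Q := ⟨f⟩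
  have hcard : Nat.card HN.HS100.Q = 44352000 := HN.AutBound.card_Q
  have hfin : Finite HN.HS100.Q := Nat.finite_of_card_ne_zero (by rw [hcard]; norm_num)
  refine H730.OZ.Row.congr (e.trans f.symm) (row_abs hcard ?_ ?_ five eight ?_ six)
  · have : Fact (Nat.Prime 7) := ⟨by norm_num⟩
    obtain ⟨z, hz⟩ := exists_prime_orderOf_dvd_card' (G := HN.HS100.Q) 7 (by rw [hcard]; norm_num)
    exact ⟨z, hz, (H904.HSIso.card_seven hQ hz).le⟩
  · have : Fact (Nat.Prime 11) := ⟨by norm_num⟩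
    obtain ⟨z, hz⟩ := exists_prime_orderOf_dvd_card' (G := HN.HS100.Q) 11 (by rw [hcard]; norm_num)
    exact ⟨z, hz, (H904.HSIso.card_eleven hQ hz).le⟩
  · obtain ⟨z, -, -, -, hz, -⟩ := H904.TwoHS.classes hQ
    refine ⟨z, ?_, ?_, ?_⟩
    · have : Fact (Nat.Prime 2) := ⟨Nat.prime_two⟩
      exact orderOf_eq_prime (by rw [pow_two]; exact hz.1) hz.2.1
    · rw [cent, hz.2.2]; norm_num
    · rw [cent, hz.2.2]; norm_num

end Cfsg.Agent.H109.OZ
end

-- part: H490/OZ/Eight
section
/-!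
# One vanishing class: `p = 7`, `|C(z)| = 56` (helper490, S4842)

`C(z) = ⟨z⟩ × K`, `K` a group of order eight: an orbit of two characters of `K` has a zero.
-/

set_option autoImplicit false
set_option linter.unusedSectionVars false

namespace Cfsg.Agent.H490.OZ

open Cfsg Subgroup
open Cfsg.Agent.Characters.Core Cfsg.Agent.Characters.Linear
open Cfsg.Agent.SmallSimple.ThetaSetup Cfsg.Agent.SmallSimple.ThetaOrtho Cfsg.Agent.SmallSimple.ThetaCount
open Cfsg.Agent.SmallSimple.TheoremC Cfsg.Agent.SmallSimple.TheoremCCor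
open Cfsg.Agent.H732.VZ (One)
open Cfsg.Agent.H849.OZ
open Cfsg.Agent.H604.OZ (cent)

universe u

/-- two irreducible characters of the same degree of a group of order eight -/
theorem exists_zero_sum {K : Type u} [Group K] [Finite K] (h8 : Nat.card K = 8) {θ θ' : IrrCharacter K} (hne : θ ≠ θ')
    (h1 : (θ : K → ℂ) 1 = (θ' : K → ℂ) 1) : ∃ y : K, (θ : K → ℂ) y + (θ' : K → ℂ) y = 0 := by
  classical
  have hd : ∀ χ : IrrCharacter K, ((charDegree (χ : K → ℂ) : ℕ) : ℂ) = (χ : K → ℂ) 1 := fun χ =>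
    Cfsg.Agent.H686.CharKit.charDegree_irr χ
  have hdd : charDegree (θ : K → ℂ) = charDegree (θ' : K → ℂ) := by
    have h2 := hd θ
    rw [h1, ← hd θ'] at h2
    exact_mod_cast h2
  by_cases hm : charDegree (θ : K → ℂ) = 1
  · obtain ⟨f, hf⟩ := exists_hom_of_isIrrCharacter θ.2 (by rw [← hd, hm]; norm_num)
    obtain ⟨f', hf'⟩ := exists_hom_of_isIrrCharacter θ'.2 (by rw [← hd, ← hdd, hm]; norm_num)
    have hff : f ≠ f' := by
      rintro rfl
      exact hne (Subtype.ext (hf.trans hf'.symm))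
    obtain ⟨y, hy⟩ : ∃ y, f y ≠ f' y := by
      by_contra hcon
      push Not at hcon
      exact hff (MonoidHom.ext hcon)
    have hy8 : y ^ 8 = 1 := by rw [← h8]; exact pow_card_eq_one'
    obtain ⟨a, ha⟩ : ∃ a : ℂ, a = ((f y / f' y : ℂˣ) : ℂ) := ⟨_, rfl⟩
    have ha8 : a ^ 8 = 1 := by
      rw [ha, ← Units.val_pow_eq_pow_val, div_pow, ← map_pow, ← map_pow, hy8, map_one, map_one, div_one, Units.val_one]
    have ha1 : a ≠ 1 := by
      intro h
      apply hy
      rw [ha] at h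
      exact div_eq_one.1 (Units.ext h)
    have key : a = -1 ∨ a ^ 2 = -1 ∨ a ^ 4 = -1 := by
      have h2 : (a - 1) * ((a + 1) * ((a ^ 2 + 1) * (a ^ 4 + 1))) = 0 := by
        linear_combination ha8
      rcases mul_eq_zero.1 h2 with h3 | h3
      · exact absurd (sub_eq_zero.1 h3) ha1
      rcases mul_eq_zero.1 h3 with h4 | h4
      · exact Or.inl (eq_neg_of_add_eq_zero_left h4)
      rcases mul_eq_zero.1 h4 with h5 | h5
      · exact Or.inr (Or.inl (eq_neg_of_add_eq_zero_left h5))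
      · exact Or.inr (Or.inr (eq_neg_of_add_eq_zero_left h5))
    obtain ⟨i, hi⟩ : ∃ i : ℕ, a ^ i = -1 := by
      rcases key with h | h | h
      · exact ⟨1, by rw [pow_one, h]⟩
      · exact ⟨2, h⟩
      · exact ⟨4, h⟩
    refine ⟨y ^ i, ?_⟩
    rw [hf, hf']
    show ((f (y ^ i) : ℂˣ) : ℂ) + ((f' (y ^ i) : ℂˣ) : ℂ) = 0
    have h3 : ((f (y ^ i) / f' (y ^ i) : ℂˣ) : ℂ) = -1 := by
      rw [map_pow, map_pow, ← div_pow, Units.val_pow_eq_pow_val, ← ha, hi]
    rw [Units.val_div_eq_div_val, div_eq_iff (Units.ne_zero _)] at h3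
    rw [h3]; ring
  · exfalso
    have hfin : Finite (IrrCharacter K) := finite_irr
    have := Fintype.ofFinite (IrrCharacter K)
    have hsum := Cfsg.Agent.H686.CharKit.sum_deg_sq (G := K)
    rw [h8] at hsum
    have hpos : 2 ≤ charDegree (θ : K → ℂ) := by
      have := Cfsg.Agent.H686.CharKit.charDegree_pos θ
      omega
    obtain ⟨τ, hτ⟩ : ∃ τ : IrrCharacter K, charDegree (τ : K → ℂ) = 1 := by
      obtain ⟨χ, hχ⟩ := (linearEquiv K (1 : K →* ℂˣ))
      refine ⟨χ, ?_⟩
      have h2 := hd χ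
      rw [hχ] at h2
      exact_mod_cast h2
    have h2 : ∑ χ ∈ ({τ, θ, θ'} : Finset (IrrCharacter K)), charDegree (χ : K → ℂ) ^ 2 ≤ 8 := by
      rw [← hsum]
      exact Finset.sum_le_sum_of_subset (Finset.subset_univ _)
    have hτθ : τ ≠ θ := by rintro rfl; omega
    have hτθ' : τ ≠ θ' := by rintro rfl; omega
    rw [Finset.sum_insert (by simp [hτθ, hτθ']), Finset.sum_pair hne, hτ, ← hdd] at h2
    nlinarith only [hpos, h2]

variable {G : Type u} [Group G] [Finite G] [IsSimpleGroup G]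

/-- **`p = 7`, `|C(z)| = 56`.** -/
theorem mod_eight {χ : IrrCharacter G} {x : G} (h : _root_.Cfsg.Agent.H732.VZ.One χ x) (hd : 7 ∣ Nat.card G) (hsq : ¬ 7 ^ 2 ∣ Nat.card G)
    (hG : Nat.card G ≠ 7) {z : G} (hz : orderOf z = 7) (hC : Nat.card (centralizer ({z} : Set G)) = 8 * 7)
    (h4 : 4 ≤ cent x) : charDegree (χ : G → ℂ) % 7 = 1 ∨ charDegree (χ : G → ℂ) % 7 = 7 - 1 := by
  classical
  have hp : Nat.Prime 7 := by norm_num
  have hF : Fact (Nat.Prime 7) := ⟨hp⟩
  have hx : ¬ 7 ∣ orderOf x := not_dvd_x hp hd hsq hz (by rw [hC]; norm_num) h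
  obtain ⟨P, hPz, hP⟩ := exists_sylow hp hsq hz
  obtain ⟨K, hK⟩ := exists_isComp P hP
  have hzP : z ∈ (P : Subgroup G) := by rw [hPz]; exact mem_zpowers z
  have hz1 : z ≠ 1 := by
    rintro rfl
    rw [orderOf_one] at hz
    norm_num at hz
  have hw2 := normalizer_ne hd hG (P := P) rfl
  have hK8 : Nat.card K = 8 := by
    have h1 := Cfsg.Agent.H849.OZ.card_centralizer hK hP
    rw [← Blocks.CyclicOrtho.centralizer_eq P hP hzP hz1, hC] at h1
    omega
  have hw6 := Nat.le_of_dvd (by norm_num) (SmallSimple.SylowPrimeCount.relIndex_dvd_pred hp (P := (P : Subgroup G)) hP)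
  obtain ⟨θ, ε, hε, hval, ⟨k, hk⟩, hc⟩ :=
    five hK hP h hx rfl (fun e t het ht he => arith h4 le_rfl hw2 het ht he)
  have hmem : θ ∈ orb P K (θ : K → ℂ) := mem_orb.2 ⟨1, one_mem _, tw_one _⟩
  have hT : (orb P K (θ : K → ℂ)).card ≤ 2 := by
    by_contra hcon
    push Not at hcon
    have h1 : 2 ≤ (orb P K (θ : K → ℂ)).card - 1 := by omega
    have h2 : 4 * (2 * (7 - 1)) ≤ Nat.card (centralizer ({x} : Set G)) * (((orb P K (θ : K → ℂ)).card - 1) * (7 - 1)) :=
      Nat.mul_le_mul h4 (Nat.mul_le_mul h1 le_rfl)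
    have h3 : (centralizer ((P : Subgroup G) : Set G)).relIndex (normalizer ((P : Subgroup G) : Set G)) * 7 ≤ 6 * 7 :=
      Nat.mul_le_mul hw6 le_rfl
    have h5 := h2.trans (hc.trans h3)
    norm_num at h5
  obtain ⟨u, hu, hu1⟩ := exists_ne_one hP
  have hnz : ∀ y : K, ∑ θ' ∈ orb P K (θ : K → ℂ), (θ' : K → ℂ) y ≠ 0 := by
    intro y hy
    have h4 : (χ : G → ℂ) (u * y) = 0 := by
      rw [hval u hu hu1 y, hy, mul_zero]
    have h5 : 7 ∣ orderOf (u * (y : G)) := by
      have := Fintype.ofFinite G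
      exact mem_Sg.1 (Dg_sub hK hP (mem_Dg.2 ⟨u, hu, hu1, y, y.2, rfl⟩))
    obtain ⟨a, ha⟩ := isConj_iff.1 (h.uniq _ h4)
    apply hx
    rwa [← ha, ← MulAut.conj_apply, MulEquiv.orderOf_eq] at h5
  have hone : orb P K (θ : K → ℂ) = {θ} := by
    refine Finset.eq_singleton_iff_unique_mem.2 ⟨hmem, fun θ' hθ' => ?_⟩
    by_contra hne
    have h1 : orb P K (θ : K → ℂ) = {θ, θ'} := by
      symm
      refine Finset.eq_of_subset_of_card_le ?_ ?_
      · intro τ hτ
        rw [Finset.mem_insert, Finset.mem_singleton] at hτ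
        rcases hτ with rfl | rfl
        · exact hmem
        · exact hθ'
      · rw [Finset.card_pair (Ne.symm hne)]
        exact hT
    have h2 : (θ : K → ℂ) 1 = (θ' : K → ℂ) 1 := by
      obtain ⟨n, hn, h3⟩ := mem_orb.1 hθ'
      rw [← h3, tw_apply hK _ hn]
      refine congrArg (θ : K → ℂ) ?_
      apply Subtype.ext
      show (1 : G) = n * 1 * n⁻¹
      group
    obtain ⟨y, hy⟩ := exists_zero_sum hK8 (Ne.symm hne) h2
    apply hnz y
    rw [h1, Finset.sum_pair (Ne.symm hne)]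
    exact hy
  have h6 : (θ : K → ℂ) 1 = 1 := deg_one_of_no_zero θ fun y hy => hnz y (by rw [hone, Finset.sum_singleton, hy])
  rw [hone, Finset.sum_singleton, h6, mul_one] at hk
  have h7 : ((charDegree (χ : G → ℂ) : ℤ)) = ε + (7 : ℕ) * k := by
    have h8 := Cfsg.Agent.H686.CharKit.charDegree_irr χ
    rw [hk] at h8
    exact_mod_cast h8
  exact mod_of (by norm_num) hε h7

end Cfsg.Agent.H490.OZ
end

-- part: H490/OZ/SixteenA
section
/-!
# An element of order 16 of `Co₂`: the fixed classes in `Λ/2Λ` (helper490)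

`y = mo n0 Q0` is a signed permutation of order 16 fixing `u = (4, 4, 0²²)`.  Its fixed points on `Λ/2Λ` are `0`, the
class `f0` of the frame, the class of `u` and their sum, so an element of `Co0` commuting with `y` is a signed
permutation (`mem_N`).
-/

set_option autoImplicit false
open scoped Pointwise

namespace Cfsg.Agent.H490.OZ.Sixteen

open Cfsg Cfsg.Agent.SporadicA.GolayBase Cfsg.Agent.SporadicA.GolayPerm
open Cfsg.Agent.SporadicStructure.M24El Cfsg.Agent.SporadicA.Co0Mono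
open Cfsg.Agent.SporadicStructure
open Cfsg.Agent.Co2Type.Mono
open Cfsg.Agent.SporadicStructure.Co0Matrix (vec leechB gens vec_apply vec_mem_of_leechB leech_le)
open Cfsg.Agent.MonsterU.Lam2 (L2 cl cl_surjective cl_eq cl_eq_zero smul_cl act act_cl card_L2)
open Cfsg.Agent.MonsterU.CoFrameL2 (f0 f0_ne)

/-! ### The element -/

/-- the signs -/
def n0 : ℕ := 8242322
/-- the permutation -/
def Q0 : ℕ := 982854572126671743928810886658052448
/-- its inverse -/
def QI : ℕ := 961470564252677281521580230695138400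

theorem n0_inE : inE n0 = true := by decide +kernel
theorem Q0_ok : okP Q0 = true := by decide +kernel
theorem Q0_QI : ∀ i < 24, papp QI i < 24 ∧ papp Q0 (papp QI i) = i := by decide +kernel
theorem Q0_none : papp Q0 23 = 23 := by decide +kernel
theorem n0_none : n0.testBit 23 = false := by decide +kernel

theorem y_apply (v : leechLattice) (p : GolayPt) : ((mo n0 Q0 • v : leechLattice) : GolayPt → ℤ) p =
    if n0.testBit (idx p) then -(v : GolayPt → ℤ) (pt (papp QI (idx p)))
      else (v : GolayPt → ℤ) (pt (papp QI (idx p))) := by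
  unfold mo
  rw [mul_smul, signCo0_smul, signMap_apply, permCo0_smul, permMap_apply, coe_cd (isCode_of_inE n0_inE), word_apply]
  have h : (el Q0 : Equiv.Perm GolayPt).symm p = pt (papp QI (idx p)) := by
    rw [Equiv.symm_apply_eq, coe_el (ok_of_okP Q0_ok), permOf_apply, idx_pt (Q0_QI _ (idx_lt p)).1,
      (Q0_QI _ (idx_lt p)).2, pt_idx]
  rw [h]
  cases n0.testBit (idx p) <;> simp [sgn_zero, sgn_one]

/-! ### The certificate -/

/-- the odd vector -/
def s0 : List ℤ := [1, 1, 1, 1, 1, 1, 1, 1, 1, 1, 1, 1, 1, 1, 1, 1, 1, 1, 1, 1, 1, 1, 1, -3]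
/-- a vector of a dodecad -/
def t0 : List ℤ := [2, 2, 2, 2, 2, 0, 2, 0, 2, 2, 0, 0, 2, 2, 0, 0, 2, 0, 2, 0, 0, 0, 0, 0]

theorem s0_leech : leechB s0 = true := by decide +kernel
theorem t0_leech : leechB t0 = true := by decide +kernel

/-- entry `j` of a packed vector -/
def d10 (N j : ℕ) : ℤ := ((N >>> (10 * j) % 1024 : ℕ) : ℤ) - 512

/-- a packed vector -/
def l10 (N : ℕ) : List ℤ := (List.range 24).map (d10 N)

/-- a generator of the lattice is `(y - 1) w + e s + d t + 2 z` -/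
def rowB (g : List ℤ) (c : ℕ × ℕ × ℤ × ℤ) : Bool :=
  leechB (l10 c.1) && (leechB (l10 c.2.1) && (List.range 24).all fun j => decide (g.getD j 0 =
    (if n0.testBit j then -(d10 c.1 (papp QI j)) else d10 c.1 (papp QI j)) - d10 c.1 j +
      c.2.2.1 * s0.getD j 0 + c.2.2.2 * t0.getD j 0 + 2 * d10 c.2.1 j))

/-- all rows -/
def chkAll : List (List ℤ) → List (ℕ × ℕ × ℤ × ℤ) → Bool
  | [], _ => true
  | g :: gs, c :: cs => rowB g c && chkAll gs cs
  | _ :: _, [] => false

theorem chkAll_spec : ∀ (gs : List (List ℤ)) (cs : List (ℕ × ℕ × ℤ × ℤ)), chkAll gs cs = true →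
    ∀ g ∈ gs, ∃ c, rowB g c = true
  | [], _, _, g, hg => absurd hg List.not_mem_nil
  | _ :: _, [], h, _, _ => by simp [chkAll] at h
  | g :: gs, c :: cs, h, g', hg' => by
    rw [chkAll, Bool.and_eq_true] at h
    rcases List.mem_cons.1 hg' with rfl | h1
    · exact ⟨c, h.1⟩
    · exact chkAll_spec gs cs h.2 g' h1

/-- the certificate -/
def crt : List (ℕ × ℕ × ℤ × ℤ) :=
  [(1312013315405423519883003081699153760117260601295559313667275444158202368,
    880745105923787754334765329259381677714155464000477474096505495474405890, 0, 0),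
   (1118855410925199428754013476839795008139802287255185290402926728994882048,
    880795701958961130188679364546024091749152805278948852410848180250874368, 0, 0),
   (691176415456793743801664764635742045327526382320325968896274789428627968,
    880910452871188873528523834980959706244137600100587229678262330717639168, 0, 0),
   (1360376099647753589505034042764293965099446233206749856609138705389060608,
    880775465505364349183923996748445694898822711121067268275204503472966144, 0, 0),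
   (1401763004217353275094824729150662081226032914149268676652511800618125824,
    880761982234600178022321071898511597007214696072081489479532636503804416, 0, 0),
   (1125787451030167264563017412667943338232355993813768486752665625378163200,
    880809178650920945094965472874598354250405422041898379672174869042694656, 0, 0),
   (1118855404301413349190981700614949923195294215817763587862830175465507328,
    880795698648671885297074531127744525154850019289686186613465191805358592, 0, 0),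
   (1139580883073544841389951579154357009599781674837544658295947705866258944,
    880805828387582268196513207240097533419973783117755107683404133014442496, 0, 0),
   (1194828593244368946567214765231207865272251937339293740606020312193565184,
    880822714539289536714877996747025839014450819547259002167454576597797376, 0, 0),
   (1098170404960662691650181075000725000622142987707121106661426365827910144,
    880805828371512884688929299746835221223735994067547263440044212665979392, 0, 0),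
   (1112021097342299853964556503323515760639747665753951776767027230309614080,
    880829451251004048219522488224354401796662837483305700056272042545646080, 0, 0),
   (1263717917987833414151032128764231366376566027657719363157575161807897088,
    880758582647876942049580133169324956455302521416991310507080468394412544, 0, 0),
   (1312030181865708867739836823217459810775884297290197673443576859536656896,
    880758602374670321783069280629665706145365847165658456137985353333608960, 0, 0),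
   (1318931928212499431527271579079736830911423423122704568383511142639077888,
    880758602374670321783069280629671145346324599041410378516476020503613952, 0, 0),
   (1353474353300963025717599286907592125946627780019963399622138271541756416,
    880775465505364349183923996754020881198455366906451197843366589554493952, 0, 0),
   (1422464863394596923821705622671071305536126472366661119447100200933919232,
    880761975655798954166937720622691720032978210946444356870600726319469056, 0, 0),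
   (1456960095418790562835559190119959784786591801673804335047157735833993728,
    880755219217291062928807001831011373860186187123603017857523645359327744, 0, 0),
   (1229266551779115756522343081764210396556879098971301651887772705617347072,
    880782238392480655005447335306809631080861432003813656767641931649384960, 0, 0),
   (1574188643996426717911021553751872424038880506484264762497131900360458752,
    880704600193252631693140956807323185151782792805788970055998696642316800, 0, 0),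
   (1332799513257141134105132927808910482578613656206441018191989129278390784,
    880785624821579507135231983358843716799186978716628797623440499397886464, 0, 0),
   (718702494643749109329379861249865069651229494459610138660399446997076480,
    880869960282189929094074147019601457148041227673052937090636778624782848, 0, 0),
   (1091251765931565524270873134961347921568828831739437475938691354043353600,
    880795692095569140490243970747178114205666583538743646847111264215763456, 0, 0),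
   (1263701025231626458113564282168686006332642772830924007877798953723890176,
    880751813038914234253436545707197262662490786799765974310417312537643520, 0, 0),
   (884287094004430866810017908485214350052465058846839595853628910128857600,
    884287094004430866810017908485214350052465058846839595853628910128857600, 0, 1),
   (656644123359645496003455212748647804651841602069639990693827950907228672,
    884347849346187184961243229877854403872404678156841641503968404884163072, 0, 0),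
   (873985034302251881779496887298890801568922175109446906511078560593609216,
    884317453589221340815678793618742876103585941955897231162438164467419648, 0, 0),
   (830823852885029341664848477252392705709260357181317827608289969339631105,
    884303967017809556090028755095057510346971092521483794648316120540908032, 0, 0),
   (879132707344934650470237992869536887418942253590396818924111804721794561,
    884303963742863553986437581702188518255299577083851383065940679205589504, 0, 0),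
   (641147220549026750904803126618764133070139703897017106263347166621206017,
    884361352363012318023054120754780024579446804895427904284401630557241856, 0, 1),
   (1072307379645162334490064715406214932251504132962223951587217442000602625,
    884266814835194457472302819907558715716804656448625183334009321013383680, 0, 0),
   (917095626340254118100379686562436410873616722578088741252994095136640513,
    884307307430624292640648319027297428186435695659400358191745446147789312, 0, 1),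
   (1072368134929059418391458956524404179723133043288121041151691390119839233,
    884297223743366348942379908055549411570182604540774215388200640375689728, 0, 0),
   (848064732206292436243391344097648856316383937697630927812038598749324801,
    884297217164540041196990491400036322451267614267906194728002154809264640, 0, 0),
   (1199996492835488647124028475629970411544297402352637553382561856966102529,
    884270221013580695682266808290183224947902932776246527461484391674939904, 0, 1),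
   (1232751151204282548836244485349974095974277536598603984194320897954810368,
    884256731138304285827148681137374489829234056169559382985865110309310976, 0, 1),
   (708444304031995258580481770301491615832882547194984334615718627245556224,
    884364725631285442984866401455648628401770946327100987113959393023494656, 0, 0),
   (1063702169087412699308634718362212010184847180006258149340011080343618048,
    884273600870293525007196981671039340835927531541243934223431862606889472, 0, 0),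
   (1289695621803713071852600312707569761196162293350006004737777262470368769,
    884256737729964149513501108735412777605421433875215435853650265501075968, 0, 1),
   (967114767163738171331691533979940272419367958129638888753028410901004800,
    884293827434793572438164716370153565402489286897321305952774879613291008, 0, 1),
   (963707769723837365961672006868370356555527240677348874033413610728325632,
    884317470044276326621349219029108395025647667628319581789872538929072640, 0, 0),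
   (998202978723841532001938897362238532288507191222035509569427521770359296,
    884310703742388984551320017991340968376463756819082071897005055531289088, 0, 1),
   (1327577664179328635831677864785487867235390548183543882558606735345978881,
    884222975254601513319897986419573414886330863272835869714660029297596928, 0, 0),
   (1393073441833951901627341715208482537389148660246960597277881750531870209,
    884182479387445810836292652029635582944821226177065438670245584412609024, 0, 1),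
   (1339633757809189923450129929071517382205518777182164485213197732407673344,
    884206085827948233520924781740051562554068209523669801026756165639864832, 0, 1),
   (1156855531397530925859025971586133997043606442254267683819065663109464576,
    884263484311488990320967793471588899773850450345609874305413497712280064, 0, 1),
   (1589709136773234727241558896112950582054262989843584221774218907482588673,
    884152093500287169699659738964446280785305890766526399760572753530849792, 0, 1),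
   (801567277199314049863927254241249361712007909959000707505210883503030784,
    891239459394543124494208756141238542754801621968341367710114994763334144, 0, 0),
   (801567277199314049863927254241249361712007909959000707505210883503030784,
    886064836278229964743512316506471701579796733814231214740604089504630273, 0, 0),
   (884287094004430866810017908485214350052465058846839595853628910128857600,
    884287094004430866810017908485214350052465058846839595853628910128857600, 1, 0)]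

set_option maxRecDepth 100000 in
theorem chk : chkAll gens crt = true := by decide +kernel

/-- the vector of a list -/
def lv (l : List ℤ) (h : leechB l = true) : leechLattice := ⟨vec l, vec_mem_of_leechB h⟩

theorem vec_l10 (N : ℕ) (p : GolayPt) : vec (l10 N) p = d10 N (idx p) := by
  unfold l10
  rw [Co0Matrix.getD_range_map]

theorem exists_cert {g : List ℤ} (hg : g ∈ gens) : ∃ w z : leechLattice, ∃ e d : ℤ, vec g =
    (((mo n0 Q0 • w - w + e • lv s0 s0_leech + d • lv t0 t0_leech + (2 : ℕ) • z : leechLattice)) : GolayPt → ℤ) := by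
  obtain ⟨⟨w, z, e, d⟩, h⟩ := chkAll_spec _ _ chk g hg
  unfold rowB at h
  rw [Bool.and_eq_true, Bool.and_eq_true, List.all_eq_true] at h
  obtain ⟨h1, h2, h3⟩ := h
  refine ⟨lv (l10 w) h1, lv (l10 z) h2, e, d, ?_⟩
  funext p
  have h4 := of_decide_eq_true (h3 (idx p) (List.mem_range.2 (idx_lt p)))
  rw [vec_apply, h4]
  simp only [AddSubgroup.coe_add, AddSubgroup.coe_sub, AddSubgroup.coe_zsmul, AddSubgroup.coe_nsmul, Pi.add_apply,
    Pi.sub_apply, Pi.smul_apply, y_apply, lv, vec_l10, idx_pt (Q0_QI _ (idx_lt p)).1]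
  rw [smul_eq_mul, smul_eq_mul, nsmul_eq_mul, vec_apply, vec_apply]
  push_cast
  rfl

/-! ### The fixed classes -/

/-- `y - 1` on `Λ/2Λ` -/
noncomputable def psi : L2 →+ L2 := act (mo n0 Q0) - AddMonoidHom.id L2

theorem psi_cl (v : leechLattice) : psi (cl v) = cl (mo n0 Q0 • v - v) := by
  unfold psi
  rw [AddMonoidHom.sub_apply, act_cl, AddMonoidHom.id_apply, map_sub]

/-- `(y - 1) Λ/2Λ` together with the classes of `s`, `t` -/
noncomputable def T : AddSubgroup L2 :=
  psi.range ⊔ (AddSubgroup.zmultiples (cl (lv s0 s0_leech)) ⊔ AddSubgroup.zmultiples (cl (lv t0 t0_leech)))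

theorem cl_mem_T (v : leechLattice) : cl v ∈ T := by
  have h := leech_le ((T.comap cl).map leechLattice.subtype) (by
    intro g hg
    obtain ⟨w, z, e, d, h⟩ := exists_cert hg
    rw [h]
    refine AddSubgroup.mem_map.2 ⟨mo n0 Q0 • w - w + e • lv s0 s0_leech + d • lv t0 t0_leech + (2 : ℕ) • z, ?_, rfl⟩
    rw [AddSubgroup.mem_comap, map_add, map_add, map_add, ← psi_cl, Cfsg.Agent.MonsterU.Lam2.cl_two, add_zero,
      map_zsmul, map_zsmul, add_assoc]
    refine AddSubgroup.add_mem_sup ⟨_, rfl⟩ (AddSubgroup.add_mem_sup ?_ ?_)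
    · exact AddSubgroup.zsmul_mem _ (AddSubgroup.mem_zmultiples _) _
    · exact AddSubgroup.zsmul_mem _ (AddSubgroup.mem_zmultiples _) _)
  obtain ⟨w, hw, hwv⟩ := AddSubgroup.mem_map.1 (h v.2)
  have : w = v := Subtype.ext hwv
  rw [← this]
  exact hw

theorem card_zm (x : L2) : Nat.card (AddSubgroup.zmultiples x) ≤ 2 := by
  rw [Nat.card_zmultiples]
  refine Nat.le_of_dvd (by norm_num) (addOrderOf_dvd_of_nsmul_eq_zero ?_)
  rw [two_nsmul, Cfsg.Agent.MonsterU.Lam2.add_self]

theorem card_ker : Nat.card psi.ker ≤ 4 := by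
  have h1 : Nat.card psi.ker * Nat.card psi.range = Nat.card L2 := by
    rw [AddSubgroup.card_eq_card_quotient_mul_card_addSubgroup psi.ker,
      Nat.card_congr (QuotientAddGroup.quotientKerEquivRange psi).toEquiv, mul_comm]
  have h2 : Nat.card L2 ≤ Nat.card psi.range * (2 * 2) := by
    have h3 : Function.Surjective fun x : psi.range × AddSubgroup.zmultiples (cl (lv s0 s0_leech)) ×
        AddSubgroup.zmultiples (cl (lv t0 t0_leech)) => (x.1 : L2) + (x.2.1 + x.2.2) := by
      intro x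
      obtain ⟨v, rfl⟩ := cl_surjective x
      obtain ⟨a, ha, b, hb, hab⟩ := AddSubgroup.mem_sup.1 (cl_mem_T v)
      obtain ⟨c, hc, d, hd, hcd⟩ := AddSubgroup.mem_sup.1 hb
      exact ⟨(⟨a, ha⟩, ⟨c, hc⟩, ⟨d, hd⟩), by rw [← hab, ← hcd]⟩
    have h4 := Nat.card_le_card_of_surjective _ h3
    rw [Nat.card_prod, Nat.card_prod] at h4
    exact h4.trans (Nat.mul_le_mul le_rfl (Nat.mul_le_mul (card_zm _) (card_zm _)))
  rw [← h1, mul_comm] at h2
  exact (Nat.le_of_mul_le_mul_left h2 Nat.card_pos :)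

theorem norm_congr {v w : leechLattice} (h : cl v = cl w)
    (hn : sqNorm (v : GolayPt → ℤ) + sqNorm (w : GolayPt → ℤ) < 128) :
    sqNorm (v : GolayPt → ℤ) = sqNorm (w : GolayPt → ℤ) := by
  obtain ⟨z, hz⟩ := cl_eq.1 h
  have h1 := congrArg (fun a : leechLattice => (a : GolayPt → ℤ)) hz
  rcases CpAutBig.FixCount.sqNorm_congr w.2 z.2 h1 hn with h2 | h2
  · rw [h2]
  · rw [h2]
    simp only [sqNorm, _root_.Pi.neg_apply, _root_.even_two, _root_.Even.neg_pow, _root_.Fintype.sum_option]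

theorem sqNorm_U : sqNorm ((Spor.leechU : leechLattice) : GolayPt → ℤ) = 32 := by
  decide +kernel

theorem sqNorm_e : sqNorm ((Co0Base.e8 none : leechLattice) : GolayPt → ℤ) = 64 := by
  rw [Co0Base.e8_coe]
  decide +kernel

theorem sqNorm_d : sqNorm ((Co0Base.e8 none - Spor.leechU : leechLattice) : GolayPt → ℤ) = 32 := by
  rw [AddSubgroup.coe_sub, Co0Base.e8_coe]
  decide +kernel

theorem sqNorm_z : sqNorm ((0 : leechLattice) : GolayPt → ℤ) = 0 := by
  simp [sqNorm]

theorem y_e8 : mo n0 Q0 • Co0Base.e8 none = Co0Base.e8 none := by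
  apply Subtype.ext
  funext j
  have h23 : idx none = 23 := by decide +kernel
  have hpt : pt 23 = none := by
    have := pt_idx none
    rwa [h23] at this
  have h1 : (el Q0 : Equiv.Perm GolayPt) none = none := by
    rw [coe_el (ok_of_okP Q0_ok), permOf_apply, h23, Q0_none, hpt]
  rw [mo_smul_e8 (isCode_of_inE n0_inE), h1, Co0Base.e8_coe, Pi.single_apply]
  by_cases h : none = j
  · subst h
    rw [if_pos rfl, if_pos rfl, h23, n0_none]
    rfl
  · rw [if_neg h, if_neg (Ne.symm h)]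

theorem U_ne : cl Spor.leechU ≠ 0 := by
  intro h
  rw [← map_zero cl] at h
  have h1 := norm_congr h (by rw [sqNorm_U, sqNorm_z]; norm_num)
  rw [sqNorm_U, sqNorm_z] at h1
  omega

theorem f0_ne_U : f0 ≠ cl Spor.leechU := by
  intro h
  have h1 := norm_congr (v := Co0Base.e8 none) h (by rw [sqNorm_U, sqNorm_e]; norm_num)
  rw [sqNorm_U, sqNorm_e] at h1
  omega

/-- **The fixed classes.** -/
theorem fixed {x : L2} (hx : mo n0 Q0 • x = x) :
    x = 0 ∨ x = f0 ∨ x = cl Spor.leechU ∨ x = f0 + cl Spor.leechU := by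
  classical
  have hk : ∀ {x : L2}, mo n0 Q0 • x = x → x ∈ (psi.ker : Set L2) := by
    intro x h
    show psi x = 0
    have : psi x = mo n0 Q0 • x - x := rfl
    rw [this, h, sub_self]
  have hf : mo n0 Q0 • f0 = f0 := by
    show mo n0 Q0 • cl (Co0Base.e8 none) = cl (Co0Base.e8 none)
    rw [smul_cl, y_e8]
  have hU : mo n0 Q0 • cl Spor.leechU = cl Spor.leechU := by
    rw [smul_cl, mo_smul_leechU n0_inE Q0_ok]
  have hs : ({0, f0, cl Spor.leechU, f0 + cl Spor.leechU} : Set L2) ⊆ (psi.ker : Set L2) := by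
    intro z hz
    have h1 : f0 ∈ psi.ker := hk hf
    have h2 : cl Spor.leechU ∈ psi.ker := hk hU
    simp only [Set.mem_insert_iff, Set.mem_singleton_iff] at hz
    rcases hz with rfl | rfl | rfl | rfl
    · exact psi.ker.zero_mem
    · exact h1
    · exact h2
    · exact psi.ker.add_mem h1 h2
  have hc : ({0, f0, cl Spor.leechU, f0 + cl Spor.leechU} : Set L2).ncard = 4 := by
    have e1 : (0 : L2) ≠ f0 := f0_ne.symm
    have e2 : (0 : L2) ≠ cl Spor.leechU := U_ne.symm
    have e3 : (0 : L2) ≠ f0 + cl Spor.leechU := fun h => f0_ne_U (Cfsg.Agent.MonsterU.Lam2.eq_of_add_eq_zero h.symm)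
    have e4 : f0 ≠ f0 + cl Spor.leechU := fun h => U_ne (left_eq_add.1 h)
    have e5 : cl Spor.leechU ≠ f0 + cl Spor.leechU := fun h => f0_ne (right_eq_add.1 h)
    rw [Set.ncard_insert_of_notMem (by simp [e1, e2, e3]), Set.ncard_insert_of_notMem (by simp [f0_ne_U, e4]),
      Set.ncard_pair e5]
  have h1 := Set.eq_of_subset_of_ncard_le hs (by
    rw [hc]
    exact card_ker) (Set.toFinite _)
  have h2 : x ∈ ({0, f0, cl Spor.leechU, f0 + cl Spor.leechU} : Set L2) := by
    rw [h1]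
    exact hk hx
  simpa using h2

/-- **An element commuting with `y` is a signed permutation.** -/
theorem mem_N {g : Co0} (hc : g * mo n0 Q0 = mo n0 Q0 * g) :
    g ∈ SporadicA.Co1Simple.N := by
  have h1 : mo n0 Q0 • (g • f0) = g • f0 := by
    show mo n0 Q0 • (g • cl (Co0Base.e8 none)) = g • cl (Co0Base.e8 none)
    rw [smul_cl, smul_cl, ← mul_smul, ← hc, mul_smul, y_e8]
  have hn : sqNorm ((g • Co0Base.e8 none : leechLattice) : GolayPt → ℤ) = 64 := by rw [sqNorm_smul, sqNorm_e]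
  have hcl : g • f0 = cl (g • Co0Base.e8 none) := rfl
  rcases fixed h1 with h | h | h | h
  · exfalso
    rw [hcl, ← map_zero cl] at h
    have h2 := norm_congr h (by rw [hn, sqNorm_z]; norm_num)
    rw [hn, sqNorm_z] at h2
    omega
  · exact Cfsg.Agent.MonsterU.CoFrameL2.mem_N_of_cong ((Cfsg.Agent.MonsterU.CoFrameL2.cong_iff_cl _ _).2 h)
  · exfalso
    rw [hcl] at h
    have h2 := norm_congr h (by rw [hn, sqNorm_U]; norm_num)
    rw [hn, sqNorm_U] at h2
    omega
  · exfalso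
    have h3 : f0 + cl Spor.leechU = cl (Co0Base.e8 none - Spor.leechU) := (Cfsg.Agent.MonsterU.Lam2.cl_sub _ _).symm
    rw [hcl, h3] at h
    have h2 := norm_congr h (by rw [hn, sqNorm_d]; norm_num)
    rw [hn, sqNorm_d] at h2
    omega

end Cfsg.Agent.H490.OZ.Sixteen
end

-- part: H490/OZ/SixteenB
section
/-!
# An element of order 16 of `Co₂`: the centralizer has order at most 32, and it is rational (helper490)
-/

set_option autoImplicit false
open scoped Pointwise

namespace Cfsg.Agent.H490.OZ.Sixteen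

open Cfsg Cfsg.Agent.SporadicA.GolayBase Cfsg.Agent.SporadicA.GolayPerm
open Cfsg.Agent.SporadicStructure.M24El Cfsg.Agent.SporadicA.Co0Mono
open Cfsg.Agent.SporadicStructure
open Cfsg.Agent.Co2Type.Mono
open Cfsg.Agent.H153.Zeros (mpw peq peq_iff mo2_pow)
open Subgroup (centralizer mem_centralizer_singleton_iff)

/-! ### Signed permutations -/

/-- A signed permutation of the frame is `mo m P`. -/
theorem exists_mo {g : Co0} (hg : g ∈ SporadicA.Co1Simple.N) :
    ∃ m P, isCode m = true ∧ ok P = true ∧ P < 2 ^ 120 ∧ g = mo m P := by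
  obtain ⟨σ, hσ, c, hc, h⟩ := StdCross.exists_signedPerm g ((SporadicA.Co1Simple.mem_N_iff _).1 hg)
  obtain ⟨P, hP, hlt, hel⟩ := exists_el ⟨σ, hσ⟩
  obtain ⟨w, hw, hwc⟩ := hc
  obtain ⟨m, hm, hcd⟩ := exists_cd ⟨w, hw⟩
  refine ⟨m, P, hm, hP, hlt, ?_⟩
  apply Co0Base.co0_ext
  intro v
  apply Subtype.ext
  funext p
  rw [h, Co0Base.signedPerm_apply]
  unfold mo
  rw [mul_smul, signCo0_smul, signMap_apply, permCo0_smul, permMap_apply, hcd, hel, ← hwc]
  show _ = sgn (w p) * (v : GolayPt → ℤ) (σ.symm p)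
  have h2 : w p = 0 ∨ w p = 1 := by
    have : ∀ a : ZMod 2, a = 0 ∨ a = 1 := by decide
    exact this _
  have h3 : p ∈ support₂ w ↔ w p ≠ 0 := by simp [support₂]
  rcases h2 with h2 | h2
  · rw [if_neg (by rw [h3]; exact fun h => h h2), h2, sgn_zero, one_mul]
  · rw [if_pos (by rw [h3, h2]; decide), h2, sgn_one, neg_one_mul]

/-- A signed permutation fixing `u`. -/
theorem inE_okP {m P : ℕ} (hm : isCode m = true) (hP : ok P = true) (h : mo m P • Spor.leechU = Spor.leechU) :
    inE m = true ∧ okP P = true := by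
  have hp := (ok_iff.1 hP).1
  have key : ∀ q : ℕ, q < 24 → q = 0 ∨ q = 23 → (papp P q = 0 ∨ papp P q = 23) ∧ m.testBit (papp P q) = false := by
    intro q hq hq'
    have h1 := congrArg (fun v : leechLattice => (v : GolayPt → ℤ) (permOf P hp (pt q))) h
    unfold mo at h1
    rw [mul_smul, signCo0_smul, signMap_apply, permCo0_smul, permMap_apply, coe_cd hm, word_apply, coe_el hP,
      Equiv.symm_apply_apply, leechU_apply, leechU_apply, idx_permOf, idx_pt hq, if_pos hq'] at h1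
    by_cases h2 : papp P q = 0 ∨ papp P q = 23
    · refine ⟨h2, ?_⟩
      rw [if_pos h2] at h1
      cases hb : m.testBit (papp P q) with
      | false => rfl
      | true =>
        rw [hb, if_pos rfl, sgn_one] at h1
        omega
    · rw [if_neg h2] at h1
      exfalso
      cases hb : m.testBit (papp P q) with
      | false =>
        rw [hb] at h1
        simp [sgn_zero] at h1
      | true =>
        rw [hb, if_pos rfl, sgn_one] at h1
        omega
  obtain ⟨a1, a2⟩ := key 0 (by norm_num) (Or.inl rfl)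
  obtain ⟨b1, b2⟩ := key 23 (by norm_num) (Or.inr rfl)
  have hne : papp P 0 ≠ papp P 23 := fun h => by
    have := papp_injOn hp (by norm_num) (by norm_num) h
    omega
  rw [inE_iff, okP_iff]
  rcases a1 with a1 | a1 <;> rcases b1 with b1 | b1
  · exact absurd (a1.trans b1.symm) hne
  · rw [a1] at a2
    rw [b1] at b2
    exact ⟨⟨hm, a2, b2⟩, hP, Or.inl ⟨a1, b1⟩⟩
  · rw [a1] at a2
    rw [b1] at b2
    exact ⟨⟨hm, b2, a2⟩, hP, Or.inr ⟨a1, b1⟩⟩
  · exact absurd (a1.trans b1.symm) hne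

/-- the data of an element commuting with `y` -/
structure Dat (g : Spor.Co2) (m P : ℕ) : Prop where
  inE : inE m = true
  okP : okP P = true
  lt : P < 2 ^ 120
  eq : toCo0 g = mo m P
  sg : m ^^^ pimg P n0 = n0 ^^^ pimg Q0 m
  pm : ∀ i < 24, papp P (papp Q0 i) = papp Q0 (papp P i)

theorem exists_dat {g : Spor.Co2} (hg : g ∈ centralizer ({mo2 n0 Q0} : Set Spor.Co2)) : ∃ m P, Dat g m P := by
  have h1 := congrArg toCo0 (mem_centralizer_singleton_iff.1 hg)
  rw [map_mul, map_mul, toCo0_mo2 n0_inE Q0_ok] at h1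
  obtain ⟨m, P, hm, hP, hlt, he⟩ := exists_mo (mem_N h1)
  have h2 := toCo0_smul g
  rw [he] at h2
  obtain ⟨hmE, hPk⟩ := inE_okP hm hP h2
  rw [he, mo_mul hm (isCode_of_inE n0_inE) hP (ok_of_okP Q0_ok),
    mo_mul (isCode_of_inE n0_inE) hm (ok_of_okP Q0_ok) hP] at h1
  obtain ⟨h3, h4⟩ := mo_inj (isCode_xor hm (isCode_pimg hP (isCode_of_inE n0_inE)))
    (isCode_xor (isCode_of_inE n0_inE) (isCode_pimg (ok_of_okP Q0_ok) hm)) h1
  have h5 := el_inj (ok_pcomp hP (ok_of_okP Q0_ok)) (ok_pcomp (ok_of_okP Q0_ok) hP) (pcomp_lt _ _) (pcomp_lt _ _) h4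
  refine ⟨m, P, hmE, hPk, hlt, he, h3, fun i hi => ?_⟩
  rw [← papp_pcomp P Q0 hi, h5, papp_pcomp Q0 P hi]

/-! ### Commuting permutations -/

/-- iterates of the permutation -/
def qit (e x : ℕ) : ℕ := Nat.iterate (papp Q0) e x

theorem qit_succ (e x : ℕ) : qit (e + 1) x = papp Q0 (qit e x) := Function.iterate_succ_apply' _ _ _

theorem qit_lt (e : ℕ) {x : ℕ} (hx : x < 24) : qit e x < 24 := by
  induction e with
  | zero => exact hx
  | succ e ih =>
    rw [qit_succ]
    exact papp_lt (ok_iff.1 (ok_of_okP Q0_ok)).1 ih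

theorem it_comm {P : ℕ} (hc : ∀ i < 24, papp P (papp Q0 i) = papp Q0 (papp P i)) (e : ℕ) {x : ℕ} (hx : x < 24) :
    papp P (qit e x) = qit e (papp P x) := by
  induction e with
  | zero => rfl
  | succ e ih => rw [qit_succ, qit_succ, hc _ (qit_lt e hx), ih]

/-- the table: representative and exponent -/
def tb : List (ℕ × ℕ) := [(0, 0), (1, 0), (2, 0), (1, 7), (4, 0), (4, 3), (2, 5), (2, 2), (1, 3), (2, 4), (1, 2),
  (1, 1), (2, 6), (2, 7), (1, 6), (2, 3), (1, 5), (17, 0), (1, 4), (17, 1), (2, 1), (4, 2), (4, 1), (23, 0)]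

theorem tb_spec : ∀ i < 24, (tb.getD i (0, 0)).1 < 24 ∧ qit (tb.getD i (0, 0)).2 (tb.getD i (0, 0)).1 = i := by
  decide +kernel

/-- the candidate with given values at the representatives -/
def cand (f : ℕ → ℕ) : List ℕ := (List.range 24).map fun i => qit (tb.getD i (0, 0)).2 (f (tb.getD i (0, 0)).1)

theorem eq_cand {P : ℕ} (hP : ok P = true) (hlt : P < 2 ^ 120)
    (hc : ∀ i < 24, papp P (papp Q0 i) = papp Q0 (papp P i)) : P = pack (cand (papp P)) := by
  have h3 : (32 : ℕ) ^ 24 = 2 ^ 120 := by norm_num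
  have hp := (ok_iff.1 hP).1
  have hl : ∀ a ∈ cand (papp P), a < 32 := by
    intro a ha
    obtain ⟨i, hi, rfl⟩ := List.mem_map.1 ha
    exact lt_trans (qit_lt _ (papp_lt hp (tb_spec i (List.mem_range.1 hi)).1)) (by norm_num)
  refine eq_of_papp 24 P _ (by rw [h3]; exact hlt) ?_ fun i hi => ?_
  · have h4 := pack_lt hl
    have h5 : (cand (papp P)).length = 24 := by
      unfold cand
      rw [List.length_map, List.length_range]
    rwa [h5] at h4
  · rw [papp_pack hl]
    unfold cand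
    rw [List.getD_eq_getElem _ _ (by rw [List.length_map, List.length_range]; exact hi), List.getElem_map,
      List.getElem_range, ← it_comm hc _ (tb_spec i hi).1, (tb_spec i hi).2]

/-- values at the representatives -/
def fv (a b r s t u k : ℕ) : ℕ :=
  if k = 1 then a else if k = 2 then b else if k = 4 then r else if k = 17 then s else if k = 0 then t else u

theorem tb_rep : ∀ i < 24, (tb.getD i (0, 0)).1 = 1 ∨ (tb.getD i (0, 0)).1 = 2 ∨ (tb.getD i (0, 0)).1 = 4 ∨
    (tb.getD i (0, 0)).1 = 17 ∨ (tb.getD i (0, 0)).1 = 0 ∨ (tb.getD i (0, 0)).1 = 23 := by decide +kernel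

theorem cand_fv (P : ℕ) : cand (papp P) =
    cand (fv (papp P 1) (papp P 2) (papp P 4) (papp P 17) (papp P 0) (papp P 23)) := by
  unfold cand
  refine List.map_congr_left fun i hi => ?_
  rcases tb_rep i (List.mem_range.1 hi) with h | h | h | h | h | h <;> rw [h] <;> rfl

/-- the cycles -/
def A8 : List ℕ := [1, 11, 10, 8, 18, 16, 14, 3]
/-- the cycles -/
def B8 : List ℕ := [2, 20, 7, 15, 9, 6, 12, 13]
/-- the cycles -/
def R4 : List ℕ := [4, 22, 21, 5]
/-- the cycles -/
def S2 : List ℕ := [17, 19]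

theorem mem_AB : ∀ b < 24, qit 4 b ≠ b → b ∈ A8 ∨ b ∈ B8 := by decide +kernel
theorem mem_R : ∀ b < 24, qit 4 b = b → qit 2 b ≠ b → b ∈ R4 := by decide +kernel
theorem mem_S : ∀ b < 24, qit 2 b = b → qit 1 b ≠ b → b ∈ S2 := by decide +kernel

/-- the candidates with `1 ↦ a` -/
def chkCand (a T : ℕ) : Bool := (A8 ++ B8).all fun b => R4.all fun r => S2.all fun s =>
  [(0, 23), (23, 0)].all fun t => !(ok (pack (cand (fv a b r s t.1 t.2)))) || Nat.beq (pack (cand (fv a b r s t.1 t.2))) T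

/-- the element mapping `1` to `2` -/
def P1 : ℕ := 6095628560429804549585793617143895

theorem chk1 : chkCand 1 idP = true := by decide +kernel
theorem chk2 : chkCand 2 P1 = true := by decide +kernel

theorem eq_of_chk {g : Spor.Co2} {m P a T : ℕ} (h : Dat g m P) (ha : papp P 1 = a) (hchk : chkCand a T = true) :
    P = T := by
  have hok := ok_of_okP h.okP
  have hp := (ok_iff.1 hok).1
  have e := eq_cand hok h.lt h.pm
  rw [cand_fv, ha] at e
  have hb : papp P 2 ∈ A8 ++ B8 := by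
    rw [List.mem_append]
    refine mem_AB _ (papp_lt hp (by norm_num)) fun h1 => ?_
    rw [← it_comm h.pm 4 (by norm_num)] at h1
    have := papp_injOn hp (qit_lt 4 (by norm_num)) (by norm_num) h1
    revert this
    decide +kernel
  have hr : papp P 4 ∈ R4 := by
    refine mem_R _ (papp_lt hp (by norm_num)) ?_ fun h1 => ?_
    · rw [← it_comm h.pm 4 (by norm_num), show qit 4 4 = 4 by decide +kernel]
    · rw [← it_comm h.pm 2 (by norm_num)] at h1
      have := papp_injOn hp (qit_lt 2 (by norm_num)) (by norm_num) h1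
      revert this
      decide +kernel
  have hs : papp P 17 ∈ S2 := by
    refine mem_S _ (papp_lt hp (by norm_num)) ?_ fun h1 => ?_
    · rw [← it_comm h.pm 2 (by norm_num), show qit 2 17 = 17 by decide +kernel]
    · rw [← it_comm h.pm 1 (by norm_num)] at h1
      have := papp_injOn hp (qit_lt 1 (by norm_num)) (by norm_num) h1
      revert this
      decide +kernel
  have ht : (papp P 0, papp P 23) ∈ [(0, 23), (23, 0)] := by
    rcases (okP_iff.1 h.okP).2 with ⟨h1, h2⟩ | ⟨h1, h2⟩ <;> rw [h1, h2] <;> simp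
  have h1 := List.all_eq_true.1 (List.all_eq_true.1 (List.all_eq_true.1 (List.all_eq_true.1 hchk _ hb) _ hr) _ hs) _ ht
  simp only [← e, hok, Bool.not_true, Bool.false_or, Nat.beq_eq] at h1
  exact h1

/-! ### The kernel checks on the code -/

theorem words1 : allR 12 0 (fun i => !(inE (enc i)) ||
    !(Nat.beq (enc i ^^^ pimg P1 n0) (n0 ^^^ pimg Q0 (enc i)))) = true := by decide +kernel

theorem words2 : allR 12 0 (fun i => !(inE (enc i)) || (!(Nat.beq (enc i) (pimg Q0 (enc i))) ||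
    ((enc i).testBit 1 || ((enc i).testBit 2 || Nat.beq (enc i) 0)))) = true := by decide +kernel

theorem not_two {g : Spor.Co2} {m P : ℕ} (h : Dat g m P) : papp P 1 ≠ 2 := by
  intro h2
  have hP := eq_of_chk h h2 chk2
  obtain ⟨i, hi, hm⟩ := isCode_iff_exists.1 (isCode_of_inE h.inE)
  have h1 := allR_zero_spec words1 i hi
  rw [← hm, h.inE, Bool.not_true, Bool.false_or, Bool.not_eq_true', ← Bool.not_eq_true, Nat.beq_eq] at h1
  exact h1 (hP ▸ h.sg)

theorem sq_of {g : Spor.Co2} (hg : g ∈ centralizer ({mo2 n0 Q0} : Set Spor.Co2)) (k : ℕ) :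
    mo2 n0 Q0 ^ k * g ∈ centralizer ({mo2 n0 Q0} : Set Spor.Co2) := by
  refine mul_mem (pow_mem ?_ k) hg
  exact mem_centralizer_singleton_iff.2 rfl

/-- the permutation of the powers of `y` -/
theorem mpw_perm (k : ℕ) : ∀ x < 24, papp (mpw n0 Q0 k).2 x = qit k x := by
  induction k with
  | zero =>
    intro x hx
    have h : ∀ i < 24, papp idP i = i := by decide +kernel
    exact h x hx
  | succ k ih =>
    intro x hx
    show papp (pcomp Q0 (mpw n0 Q0 k).2) x = _
    rw [papp_pcomp _ _ hx, ih x hx, qit_succ]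

theorem back : ∀ b ∈ B8, ∃ k < 8, qit k b = 2 := by decide +kernel

theorem mem_A {g : Spor.Co2} (hg : g ∈ centralizer ({mo2 n0 Q0} : Set Spor.Co2)) {m P : ℕ} (h : Dat g m P) :
    papp P 1 ∈ A8 := by
  have hok := ok_of_okP h.okP
  have hp := (ok_iff.1 hok).1
  have h1 : papp P 1 ∈ A8 ∨ papp P 1 ∈ B8 := by
    refine mem_AB _ (papp_lt hp (by norm_num)) fun h1 => ?_
    rw [← it_comm h.pm 4 (by norm_num)] at h1
    have := papp_injOn hp (qit_lt 4 (by norm_num)) (by norm_num) h1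
    revert this
    decide +kernel
  refine h1.resolve_right fun h2 => ?_
  obtain ⟨k, -, hk⟩ := back _ h2
  obtain ⟨m', P', h'⟩ := exists_dat (sq_of hg k)
  have h3 := h'.eq
  obtain ⟨e1, e2, e3⟩ := mo2_pow n0_inE Q0_ok k
  rw [map_mul, h.eq, e3, toCo0_mo2 e1 e2, mo_mul (isCode_of_inE e1) (isCode_of_inE h.inE) (ok_of_okP e2) hok] at h3
  obtain ⟨-, h4⟩ := mo_inj (isCode_xor (isCode_of_inE e1) (isCode_pimg (ok_of_okP e2) (isCode_of_inE h.inE)))
    (isCode_of_inE h'.inE) h3
  have h5 := el_inj (ok_pcomp (ok_of_okP e2) hok) (ok_of_okP h'.okP) (pcomp_lt _ _) h'.lt h4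
  apply not_two h'
  rw [← h5, papp_pcomp _ _ (by norm_num), mpw_perm k _ (papp_lt hp (by norm_num)), hk]

/-! ### The centralizer -/

theorem centralizer_le : Nat.card (centralizer ({mo2 n0 Q0} : Set Spor.Co2)) ≤ 32 := by
  classical
  have hd : ∀ g : centralizer ({mo2 n0 Q0} : Set Spor.Co2), ∃ mP : ℕ × ℕ, Dat g.1 mP.1 mP.2 := fun g => by
    obtain ⟨m, P, h⟩ := exists_dat g.2
    exact ⟨(m, P), h⟩
  choose D hD using hd
  let f : centralizer ({mo2 n0 Q0} : Set Spor.Co2) → (A8.toFinset × Bool × Bool) := fun g =>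
    (⟨papp (D g).2 1, List.mem_toFinset.2 (mem_A g.2 (hD g))⟩, (D g).1.testBit (papp (D g).2 1),
      (D g).1.testBit (papp (D g).2 2))
  have hf : Function.Injective f := by
    intro g g' he
    have he1 : papp (D g).2 1 = papp (D g').2 1 := congrArg (fun x => (x.1 : ℕ)) he
    have he2 : (D g).1.testBit (papp (D g).2 1) = (D g').1.testBit (papp (D g').2 1) := congrArg (fun x => x.2.1) he
    have he3 : (D g).1.testBit (papp (D g).2 2) = (D g').1.testBit (papp (D g').2 2) := congrArg (fun x => x.2.2) he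
    have H := hD g
    have H' := hD g'
    obtain ⟨m, P, h⟩ := exists_dat (g⁻¹ * g').2
    generalize (D g).1 = n at *
    generalize (D g).2 = Q at *
    generalize (D g').1 = n' at *
    generalize (D g').2 = Q' at *
    have hQ := (ok_iff.1 (ok_of_okP H.okP)).1
    have hP := (ok_iff.1 (ok_of_okP h.okP)).1
    have h1 : toCo0 g'.1 = toCo0 g.1 * toCo0 (g⁻¹ * g').1 := by
      rw [← map_mul]
      congr 1
      show g'.1 = g.1 * (g.1⁻¹ * g'.1)
      rw [mul_inv_cancel_left]
    rw [h.eq, H.eq, H'.eq, mo_mul (isCode_of_inE H.inE) (isCode_of_inE h.inE) (ok_of_okP H.okP) (ok_of_okP h.okP)]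
      at h1
    obtain ⟨h2, h3⟩ := mo_inj (isCode_of_inE H'.inE)
      (isCode_xor (isCode_of_inE H.inE) (isCode_pimg (ok_of_okP H.okP) (isCode_of_inE h.inE))) h1
    have h4 := el_inj (ok_of_okP H'.okP) (ok_pcomp (ok_of_okP H.okP) (ok_of_okP h.okP)) H'.lt (pcomp_lt _ _) h3
    have h5 : papp P 1 = 1 := by
      rw [h4, papp_pcomp _ _ (by norm_num)] at he1
      exact (papp_injOn hQ (by norm_num) (papp_lt hP (by norm_num)) he1).symm
    have h6 := eq_of_chk h h5 chk1
    have h7 : papp P 2 = 2 := by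
      rw [h6]
      decide +kernel
    have h8 : m.testBit 1 = false := by
      rw [← he1, h2, Nat.testBit_xor, testBit_pimg_papp hQ m (by norm_num)] at he2
      cases hb : m.testBit 1 with
      | false => rfl
      | true =>
        rw [hb, Bool.xor_true] at he2
        exact absurd he2.symm (by simp)
    have h9 : m.testBit 2 = false := by
      have h10 : papp Q' 2 = papp Q 2 := by rw [h4, papp_pcomp _ _ (by norm_num), h7]
      rw [h10, h2, Nat.testBit_xor, testBit_pimg_papp hQ m (by norm_num)] at he3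
      cases hb : m.testBit 2 with
      | false => rfl
      | true =>
        rw [hb, Bool.xor_true] at he3
        exact absurd he3.symm (by simp)
    have h10 : m = pimg Q0 m := by
      have h11 := h.sg
      rw [h6, show pimg idP n0 = n0 by decide +kernel, Nat.xor_comm] at h11
      exact Nat.xor_right_injective h11
    obtain ⟨i, hi, hm⟩ := isCode_iff_exists.1 (isCode_of_inE h.inE)
    have h11 := allR_zero_spec words2 i hi
    have h12 : Nat.beq m (pimg Q0 m) = true := by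
      rw [Nat.beq_eq]
      exact h10
    rw [← hm, h.inE, h12, h8, h9, Bool.not_true, Bool.false_or, Bool.false_or, Bool.false_or, Bool.false_or,
      Nat.beq_eq] at h11
    have h13 := h.eq
    rw [h11, h6, mo_one, ← map_one toCo0] at h13
    have h14 := toCo0_injective h13
    have h15 : g⁻¹ * g' = 1 := Subtype.ext h14
    exact (inv_mul_eq_one.1 h15)
  have h2 := Nat.card_le_card_of_injective f hf
  have h3 : Nat.card (A8.toFinset × Bool × Bool) = 32 := by
    rw [Nat.card_eq_fintype_card, Fintype.card_prod, Fintype.card_prod, Fintype.card_coe, Fintype.card_bool]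
    decide +kernel
  exact h2.trans_eq h3

/-! ### Rationality -/

/-- the conjugation certificate: `mo2 a P` conjugates `y` to `y ^ k` -/
def conjB (k a P : ℕ) : Bool := inE a && (okP P && peq (a ^^^ pimg P n0, pcomp P Q0)
  ((mpw n0 Q0 k).1 ^^^ pimg (mpw n0 Q0 k).2 a, pcomp (mpw n0 Q0 k).2 P))

theorem conj_of {k a P : ℕ} (h : conjB k a P = true) : IsConj (mo2 n0 Q0 ^ k) (mo2 n0 Q0) := by
  unfold conjB at h
  rw [Bool.and_eq_true, Bool.and_eq_true, peq_iff] at h
  obtain ⟨ha, hP, he⟩ := h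
  obtain ⟨e1, e2, e3⟩ := mo2_pow n0_inE Q0_ok k
  obtain ⟨he1, he2⟩ := Prod.mk.inj he
  have h1 : mo2 a P * mo2 n0 Q0 = mo2 n0 Q0 ^ k * mo2 a P := by
    rw [e3, mo2_mul ha n0_inE hP Q0_ok, mo2_mul e1 ha e2 hP, he1, he2]
  refine (isConj_iff.2 ⟨mo2 a P, ?_⟩ : IsConj (mo2 n0 Q0) (mo2 n0 Q0 ^ k)).symm
  rw [h1, mul_inv_cancel_right]

theorem conj3 : IsConj (mo2 n0 Q0 ^ 3) (mo2 n0 Q0) :=
  conj_of (a := 5939296) (P := 5405947491382263735420182690202711) (by decide +kernel)

theorem conj15 : IsConj (mo2 n0 Q0 ^ 15) (mo2 n0 Q0) :=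
  conj_of (a := 3294342) (P := 7368360906821610290156470591134775) (by decide +kernel)

theorem y_pow : mo2 n0 Q0 ^ 16 = 1 := by
  have h : peq (mpw n0 Q0 16) (0, idP) = true := by decide +kernel
  rw [(mo2_pow n0_inE Q0_ok 16).2.2, peq_iff.1 h, mo2_one]

theorem conj_mul {a b : ℕ} (ha : IsConj (mo2 n0 Q0 ^ a) (mo2 n0 Q0)) (hb : IsConj (mo2 n0 Q0 ^ b) (mo2 n0 Q0)) :
    IsConj (mo2 n0 Q0 ^ (a * b)) (mo2 n0 Q0) := by
  rw [pow_mul]
  obtain ⟨c, hc⟩ := isConj_iff.1 ha
  refine IsConj.trans (isConj_iff.2 ⟨c, ?_⟩) hb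
  rw [← conj_pow, hc]

theorem pow_mod_y (k : ℕ) : mo2 n0 Q0 ^ (k % 16) = mo2 n0 Q0 ^ k := by
  conv_rhs => rw [← Nat.div_add_mod k 16, pow_add, pow_mul, y_pow, one_pow, one_mul]

/-- **`y` is rational.** -/
theorem rational {k : ℕ} (hk : k.Coprime 2) : IsConj (mo2 n0 Q0 ^ k) (mo2 n0 Q0) := by
  have h1 : k % 2 = 1 := Nat.odd_iff.1 (Nat.coprime_two_right.1 hk)
  rw [← pow_mod_y]
  have c9 := conj_mul conj3 conj3
  have c27 := conj_mul c9 conj3
  have c45 := conj_mul conj15 conj3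
  have c135 := conj_mul conj15 c9
  have c405 := conj_mul conj15 c27
  rw [← pow_mod_y] at c9 c27 c45 c135 c405
  have h2 : k % 16 = 1 ∨ k % 16 = 3 ∨ k % 16 = 5 ∨ k % 16 = 7 ∨ k % 16 = 9 ∨ k % 16 = 11 ∨ k % 16 = 13 ∨
      k % 16 = 15 := by omega
  rcases h2 with h | h | h | h | h | h | h | h <;> rw [h]
  · rw [pow_one]
  · exact conj3
  · exact c405
  · exact c135
  · exact c9
  · exact c27
  · exact c45
  · exact conj15

end Cfsg.Agent.H490.OZ.Sixteen
end

-- part: H490/OZ/CoTwo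
section
/-!
# One vanishing class: `Co₂` (helper490, S4842)
-/

set_option autoImplicit false
set_option maxRecDepth 100000

open Cfsg Cfsg.Agent.Characters Cfsg.Agent.H732.VZ Cfsg.Agent.H604.OZ Cfsg.Agent.H672.OZ
open Subgroup (centralizer mem_centralizer_singleton_iff)

namespace Cfsg.Agent.H490.OZ

universe u

theorem cent_eleven {x : Spor.Co2} (hx : orderOf x = 11) : Nat.card (centralizer ({x} : Set Spor.Co2)) = 11 := by
  have hcard : Nat.card Spor.Co2 = 42305421312000 := H345.RecCo.card_co2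
  have hfin : Finite Spor.Co2 := Nat.finite_of_card_ne_zero (by rw [hcard]; norm_num)
  have h11 : Nat.Prime 11 := by norm_num
  have hxc : x ∈ centralizer ({x} : Set Spor.Co2) := mem_centralizer_singleton_iff.2 rfl
  have key : ∀ q : ℕ, q.Prime → q ≠ 11 → ¬ H58.Rec.HasOrd Spor.Co2 (11 * q) →
      ¬ q ∣ Nat.card (centralizer ({x} : Set Spor.Co2)) := by
    intro q hq hne hno hd
    have hq' : Fact q.Prime := ⟨hq⟩
    obtain ⟨y, hy⟩ := exists_prime_orderOf_dvd_card' q hd
    have hxy : Commute x (y : Spor.Co2) := (mem_centralizer_singleton_iff.1 y.2).symm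
    exact hno (H58.Rec.hasOrd_mul hxy hx (by rw [Subgroup.orderOf_coe, hy])
      ((Nat.coprime_primes h11 hq).2 (Ne.symm hne)))
  have h23 : ¬ H58.Rec.HasOrd Spor.Co2 (11 * 23) := by
    rintro ⟨g, hg⟩
    have hz : orderOf (g ^ 11) = 23 := by
      rw [orderOf_pow_of_dvd (by norm_num) (by rw [hg]; norm_num), hg]
    have h1 := H604.Cop.Conway.self_co2 (g ^ 11) hz
    have h2 : Subgroup.zpowers g ≤ centralizer ({g ^ 11} : Set Spor.Co2) := by
      rw [Subgroup.zpowers_le, mem_centralizer_singleton_iff]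
      exact (Commute.refl g).pow_right 11
    have h3 := Subgroup.card_dvd_of_le h2
    rw [Nat.card_zpowers, hg, h1] at h3
    revert h3
    norm_num
  have k2 := key 2 (by norm_num) (by norm_num) H345.RecCo.co2_n22
  have k3 := key 3 (by norm_num) (by norm_num) H345.RecCo.co2_n33
  have k5 := key 5 (by norm_num) (by norm_num) H345.RecCo.co2_n55
  have k7 := key 7 (by norm_num) (by norm_num) H345.RecCo.co2_n77
  have k23 := key 23 (by norm_num) (by norm_num) h23
  have hn : Nat.card (centralizer ({x} : Set Spor.Co2)) ∣ 11 * (2 ^ 18 * (3 ^ 6 * (5 ^ 3 * (7 * 23)))) := by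
    have h1 : Nat.card (centralizer ({x} : Set Spor.Co2)) ∣ Nat.card Spor.Co2 := Subgroup.card_subgroup_dvd_card _
    rw [hcard] at h1
    exact h1.trans (by norm_num)
  have h1 : 11 ∣ Nat.card (centralizer ({x} : Set Spor.Co2)) := by
    have h2 := _root_.orderOf_dvd_natCard (⟨x, hxc⟩ : centralizer ({x} : Set Spor.Co2))
    rwa [Subgroup.orderOf_mk, hx] at h2
  generalize Nat.card (centralizer ({x} : Set Spor.Co2)) = c at *
  have cop : ∀ q : ℕ, q.Prime → ¬ q ∣ c → ∀ k, c.Coprime (q ^ k) := fun q hq h k =>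
    (((Nat.Prime.coprime_iff_not_dvd hq).2 h).symm).pow_right k
  have e1 : c.Coprime (2 ^ 18 * (3 ^ 6 * (5 ^ 3 * (7 * 23)))) := by
    refine Nat.Coprime.mul_right (cop 2 (by norm_num) k2 _) (Nat.Coprime.mul_right (cop 3 (by norm_num) k3 _)
      (Nat.Coprime.mul_right (cop 5 (by norm_num) k5 _) (Nat.Coprime.mul_right ?_ ?_)))
    · simpa using cop 7 (by norm_num) k7 1
    · simpa using cop 23 (by norm_num) k23 1
  exact Nat.dvd_antisymm (e1.dvd_of_dvd_mul_right hn) h1

theorem row_co2' : H730.OZ.Row Spor.Co2 := by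
  have hN : Nat.card Spor.Co2 = 42305421312000 := H345.RecCo.card_co2
  have hfin : Finite Spor.Co2 := Nat.finite_of_card_ne_zero (by rw [hN]; norm_num)
  have hs : IsSimpleGroup Spor.Co2 := H49.CoStab.simple_co2
  refine row_of fun χ x h => ?_
  have h4 : 4 ≤ cent x := four_le_cent h (by rw [hN]; norm_num) (by rw [hN]; norm_num)
  obtain ⟨z, hz, -, hC, -⟩ := H633.Dl.Co2Seven.main
  have h7 : charDegree (χ : Spor.Co2 → ℂ) % 7 = 1 ∨ charDegree (χ : Spor.Co2 → ℂ) % 7 = 7 - 1 :=
    mod_eight h (by rw [hN]; norm_num) (by rw [hN]; norm_num) (by rw [hN]; norm_num) hz hC h4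
  have hiso : ∀ r ∈ [7, 11, 23], charDegree (χ : Spor.Co2 → ℂ) % r = 0 ∨
      charDegree (χ : Spor.Co2 → ℂ) % r = 1 ∨ charDegree (χ : Spor.Co2 → ℂ) % r = r - 1 := by
    intro r hr
    simp only [List.mem_cons, List.not_mem_nil, or_false] at hr
    rcases hr with rfl | rfl | rfl
    · exact Or.inr h7
    · exact iso_mod h (by norm_num) (by norm_num) (by rw [hN]; norm_num) (by rw [hN]; norm_num) (by rw [hN]; norm_num)
        (fun y hy => cent_eleven hy) h4
    · exact iso_mod h (by norm_num) (by norm_num) (by rw [hN]; norm_num) (by rw [hN]; norm_num) (by rw [hN]; norm_num)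
        (fun y hy => H604.Cop.Conway.self_co2 y hy) h4
  have hm := mem_of_sieve h hN (l := [(2, 18), (3, 6), (5, 3), (7, 1), (11, 1), (23, 1)]) (by decide +kernel)
    (by
      intro x hx
      simp only [List.mem_cons, List.not_mem_nil, or_false] at hx
      rcases hx with rfl | rfl | rfl | rfl | rfl | rfl <;> norm_num)
    (by decide +kernel) h4 hiso
    (D := [22, 252, 3520, 3564, 6600, 11340, 21504, 304128, 563200, 570240, 967680, 1069200]) (by decide +kernel)
  -- an element of order 16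
  have hy : ∀ m : ℕ, m.Coprime (Nat.card Spor.Co2) →
      IsConj (Co2Type.Mono.mo2 Sixteen.n0 Sixteen.Q0 ^ m) (Co2Type.Mono.mo2 Sixteen.n0 Sixteen.Q0) := fun m hm =>
    Sixteen.rational (hm.coprime_dvd_right (by rw [hN]; norm_num))
  have hy2 : ∃ n, orderOf (Co2Type.Mono.mo2 Sixteen.n0 Sixteen.Q0) = 2 ^ n := by
    have h1 : orderOf (Co2Type.Mono.mo2 Sixteen.n0 Sixteen.Q0) ∣ 2 ^ 4 := orderOf_dvd_of_pow_eq_one Sixteen.y_pow
    obtain ⟨n, -, h2⟩ := (Nat.dvd_prime_pow Nat.prime_two).1 h1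
    exact ⟨n, h2⟩
  have key : ¬ (2 ∣ charDegree (χ : Spor.Co2 → ℂ) ∧ 11 ∣ charDegree (χ : Spor.Co2 → ℂ)) := by
    rintro ⟨h2, h11⟩
    obtain ⟨ho, hc, -⟩ := full h (r := 11) (n := 1) (by norm_num) one_ne_zero (by rw [hN]; norm_num)
      (by rw [hN]; norm_num) (by rw [pow_one]; exact h11)
    rw [pow_one] at hc
    have hx : ¬ IsConj x (Co2Type.Mono.mo2 Sixteen.n0 Sixteen.Q0) := by
      intro hxy
      obtain ⟨c, hc'⟩ := isConj_iff.1 hxy
      obtain ⟨n, hn⟩ := hy2
      have h1 : orderOf x = 2 ^ n := by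
        rw [← hn, ← hc', ← MulAut.conj_apply, MulEquiv.orderOf_eq]
      rw [ho] at h1
      have h3 : (11 : ℕ) ∣ 2 := (by norm_num : Nat.Prime 11).dvd_of_dvd_pow (h1 ▸ dvd_refl 11 : 11 ∣ 2 ^ n)
      revert h3
      norm_num
    have h1 := H849.OZ.one_prime h Nat.prime_two h2 hy2 hy hx
    rw [hc] at h1
    have h3 : cent (Co2Type.Mono.mo2 Sixteen.n0 Sixteen.Q0) ≤ 32 := Sixteen.centralizer_le
    omega
  simp only [List.mem_cons, List.not_mem_nil, or_false] at hm
  rcases hm with hm | hm | hm | hm | hm | hm | hm | hm | hm | hm | hm | hm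
  · exact key (by rw [hm]; norm_num)
  · rw [hm] at h7; norm_num at h7
  · exact key (by rw [hm]; norm_num)
  · exact key (by rw [hm]; norm_num)
  · exact key (by rw [hm]; norm_num)
  · rw [hm] at h7; norm_num at h7
  · rw [hm] at h7; norm_num at h7
  · exact key (by rw [hm]; norm_num)
  · exact key (by rw [hm]; norm_num)
  · exact key (by rw [hm]; norm_num)
  · rw [hm] at h7; norm_num at h7
  · exact key (by rw [hm]; norm_num)

/-- **`Co₂`.** -/
theorem row_co2 {S : Type u} [Group S] [Finite S] (_hs : IsSimpleGroup S) (h : Spor.IsoCo2 S) : H730.OZ.Row S := by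
  obtain ⟨e⟩ := h
  have hfin : Finite Spor.Co2 := Finite.of_equiv _ e.toEquiv
  exact H730.OZ.Row.congr e row_co2'

end Cfsg.Agent.H490.OZ
end

-- part: H446/OZ/Lib
section
/-!
# One vanishing class: two rational classes with prescribed residues (helper446, S4842 rows `Ru`, `Th`)

* `rat_congr`, `av_congr` : congruences of rational values;
* `rat_of_conj` : `h y h⁻¹ = y ^ g`, `g` a primitive root modulo `|y| = p`: `y` is rational;
* `lar d q` : the absolute least residue; `lar_sq_le`;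
* `ex_two`  : the excess inequality for two classes, in `ℕ`.
-/

set_option autoImplicit false

open Cfsg Cfsg.Agent.Characters Cfsg.Agent.H686.CharKit Cfsg.Agent.H732.VZ Cfsg.Agent.H604.OZ

namespace Cfsg.Agent.H446.OZ

universe u

variable {G : Type u} [Group G]

/-- `y` is conjugate to its powers with exponent prime to the order of the group. -/
def Ratl (y : G) : Prop := ∀ m : ℕ, m.Coprime (Nat.card G) → IsConj (y ^ m) y

theorem isConj_pow_pow {y h : G} {g : ℕ} (hh : h * y * h⁻¹ = y ^ g) (j : ℕ) : IsConj y (y ^ g ^ j) := by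
  induction j with
  | zero => rw [pow_zero, pow_one]
  | succ j ih =>
    refine ih.trans ?_
    rw [isConj_iff]
    refine ⟨h, ?_⟩
    rw [pow_succ', pow_mul, ← hh, conj_pow]

theorem rat_of_conj [Finite G] {y h : G} {p g : ℕ} (hp : p.Prime) (ho : orderOf y = p) (hh : h * y * h⁻¹ = y ^ g)
    (hg : ∀ r < p, r ≠ 0 → ∃ j < p, g ^ j % p = r) : Ratl y := by
  intro m hm
  have hpd : p ∣ Nat.card G := by rw [← ho]; exact _root_.orderOf_dvd_natCard y
  have hm' : m % p ≠ 0 := by
    intro h0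
    have h1 : p ∣ m := Nat.dvd_of_mod_eq_zero h0
    have h2 : p ∣ 1 := by rw [← hm.gcd_eq_one]; exact Nat.dvd_gcd h1 hpd
    exact hp.one_lt.ne' (Nat.dvd_one.1 h2)
  obtain ⟨j, -, hj⟩ := hg (m % p) (Nat.mod_lt _ hp.pos) hm'
  have h1 : y ^ m = y ^ g ^ j := by
    rw [← pow_mod_orderOf y m, ← pow_mod_orderOf y (g ^ j), ho, hj]
  rw [h1]
  exact (isConj_pow_pow hh j).symm

/-- rationality of a conjugate -/
theorem Ratl.conj [Finite G] {a b : G} (h : Ratl a) (hab : IsConj a b) : Ratl b := by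
  intro m hm
  exact ((H849.OZ.isConj_pow hab m).symm.trans (h m hm)).trans hab

variable [Finite G] {χ : IrrCharacter G} {x : G}

theorem av_int {g : G} {k : ℤ} (hk : (χ : G → ℂ) g = k) : av χ g = (k : AlgInt) := by
  apply Subtype.ext
  rw [av_coe, hk]
  simp

/-- the values at `g` and at a power `g ^ j` with the same `r'`-part -/
theorem av_congr {r : ℕ} (hr : r.Prime) {g : G} {j n : ℕ} (hj : (g ^ j) ^ (r ^ n) = g ^ (r ^ n)) {k l : ℤ}
    (hk : (χ : G → ℂ) g = k) (hl : (χ : G → ℂ) (g ^ j) = l) : (r : ℤ) ∣ k - l := by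
  obtain ⟨M, hM⟩ := Blocks.ExistsModular.exists_isPModular hr
  have h1 := H849.OZ.av_sub_mem (χ := χ) hr hM.2.1.isPrime hM.2.2 g hj
  rw [av_int hk, av_int hl, ← Int.cast_sub, int_mem_iff hr hM.2.1.isPrime hM.2.2] at h1
  exact h1

/-- the value at an `r`-element is congruent to the degree -/
theorem rat_congr {r : ℕ} (hr : r.Prime) {g : G} (hg : ∃ n, orderOf g = r ^ n) {k : ℤ} (hk : (χ : G → ℂ) g = k) :
    (r : ℤ) ∣ (charDegree (χ : G → ℂ) : ℤ) - k := by
  obtain ⟨n, hn⟩ := hg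
  have h1 := av_congr (χ := χ) hr (g := g) (j := 0) (n := n) (by
    rw [pow_zero, one_pow, ← hn, pow_orderOf_eq_one]) hk
    (l := (charDegree (χ : G → ℂ) : ℤ)) (by rw [pow_zero, ← charDegree_irr χ]; simp)
  rw [← dvd_neg, neg_sub]
  exact h1

/-! ### the least absolute residue -/

/-- the absolute least residue -/
def lar (d q : ℕ) : ℕ := min (d % q) (q - d % q)

theorem lar_sq_le {d q : ℕ} (hq : 0 < q) {k : ℤ} (h : (q : ℤ) ∣ (d : ℤ) - k) : ((lar d q : ℕ) : ℤ) ^ 2 ≤ k ^ 2 := by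
  have h0 : ((lar d q : ℕ) : ℤ) ≤ |k| := by
    have hm : (d % q : ℕ) < q := Nat.mod_lt _ hq
    obtain ⟨t, ht⟩ := h
    have h1 : ((d % q : ℕ) : ℤ) = (d : ℤ) - q * (d / q : ℕ) := by
      have := Nat.mod_add_div d q
      have h2 : ((d % q : ℕ) : ℤ) + q * (d / q : ℕ) = d := by exact_mod_cast this
      linarith only [h2]
    have hk : k = (d % q : ℕ) + q * ((d / q : ℕ) - t) := by
      have : k = (d : ℤ) - q * t := by linarith only [ht]
      rw [this, h1]; ring
    set s : ℤ := (d / q : ℕ) - t with hs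
    have hq' : (0 : ℤ) < q := by exact_mod_cast hq
    have hm' : ((d % q : ℕ) : ℤ) < q := by exact_mod_cast hm
    have hm0 : (0 : ℤ) ≤ ((d % q : ℕ) : ℤ) := by positivity
    have hl1 : ((lar d q : ℕ) : ℤ) ≤ ((d % q : ℕ) : ℤ) := by
      have : lar d q ≤ d % q := min_le_left _ _
      exact_mod_cast this
    have hl2 : ((lar d q : ℕ) : ℤ) ≤ q - ((d % q : ℕ) : ℤ) := by
      have h3 : lar d q ≤ q - d % q := min_le_right _ _
      have h4 : ((lar d q : ℕ) : ℤ) ≤ ((q - d % q : ℕ) : ℤ) := by exact_mod_cast h3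
      rw [Nat.cast_sub hm.le] at h4
      exact h4
    rcases le_or_gt 0 s with hs0 | hs0
    · have : k ≥ (d % q : ℕ) := by
        rw [hk]
        have : 0 ≤ (q : ℤ) * s := mul_nonneg hq'.le hs0
        linarith only [this]
      exact (hl1.trans this).trans (le_abs_self k)
    · have : k ≤ (d % q : ℕ) - q := by
        rw [hk]
        have : (q : ℤ) * s ≤ q * (-1) := mul_le_mul_of_nonneg_left (by omega) hq'.le
        linarith only [this]
      have h5 : q - ((d % q : ℕ) : ℤ) ≤ -k := by linarith only [this]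
      exact (hl2.trans h5).trans (neg_le_abs k)
  rw [← sq_abs k]
  exact pow_le_pow_left₀ (by positivity) h0 2

/-- **The excess inequality for two rational classes.** -/
theorem ex_two (h : _root_.Cfsg.Agent.H732.VZ.One χ x) {c0 : ℕ} (hc : c0 ≤ cent x) {y z : G} (hy : Ratl y) (hz : Ratl z) (hyz : ¬ IsConj y z)
    (hxy : ¬ IsConj x y) (hxz : ¬ IsConj x z) {k l : ℤ} (hk : (χ : G → ℂ) y = k) (hl : (χ : G → ℂ) z = l)
    {B C : ℕ} (hB : cent y ≤ B) (hC : cent z ≤ C) {a b : ℕ} (ha : 1 ≤ a) (hb : 1 ≤ b) (hak : (a : ℤ) ^ 2 ≤ k ^ 2)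
    (hbl : (b : ℤ) ^ 2 ≤ l ^ 2) : c0 * ((a ^ 2 - 1) * C + (b ^ 2 - 1) * B) ≤ B * C := by
  have h1 := H849.OZ.excess_rat h (Finset.univ : Finset (Fin 2)) ![y, z] ![k, l]
    (fun i _ => by fin_cases i; exacts [hy, hz]) (fun i _ => by fin_cases i; exacts [hk, hl])
    (fun i _ => by fin_cases i; exacts [hxy, hxz]) (fun i _ j _ hij => by
      fin_cases i <;> fin_cases j
      · exact absurd rfl hij
      · exact hyz
      · exact fun hc => hyz hc.symm
      · exact absurd rfl hij)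
  rw [Fin.sum_univ_two] at h1
  simp only [Matrix.cons_val_zero, Matrix.cons_val_one] at h1
  have hcy : (0 : ℝ) < cent y := by
    have : 0 < cent y := Nat.card_pos
    exact_mod_cast this
  have hcz : (0 : ℝ) < cent z := by
    have : 0 < cent z := Nat.card_pos
    exact_mod_cast this
  have hB' : (cent y : ℝ) ≤ B := by exact_mod_cast hB
  have hC' : (cent z : ℝ) ≤ C := by exact_mod_cast hC
  have hB0 : (0 : ℝ) < B := hcy.trans_le hB'
  have hC0 : (0 : ℝ) < C := hcz.trans_le hC'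
  have hak' : ((a : ℝ)) ^ 2 ≤ (k : ℝ) ^ 2 := by exact_mod_cast hak
  have hbl' : ((b : ℝ)) ^ 2 ≤ (l : ℝ) ^ 2 := by exact_mod_cast hbl
  have ha' : (1 : ℝ) ≤ (a : ℝ) ^ 2 := by
    have : (1 : ℝ) ≤ a := by exact_mod_cast ha
    nlinarith only [this]
  have hb' : (1 : ℝ) ≤ (b : ℝ) ^ 2 := by
    have : (1 : ℝ) ≤ b := by exact_mod_cast hb
    nlinarith only [this]
  have e1 : ((a : ℝ) ^ 2 - 1) / B ≤ ((k : ℝ) ^ 2 - 1) / cent y :=
    div_le_div₀ (by linarith only [hak', ha']) (by linarith only [hak']) hcy hB'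
  have e2 : ((b : ℝ) ^ 2 - 1) / C ≤ ((l : ℝ) ^ 2 - 1) / cent z :=
    div_le_div₀ (by linarith only [hbl', hb']) (by linarith only [hbl']) hcz hC'
  have hc' : (c0 : ℝ) ≤ cent x := by exact_mod_cast hc
  have h2 : (c0 : ℝ) * (((a : ℝ) ^ 2 - 1) / B + ((b : ℝ) ^ 2 - 1) / C) ≤ 1 := by
    refine le_trans ?_ h1
    refine mul_le_mul hc' (add_le_add e1 e2) ?_ (by (clear * -; positivity))
    exact add_nonneg (div_nonneg (by linarith only [ha']) hB0.le) (div_nonneg (by linarith only [hb']) hC0.le)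
  have h3 : (c0 : ℝ) * (((a : ℝ) ^ 2 - 1) * C + ((b : ℝ) ^ 2 - 1) * B) ≤ B * C := by
    have h4 := mul_le_mul_of_nonneg_right h2 (mul_pos hB0 hC0).le
    rw [one_mul] at h4
    refine le_trans (le_of_eq ?_) h4
    field_simp
  have ea : ((a ^ 2 - 1 : ℕ) : ℝ) = (a : ℝ) ^ 2 - 1 := by
    rw [Nat.cast_sub (Nat.one_le_pow _ _ ha)]; push_cast; ring
  have eb : ((b ^ 2 - 1 : ℕ) : ℝ) = (b : ℝ) ^ 2 - 1 := by
    rw [Nat.cast_sub (Nat.one_le_pow _ _ hb)]; push_cast; ring
  rw [← ea, ← eb] at h3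
  exact_mod_cast h3

/-- the Boolean form of `ex_two` -/
def exOk (c0 q r B C d : ℕ) : Bool :=
  Nat.blt 0 (lar d q) && (Nat.blt 0 (lar d r) &&
    Nat.ble (c0 * ((lar d q ^ 2 - 1) * C + (lar d r ^ 2 - 1) * B)) (B * C))

theorem lar_pos {d q : ℕ} (hq : 0 < q) (h : ¬ q ∣ d) : 1 ≤ lar d q := by
  have h1 : d % q ≠ 0 := fun h0 => h (Nat.dvd_of_mod_eq_zero h0)
  have h2 := Nat.mod_lt d hq
  unfold lar
  omega

/-- **Two rational classes of elements with `χ(y) ≡ d` modulo `q`, `χ(z) ≡ d` modulo `r`.** -/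
theorem exOk_of (h : _root_.Cfsg.Agent.H732.VZ.One χ x) {c0 : ℕ} (hc : c0 ≤ cent x) {y z : G} (hy : Ratl y) (hz : Ratl z)
    (hyz : orderOf y ≠ orderOf z) {q r : ℕ} (hq : 0 < q) (hr : 0 < r) (hqd : ¬ q ∣ charDegree (χ : G → ℂ))
    (hrd : ¬ r ∣ charDegree (χ : G → ℂ))
    (hk : ∀ k : ℤ, (χ : G → ℂ) y = k → (q : ℤ) ∣ (charDegree (χ : G → ℂ) : ℤ) - k)
    (hl : ∀ k : ℤ, (χ : G → ℂ) z = k → (r : ℤ) ∣ (charDegree (χ : G → ℂ) : ℤ) - k)
    {B C : ℕ} (hB : cent y ≤ B) (hC : cent z ≤ C) : exOk c0 q r B C (charDegree (χ : G → ℂ)) = true := by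
  have hcf := Core.isIrr_isClassFunction χ.2
  obtain ⟨k, hk'⟩ := H849.OZ.rat (χ := χ) hy
  obtain ⟨l, hl'⟩ := H849.OZ.rat (χ := χ) hz
  have hxy : ¬ IsConj x y := fun hcon => by
    have h1 : (χ : G → ℂ) y = (0 : ℤ) := by
      rw [← Core.classFunction_apply_eq hcf hcon, h.zero]; simp
    have h2 := hk 0 h1
    rw [sub_zero] at h2
    exact hqd (by exact_mod_cast h2)
  have hxz : ¬ IsConj x z := fun hcon => by
    have h1 : (χ : G → ℂ) z = (0 : ℤ) := by
      rw [← Core.classFunction_apply_eq hcf hcon, h.zero]; simp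
    have h2 := hl 0 h1
    rw [sub_zero] at h2
    exact hrd (by exact_mod_cast h2)
  have h1 := ex_two h hc hy hz (fun hcon => hyz (orderOf_eq_of_conj hcon)) hxy hxz hk' hl' hB hC
    (lar_pos hq hqd) (lar_pos hr hrd) (lar_sq_le hq (hk k hk')) (lar_sq_le hr (hl l hl'))
  unfold exOk
  rw [Bool.and_eq_true, Bool.and_eq_true, Nat.blt_eq, Nat.blt_eq, Nat.ble_eq]
  exact ⟨lar_pos hq hqd, lar_pos hr hrd, h1⟩

end Cfsg.Agent.H446.OZ
end

-- part: H446/OZ/Ru
section
/-!
# One vanishing class: the Rudvalis group (helper446, S4842)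

The isolated prime 29, and the excess of the rational classes of elements of orders 7 (`|C| ≤ 28`) and 13 (`|C| ≤ 52`).
-/

set_option autoImplicit false
set_option maxRecDepth 100000

open Cfsg Cfsg.Agent.Characters Cfsg.Agent.H732.VZ Cfsg.Agent.H604.OZ Cfsg.Agent.SporadicB
open Cfsg.Agent.SporRec.TCUpperCert Cfsg.Agent.RuD.Letters

namespace Cfsg.Agent.H446.OZ.Ru

universe u

def w7 : List ℕ := [3]
def h7 : List ℕ := [8, 2]
def w13 : List ℕ := [1, 2, 7]
def h13 : List ℕ := [7, 1, 3, 6, 2, 1, 3, 4, 7, 1, 1]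

theorem chk7 : H480.RuRow.chkEq (h7 ++ w7) (w7 ++ (w7 ++ (w7 ++ h7))) = true := by decide +kernel
theorem chk13 : H480.RuRow.chkEq (h13 ++ w13) (w13 ++ (w13 ++ h13)) = true := by decide +kernel

/-- an element of order 7 -/
def y7 : RuOrder.H := wprod ml w7
/-- an element of order 13 -/
def y13 : RuOrder.H := wprod ml w13

theorem ord7 : orderOf y7 = 7 := H148.Ru.orderC
theorem ord13 : orderOf y13 = 13 := H436.RuCent.orderB

theorem ratl7 : Ratl y7 := by
  have := H436.TwoRu.finite_H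
  have h1 : wprod ml h7 * y7 = y7 * (y7 * (y7 * wprod ml h7)) := by
    have h2 := H480.RuRow.eq_of_chkEq chk7
    simp only [wprod_append] at h2
    exact h2
  refine rat_of_conj (h := wprod ml h7) (p := 7) (g := 3) (by norm_num) ord7 ?_ (by decide)
  rw [h1, pow_succ, pow_two]
  simp only [mul_assoc, mul_inv_cancel, mul_one]

theorem ratl13 : Ratl y13 := by
  have := H436.TwoRu.finite_H
  have h1 : wprod ml h13 * y13 = y13 * (y13 * wprod ml h13) := by
    have h2 := H480.RuRow.eq_of_chkEq chk13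
    simp only [wprod_append] at h2
    exact h2
  refine rat_of_conj (h := wprod ml h13) (p := 13) (g := 2) (by norm_num) ord13 ?_ (by decide)
  rw [h1, pow_two]
  simp only [mul_assoc, mul_inv_cancel, mul_one]

def l : List (ℕ × ℕ) := [(2, 14), (3, 3), (5, 3), (7, 1), (13, 1), (29, 1)]

def N : ℕ := 145926144000

theorem sieve : ((Cfsg.Agent.H417.Divs.divs l).all fun d =>
    !(H672.OZ.okd N 4 l [29] d && exOk 4 7 13 28 52 d)) = true := by decide +kernel

theorem row' [Finite RuOrder.H] : H730.OZ.Row RuOrder.H := by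
  have hN : Nat.card RuOrder.H = 145926144000 := RuOrder.card_H
  have hs : IsSimpleGroup RuOrder.H := SporadicB.RuSimple.isSimpleGroup_H
  refine row_of fun χ x h => ?_
  have h4 : 4 ≤ cent x := four_le_cent h (by rw [hN]; norm_num) (by rw [hN]; norm_num)
  have hiso : ∀ r ∈ [29], charDegree (χ : RuOrder.H → ℂ) % r = 0 ∨
      charDegree (χ : RuOrder.H → ℂ) % r = 1 ∨ charDegree (χ : RuOrder.H → ℂ) % r = r - 1 := by
    intro r hr
    rw [List.mem_singleton] at hr
    subst hr
    refine H672.OZ.iso_mod h (by norm_num) (by norm_num) (by rw [hN]; norm_num) (by rw [hN]; norm_num)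
      (by rw [hN]; norm_num) (fun y hy => ?_) h4
    refine Nat.dvd_antisymm (H436.TwoRu.cent29 y hy) ?_
    have h3 : y ∈ Subgroup.centralizer ({y} : Set RuOrder.H) := Subgroup.mem_centralizer_singleton_iff.2 rfl
    have := Subgroup.orderOf_dvd_natCard _ h3
    rwa [hy] at this
  have hl : Cfsg.Agent.H417.Divs.val l = 145926144000 := by decide +kernel
  have hp : ∀ y ∈ l, y.1.Prime := by
    intro x hx
    simp only [l, List.mem_cons, List.not_mem_nil, or_false] at hx
    rcases hx with rfl | rfl | rfl | rfl | rfl | rfl <;> norm_num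
  have h1 := H672.OZ.okd_of h hN hl hp (by decide +kernel) h4 hiso
  have hdiv : ∀ r : ℕ, r.Prime → r ∣ 145926144000 → ¬ r ^ 2 ∣ 145926144000 →
      (1 + 145926144000 / r) % r ≠ 0 → ¬ r ∣ charDegree (χ : RuOrder.H → ℂ) := by
    intro r hr h1 h2 h3
    have h4 := H672.OZ.not_full h hr (n := 1) one_ne_zero (by rw [hN, pow_one]; exact h1) (by rw [hN]; exact h2)
      (by rw [hN, pow_one]; exact h3)
    rwa [pow_one] at h4
  have h2 : exOk 4 7 13 28 52 (charDegree (χ : RuOrder.H → ℂ)) = true :=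
    exOk_of h h4 ratl7 ratl13 (by rw [ord7, ord13]; norm_num) (by norm_num) (by norm_num)
      (hdiv 7 (by norm_num) (by norm_num) (by norm_num) (by norm_num))
      (hdiv 13 (by norm_num) (by norm_num) (by norm_num) (by norm_num))
      (fun k hk => rat_congr (by norm_num) ⟨1, by rw [ord7, pow_one]⟩ hk)
      (fun k hk => rat_congr (by norm_num) ⟨1, by rw [ord13, pow_one]⟩ hk)
      (Nat.le_of_dvd (by norm_num) (H296.Fr.Ru.cent7 _ ord7))
      (Nat.le_of_dvd (by norm_num) (H436.TwoRu.cent13 _ ord13))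
  have h3 := Cfsg.Agent.H417.Divs.all_divs l hp hl sieve (d := charDegree (χ : RuOrder.H → ℂ))
    (by rw [← hN]; exact deg_dvd χ)
  have h5 : H672.OZ.okd N 4 l [29] (charDegree (χ : RuOrder.H → ℂ)) = true := h1
  rw [h5, h2] at h3
  exact absurd h3 (by decide)

/-- **The Rudvalis group.** -/
theorem row_ru {S : Type u} [Group S] [Finite S] (_hs : IsSimpleGroup S) (h : Spor.IsoRu S) : H730.OZ.Row S := by
  obtain ⟨e⟩ := h
  have hfin : Finite RuOrder.H := H436.TwoRu.finite_H
  exact H730.OZ.Row.congr (e.trans RuLat.Main.equiv) row'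

end Cfsg.Agent.H446.OZ.Ru
end

-- part: H593/OZ/Fi24W
section
/-!
# `Fi24` : two conjugating words (helper593, for S4842)

Generated data: `w13` conjugates the element `H845.T13.x` of order 13 to its square, `w27` conjugates the element
`H153.Dl.B24.D.x` of order 27 to its square; both are even words.
-/

set_option autoImplicit false
set_option maxRecDepth 100000
set_option Elab.async false

namespace Cfsg.Agent.H593.OZ.Fi24W

open Cfsg Cfsg.Agent.Lib.PermNetPt Cfsg.Agent.H153.Dl Cfsg.Agent.H153.Dl.PR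
open Cfsg.Spor.Fi24 (Gen)

def w13 : List Gen := [.i, .c, .d, .h, .f, .e, .d, .c, .b, .a, .c, .d, .e, .f, .g, .i, .h, .d, .e, .c, .d, .h, .i, .f, .d, .e, .b, .c, .d, .h, .j, .g, .f, .e, .d, .c, .b, .a, .k, .i, .h, .e, .d, .c, .b, .a, .c, .d, .h, .b, .c, .d, .e, .f, .g, .j, .d, .e, .f, .g, .c, .d, .e, .b, .c, .d, .h, .f, .e, .c, .d, .c, .b, .a, .k, .i, .h, .e, .f, .d, .e, .c, .d, .h, .i, .f, .d, .e, .b, .c, .d, .h, .g, .f, .e, .d, .c, .b, .a, .j, .h, .i, .f, .d, .c, .b]

def w27 : List Gen := [.l, .e, .d, .i, .c, .d, .h, .e, .f, .b, .c, .d, .e, .a, .b, .c, .d, .h, .i, .h, .f, .d, .e, .b, .c, .d, .h, .g, .f, .e, .d, .c, .b, .a, .k, .e, .c, .d, .h, .f, .g, .d, .e, .f, .c, .d, .e, .a, .b, .c, .d, .h, .i, .h, .f, .g, .e, .f, .d, .e, .b, .c, .d, .h, .j, .g, .f, .e, .d, .c, .b, .a, .f, .d, .e, .c, .d, .h, .j, .f, .g, .d, .e, .f, .c, .d, .e, .b, .c, .d, .h, .i, .j, .g, .f, .d, .e, .c, .d, .h, .f, .g, .j, .b, .c, .d, .e, .f, .g, .d, .e, .c, .d, .h, .c, .d, .e, .f,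 .c, .d, .e, .c]

theorem c13 : R24.chkEq (w13 ++ H845.T13Data.wx) (rep 2 H845.T13Data.wx ++ w13) = true :=
  chkEq_base base24 (by decide +kernel)

theorem c27 : R24.chkEq (w27 ++ B24.xw) (rep 2 B24.xw ++ w27) = true := chkEq_base base24 (by decide +kernel)

theorem o27 : R24.chkEq (rep 27 B24.xw) [] = true := B24.pw

theorem e27 : w27.length % 2 = 0 := by decide +kernel

end Cfsg.Agent.H593.OZ.Fi24W
end

-- part: H593/OZ/Tri
section
/-!
# Two commuting pairs of 3-transpositions (helper593, for S4842)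

`card_two_tri` : if `l, k` and `u, v` are pairs of 3-transpositions of `C` commuting with each other,
`18 * |C ∩ C(l u) ∩ G'| ≤ |C|`, `G'` a subgroup containing `l k`, `u v` and not `l`.
-/

set_option autoImplicit false

namespace Cfsg.Agent.H593.OZ

open Subgroup

universe u

theorem tri_facts {G : Type u} [Group G] {a b : G} (aa : a * a = 1) (bb : b * b = 1) (ab : a * b * a = b * a * b)
    (hn : a * b ≠ b * a) : orderOf (a * b) = 3 ∧ a * (a * b) * a⁻¹ = (a * b)⁻¹ := by
  have ia : a⁻¹ = a := inv_eq_of_mul_eq_one_right aa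
  have ib : b⁻¹ = b := inv_eq_of_mul_eq_one_right bb
  constructor
  · have : Fact (Nat.Prime 3) := ⟨Nat.prime_three⟩
    refine orderOf_eq_prime ?_ ?_
    · calc (a * b) ^ 3 = (a * b * a) * (b * a * b) := by rw [pow_succ, pow_two]; group
        _ = (b * a * b) * (b * a * b) := by rw [ab]
        _ = b * a * (b * b) * a * b := by group
        _ = b * (a * a) * b := by rw [bb]; group
        _ = 1 := by rw [aa, mul_one, bb]
    · intro h
      apply hn
      have h1 : b = a⁻¹ := (inv_eq_of_mul_eq_one_right h).symm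
      rw [h1, mul_inv_cancel, inv_mul_cancel]
  · rw [mul_inv_rev, ia, ib]
    calc a * (a * b) * a = (a * a) * b * a := by group
      _ = b * a := by rw [aa, one_mul]

variable {G : Type u} [Group G] {a b l t : G}

/-- the elements `a ^ i * b ^ j` are different -/
theorem eq_of_pows (ha : orderOf a = 3) (hb : orderOf b = 3) (la : l * a * l⁻¹ = a⁻¹)
    (lb : Commute l b) {m n : ℤ} (h : a ^ m * b ^ n = 1) : (3 : ℤ) ∣ m ∧ (3 : ℤ) ∣ n := by
  have h1 : a ^ m = b ^ (-n) := by rw [zpow_neg]; exact eq_inv_of_mul_eq_one_left h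
  have h2 : l * a ^ m * l⁻¹ = a ^ (-m) := by rw [← conj_zpow, la, inv_zpow, zpow_neg]
  have h3 : l * b ^ (-n) * l⁻¹ = b ^ (-n) := by
    rw [(lb.zpow_right (-n)).eq, mul_inv_cancel_right]
  rw [← h1, h2] at h3
  have h4 : a ^ (m + m) = 1 := by
    rw [zpow_add]
    nth_rewrite 2 [← h3]
    rw [zpow_neg, mul_inv_cancel]
  have h5 : (3 : ℤ) ∣ m + m := by
    have := orderOf_dvd_iff_zpow_eq_one.2 h4
    rwa [ha] at this
  have h6 : (3 : ℤ) ∣ m := by omega
  refine ⟨h6, ?_⟩
  have h7 : a ^ m = 1 := orderOf_dvd_iff_zpow_eq_one.1 (by rw [ha]; exact_mod_cast h6)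
  rw [h7, one_mul] at h
  have := orderOf_dvd_iff_zpow_eq_one.2 h
  rwa [hb] at this

/-- an element commuting with `t` and of the form `a ^ m * b ^ n` is trivial -/
theorem dvd_of_comm (ha : orderOf a = 3) (hb : orderOf b = 3) (hab : Commute a b) (la : l * a * l⁻¹ = a⁻¹)
    (lb : Commute l b) (ta : t * a * t⁻¹ = a⁻¹) (tb : t * b * t⁻¹ = b⁻¹) {m n : ℤ}
    (h : t * (a ^ m * b ^ n) = a ^ m * b ^ n * t) : (3 : ℤ) ∣ m ∧ (3 : ℤ) ∣ n := by
  have h1 : t * (a ^ m * b ^ n) * t⁻¹ = a ^ (-m) * b ^ (-n) := by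
    calc t * (a ^ m * b ^ n) * t⁻¹ = (t * a ^ m * t⁻¹) * (t * b ^ n * t⁻¹) := by group
      _ = a ^ (-m) * b ^ (-n) := by
        rw [← conj_zpow, ← conj_zpow, ta, tb, inv_zpow, inv_zpow, zpow_neg, zpow_neg]
  rw [h, mul_inv_cancel_right] at h1
  have hc : ∀ i j : ℤ, a ^ i * b ^ j = b ^ j * a ^ i := fun i j => ((hab.zpow_left i).zpow_right j).eq
  have h2 : a ^ (m + m) * b ^ (n + n) = 1 := by
    calc a ^ (m + m) * b ^ (n + n) = a ^ m * (a ^ m * b ^ n) * b ^ n := by rw [zpow_add, zpow_add]; group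
      _ = a ^ m * (a ^ (-m) * b ^ (-n)) * b ^ n := by rw [h1]
      _ = 1 := by group
  have h3 := eq_of_pows ha hb la lb h2
  omega

/-- **Two commuting pairs of 3-transpositions.** -/
theorem card_two_tri [Finite G] {C G' : Subgroup G} {l k u v : G} (ll : l * l = 1) (kk : k * k = 1) (uu : u * u = 1)
    (vv : v * v = 1) (lk : l * k * l = k * l * k) (uv : u * v * u = v * u * v) (lkn : l * k ≠ k * l)
    (uvn : u * v ≠ v * u) (lu : l * u = u * l) (lv : l * v = v * l) (ku : k * u = u * k) (kv : k * v = v * k)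
    (hl : l ∈ C) (hk : k ∈ C) (hu : u ∈ C) (hv : v ∈ C) (hlG : l ∉ G') (hlk : l * k ∈ G') (huv : u * v ∈ G') :
    18 * Nat.card (C ⊓ centralizer ({l * u} : Set G) ⊓ G' : Subgroup G) ≤ Nat.card C := by
  classical
  obtain ⟨ha, la⟩ := tri_facts ll kk lk lkn
  obtain ⟨hb, ub⟩ := tri_facts uu vv uv uvn
  set a := l * k with hadef
  set b := u * v with hbdef
  set t := l * u with htdef
  set M := C ⊓ centralizer ({t} : Set G) ⊓ G' with hM
  have cl : Commute l b := (show Commute l u from lu).mul_right (show Commute l v from lv)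
  have ck : Commute k b := (show Commute k u from ku).mul_right (show Commute k v from kv)
  have cab : Commute a b := cl.mul_left ck
  have cua : Commute u a := (show Commute u l from lu.symm).mul_right (show Commute u k from ku.symm)
  have ta : t * a * t⁻¹ = a⁻¹ := by
    calc t * a * t⁻¹ = l * (u * a * u⁻¹) * l⁻¹ := by rw [htdef]; group
      _ = a⁻¹ := by rw [cua.eq, mul_inv_cancel_right, la]
  have tb : t * b * t⁻¹ = b⁻¹ := by
    calc t * b * t⁻¹ = l * (u * b * u⁻¹) * l⁻¹ := by rw [htdef]; group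
      _ = l * b⁻¹ * l⁻¹ := by rw [ub]
      _ = b⁻¹ := by rw [(cl.inv_right).eq, mul_inv_cancel_right]
  have clt : Commute l t := (Commute.refl l).mul_right (show Commute l u from lu)
  have haC : a ∈ C := mul_mem hl hk
  have hbC : b ∈ C := mul_mem hu hv
  -- the map
  let f : (Fin 3 × Fin 3 × Fin 2) × M → C := fun q =>
    ⟨a ^ (q.1.1 : ℕ) * b ^ (q.1.2.1 : ℕ) * l ^ (q.1.2.2 : ℕ) * (q.2 : G), by
      refine mul_mem (mul_mem (mul_mem (pow_mem haC _) (pow_mem hbC _)) (pow_mem hl _)) ?_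
      exact (mem_inf.1 (mem_inf.1 q.2.2).1).1⟩
  have hinj : Function.Injective f := by
    rintro ⟨⟨i, j, e⟩, y⟩ ⟨⟨i', j', e'⟩, y'⟩ h
    have h0 : a ^ (i : ℕ) * b ^ (j : ℕ) * l ^ (e : ℕ) * (y : G) = a ^ (i' : ℕ) * b ^ (j' : ℕ) * l ^ (e' : ℕ) * (y' : G) :=
      congrArg (fun w : C => (w : G)) h
    have hyG : (y : G) ∈ G' := (mem_inf.1 y.2).2
    have hyG' : (y' : G) ∈ G' := (mem_inf.1 y'.2).2
    have hyt : Commute (y : G) t := mem_centralizer_singleton_iff.1 (mem_inf.1 (mem_inf.1 y.2).1).2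
    have hyt' : Commute (y' : G) t := mem_centralizer_singleton_iff.1 (mem_inf.1 (mem_inf.1 y'.2).1).2
    set A := a ^ (i : ℕ) * b ^ (j : ℕ) with hA
    set A' := a ^ (i' : ℕ) * b ^ (j' : ℕ) with hA'
    have hAG : A ∈ G' := mul_mem (pow_mem hlk _) (pow_mem huv _)
    have hAG' : A' ∈ G' := mul_mem (pow_mem hlk _) (pow_mem huv _)
    -- the parity
    have he : e = e' := by
      have key : ∀ {A A' y y' : G}, A ∈ G' → A' ∈ G' → y ∈ G' → y' ∈ G' → A * l ^ 0 * y ≠ A' * l ^ 1 * y' := by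
        intro A A' y y' h1 h2 h3 h4 h5
        apply hlG
        have h6 : l = A'⁻¹ * (A * y) * y'⁻¹ := by
          rw [pow_zero, mul_one, pow_one] at h5
          rw [h5]
          group
        rw [h6]
        exact mul_mem (mul_mem (inv_mem h2) (mul_mem h1 h3)) (inv_mem h4)
      have e2 : ∀ e : Fin 2, (e : ℕ) = 0 ∨ (e : ℕ) = 1 := fun e => by omega
      rcases e2 e with h1 | h1 <;> rcases e2 e' with h2 | h2
      · exact Fin.ext (h1.trans h2.symm)
      · exfalso
        rw [h1, h2] at h0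
        exact key hAG hAG' hyG hyG' h0
      · exfalso
        rw [h1, h2] at h0
        exact key hAG' hAG hyG' hyG h0.symm
      · exact Fin.ext (h1.trans h2.symm)
    subst he
    -- the difference
    have hcb : ∀ m n : ℤ, a ^ m * b ^ n = b ^ n * a ^ m := fun m n => ((cab.zpow_left m).zpow_right n).eq
    have hdiff : A'⁻¹ * A = a ^ ((i : ℤ) - (i' : ℤ)) * b ^ ((j : ℤ) - (j' : ℤ)) := by
      rw [hA, hA', mul_inv_rev, zpow_sub, zpow_sub, zpow_natCast, zpow_natCast, zpow_natCast, zpow_natCast]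
      have e1 : (b ^ (j' : ℕ))⁻¹ * (a ^ (i' : ℕ))⁻¹ = (a ^ (i' : ℕ))⁻¹ * (b ^ (j' : ℕ))⁻¹ :=
        ((cab.pow_left _).pow_right _).inv_inv.eq.symm
      have e2 : (b ^ (j' : ℕ))⁻¹ * a ^ (i : ℕ) = a ^ (i : ℕ) * (b ^ (j' : ℕ))⁻¹ :=
        ((cab.pow_left _).pow_right _).inv_right.eq.symm
      have e3 : (a ^ (i' : ℕ))⁻¹ * a ^ (i : ℕ) = a ^ (i : ℕ) * (a ^ (i' : ℕ))⁻¹ :=
        (((Commute.refl a).pow_left _).pow_right _).inv_right.eq.symm
      have e4 : (b ^ (j' : ℕ))⁻¹ * b ^ (j : ℕ) = b ^ (j : ℕ) * (b ^ (j' : ℕ))⁻¹ :=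
        (((Commute.refl b).pow_left _).pow_right _).inv_right.eq.symm
      calc (b ^ (j' : ℕ))⁻¹ * (a ^ (i' : ℕ))⁻¹ * (a ^ (i : ℕ) * b ^ (j : ℕ))
          = (a ^ (i' : ℕ))⁻¹ * (b ^ (j' : ℕ))⁻¹ * (a ^ (i : ℕ) * b ^ (j : ℕ)) := by rw [e1]
        _ = (a ^ (i' : ℕ))⁻¹ * ((b ^ (j' : ℕ))⁻¹ * a ^ (i : ℕ)) * b ^ (j : ℕ) := by group
        _ = (a ^ (i' : ℕ))⁻¹ * (a ^ (i : ℕ) * (b ^ (j' : ℕ))⁻¹) * b ^ (j : ℕ) := by rw [e2]
        _ = ((a ^ (i' : ℕ))⁻¹ * a ^ (i : ℕ)) * ((b ^ (j' : ℕ))⁻¹ * b ^ (j : ℕ)) := by group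
        _ = _ := by rw [e3, e4]
    have hd2 : A'⁻¹ * A = l ^ (e : ℕ) * ((y' : G) * (y : G)⁻¹) * (l ^ (e : ℕ))⁻¹ := by
      have h1 : A = A' * l ^ (e : ℕ) * (y' : G) * (y : G)⁻¹ * (l ^ (e : ℕ))⁻¹ := by
        rw [← h0]
        group
      rw [h1]
      group
    have hct : Commute (A'⁻¹ * A) t := by
      rw [hd2]
      exact (((clt.pow_left _).mul_left (hyt'.mul_left hyt.inv_left)).mul_left (clt.pow_left _).inv_left)
    rw [hdiff] at hct
    have h3 := dvd_of_comm ha hb cab la cl ta tb hct.eq.symm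
    have hi := i.2
    have hi' := i'.2
    have hj := j.2
    have hj' := j'.2
    have h4 : (i : ℕ) = i' := by omega
    have h5 : (j : ℕ) = j' := by omega
    have h6 : i = i' := Fin.ext h4
    have h7 : j = j' := Fin.ext h5
    subst h6
    subst h7
    have h8 : (y : G) = y' := mul_left_cancel h0
    rw [Subtype.ext h8]
  have hcard := Nat.card_le_card_of_injective f hinj
  rw [Nat.card_prod, Nat.card_prod, Nat.card_prod, Nat.card_eq_fintype_card, Nat.card_eq_fintype_card,
    Fintype.card_fin, Fintype.card_fin] at hcard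
  exact hcard

end Cfsg.Agent.H593.OZ
end

-- part: H849/OZ/Sieve
section
/-!
# One vanishing class: the sieve of the degrees for the large groups (helper849, S4842)

`mem_of_fast` : like `H672.OZ.mem_of_sieve`, but the products are visited recursively (never more than the square root of
`N / c0`), and a full prime power is only tried when `r ^ n ∣ 1 + N / r ^ n`; an arbitrary Boolean condition `P` may be added.
The recursion is that of `H635/SporFast.lean`.
-/

set_option autoImplicit false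

open Cfsg Cfsg.Agent.Characters Cfsg.Agent.H732.VZ Cfsg.Agent.H604.OZ

namespace Cfsg.Agent.H849.OZ.Sieve

universe u

/-- evaluate the argument before going on -/
def force {α : Type} (n : ℕ) (k : ℕ → α) : α :=
  Nat.rec (motive := fun _ => α) (k 0) (fun m _ => k (Nat.succ m)) n

theorem force_eq {α : Type} (n : ℕ) (k : ℕ → α) : force n k = k n := by
  cases n <;> rfl

/-- `g` at `acc * q ^ i` for all `i ≤ a` with `(acc * q ^ i) ^ 2 < N` -/
def pw (N q : ℕ) (g : ℕ → Bool) : ℕ → ℕ → Bool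
  | 0, acc => g acc
  | a + 1, acc => g acc && force (Nat.mul acc q) fun acc' => Nat.ble N (Nat.mul acc' acc') || pw N q g a acc'

theorem pw_sound {N q : ℕ} (hq : 0 < q) {g : ℕ → Bool} : ∀ {a acc : ℕ}, pw N q g a acc = true → ∀ i ≤ a,
    acc * q ^ i * (acc * q ^ i) < N → g (acc * q ^ i) = true
  | 0, acc, h, i, hi, _ => by
    obtain rfl : i = 0 := by omega
    simpa [pw] using h
  | a + 1, acc, h, i, hi, hlt => by
    rw [pw, Bool.and_eq_true, force_eq] at h
    rcases i with _ | i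
    · simpa using h.1
    · have e : acc * q ^ (i + 1) = acc * q * q ^ i := by ring
      rw [e] at hlt ⊢
      have h2 := h.2
      rw [Bool.or_eq_true] at h2
      rcases h2 with h3 | h3
      · exfalso
        have h4 : N ≤ acc * q * (acc * q) := Nat.le_of_ble_eq_true h3
        have h5 : 1 ≤ q ^ i := Nat.one_le_pow _ _ hq
        have h6 : acc * q ≤ acc * q * q ^ i := Nat.le_mul_of_pos_right _ h5
        have h7 := Nat.mul_le_mul h6 h6
        omega
      · exact pw_sound hq h3 i (by omega) hlt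

/-- `f` at all products -/
def allF (N : ℕ) (f : ℕ → Bool) : List (ℕ × ℕ) → ℕ → Bool
  | [], acc => f acc
  | x :: L, acc => pw N x.1 (allF N f L) x.2 acc

theorem allF_sound {N : ℕ} {f : ℕ → Bool} : ∀ (L : List (ℕ × ℕ)) (acc d : ℕ), (∀ x ∈ L, x.1.Prime) → d ≠ 0 →
    (∀ r : ℕ, r.Prime → r ∣ d → r ∈ L.map Prod.fst) → (∀ x ∈ L, ¬ x.1 ^ (x.2 + 1) ∣ d) → allF N f L acc = true →
    acc * d * (acc * d) < N → f (acc * d) = true
  | [], acc, d, _, hd, h, _, hc, _ => by
    have : d = 1 := by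
      by_contra hne
      obtain ⟨r, hr, hrd⟩ := Nat.exists_prime_and_dvd hne
      simpa using h r hr hrd
    rw [this, mul_one]
    exact hc
  | x :: L, acc, d, hL, hd, h, h', hc, hlt => by
    have hx := hL x List.mem_cons_self
    obtain ⟨i, m, hm, him⟩ := Nat.exists_eq_pow_mul_and_not_dvd (Nat.pos_of_ne_zero hd |> fun h => h.ne') x.1
      hx.one_lt.ne'
    have hm0 : 1 ≤ m := Nat.pos_of_ne_zero (by rintro rfl; exact hm (dvd_zero _))
    have hi : i ≤ x.2 := by
      by_contra hcon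
      push Not at hcon
      apply h' x List.mem_cons_self
      rw [him]
      exact (pow_dvd_pow _ hcon).trans (dvd_mul_right _ _)
    have hmd : m ∣ d := him ▸ dvd_mul_left _ _
    have e : acc * d = acc * x.1 ^ i * m := by rw [him, mul_assoc]
    have hle : acc * x.1 ^ i ≤ acc * x.1 ^ i * m := Nat.le_mul_of_pos_right _ hm0
    rw [e] at hlt ⊢
    have h1 := pw_sound hx.pos (show pw N x.1 (allF N f L) x.2 acc = true from hc) i hi
      (lt_of_le_of_lt (Nat.mul_le_mul hle hle) hlt)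
    exact allF_sound L (acc * x.1 ^ i) m (fun y hy => hL y (List.mem_cons_of_mem _ hy))
      (by rintro rfl; exact hm (dvd_zero _)) (fun r hr hrm => by
        have := h r hr (hrm.trans hmd)
        rw [List.map_cons, List.mem_cons] at this
        rcases this with h3 | h3
        · exact absurd (h3 ▸ hrm) hm
        · exact h3) (fun y hy hyd => h' y (List.mem_cons_of_mem _ hy) (hyd.trans hmd)) h1 hlt

/-- the exponents of a degree: one less than in the group order unless `r ^ n ∣ 1 + N / r ^ n` -/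
def red (N : ℕ) (l : List (ℕ × ℕ)) : List (ℕ × ℕ) :=
  l.map fun y => if (1 + N / y.1 ^ y.2) % y.1 ^ y.2 = 0 then y else (y.1, y.2 - 1)

/-- **The sieve for the large groups.**  `l` is the factorization of `N = |G|`, `L = red N l`, `c0 ≤ |C(x)|`, `iso` a list of
primes modulo which the degree is `0, 1` or `-1`, `P` a further condition on the degree: the degree is in `D`. -/
theorem mem_of_fast {G : Type u} [Group G] [Finite G] {χ : IrrCharacter G} {x : G} (h : _root_.Cfsg.Agent.H732.VZ.One χ x) {N c0 : ℕ}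
    (hN : Nat.card G = N) {l L : List (ℕ × ℕ)} (hl : Cfsg.Agent.H417.Divs.val l = N)
    (hp : ∀ y ∈ l, y.1.Prime) (he : ∀ y ∈ l, y.2 ≠ 0 ∧ ¬ y.1 ^ (y.2 + 1) ∣ N) (hL : red N l = L) (hc0 : 0 < c0)
    (hc : c0 ≤ cent x) {iso : List ℕ}
    (hiso : ∀ r ∈ iso, charDegree (χ : G → ℂ) % r = 0 ∨ charDegree (χ : G → ℂ) % r = 1 ∨
      charDegree (χ : G → ℂ) % r = r - 1) {P : ℕ → Bool} (hP : P (charDegree (χ : G → ℂ)) = true) {M : ℕ}
    (hM : N / c0 + 2 ≤ M) {D : List ℕ}
    (hD : allF M (fun d => !(H672.OZ.okd N c0 l iso d) || (!(P d) || D.contains d)) L 1 = true) :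
    charDegree (χ : G → ℂ) ∈ D := by
  subst hL
  set d := charDegree (χ : G → ℂ) with hdd
  have hdN : d ∣ N := by rw [← hN]; exact deg_dvd χ
  have hd0 : d ≠ 0 := by have := one_lt_deg h; omega
  have h1 := allF_sound (N := M) (f := fun d => !(H672.OZ.okd N c0 l iso d) || (!(P d) || D.contains d))
    (red N l) 1 d ?_ hd0 ?_ ?_ hD ?_
  · rw [one_mul] at h1
    rw [H672.OZ.okd_of h hN hl hp he hc hiso, hP, Bool.not_true, Bool.false_or, Bool.false_or, List.contains_iff_mem] at h1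
    exact h1
  · intro x hx
    obtain ⟨y, hy, rfl⟩ := List.mem_map.1 hx
    split_ifs
    · exact hp y hy
    · exact hp y hy
  · intro r hr hrd
    have h2 : r ∣ Cfsg.Agent.H417.Divs.val l := by rw [hl]; exact hrd.trans hdN
    rw [Cfsg.Agent.H417.Divs.val] at h2
    obtain ⟨z, hz, hrz⟩ := (Prime.dvd_prod_iff hr.prime).1 h2
    obtain ⟨y, hy, rfl⟩ := List.mem_map.1 hz
    have h3 : r = y.1 := (Nat.prime_dvd_prime_iff_eq hr (hp y hy)).1 (hr.dvd_of_dvd_pow hrz)
    rw [h3, red, List.map_map]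
    refine List.mem_map.2 ⟨y, hy, ?_⟩
    simp only [Function.comp_apply]
    split_ifs <;> rfl
  · intro x hx
    obtain ⟨y, hy, rfl⟩ := List.mem_map.1 hx
    split_ifs with h3
    · exact fun h4 => (he y hy).2 (h4.trans hdN)
    · have h4 : y.2 - 1 + 1 = y.2 := Nat.sub_add_cancel (Nat.pos_of_ne_zero (he y hy).1)
      simp only [h4]
      refine H672.OZ.not_full h (hp y hy) (he y hy).1 ?_ (by rw [hN]; exact (he y hy).2) (by rw [hN]; exact h3)
      rw [hN, ← hl, Cfsg.Agent.H417.Divs.val]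
      exact List.dvd_prod (List.mem_map.2 ⟨y, hy, rfl⟩)
  · rw [one_mul]
    have h2 := cent_mul_sq_le h
    rw [hN, pow_two] at h2
    obtain ⟨k, hk⟩ := Nat.exists_eq_add_of_le hc
    have h3 : c0 * (d * d) ≤ N + c0 := by
      have h5 : 1 ≤ d * d := Nat.one_le_iff_ne_zero.2 (Nat.mul_ne_zero hd0 hd0)
      have h4 : k ≤ k * (d * d) := Nat.le_mul_of_pos_right k h5
      rw [hk] at h2
      linarith only [h2, h4]
    have h4 : d * d ≤ N / c0 + 1 := by
      have h5 : d * d ≤ (N + c0) / c0 := (Nat.le_div_iff_mul_le hc0).2 (by rw [mul_comm]; exact h3)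
      rwa [Nat.add_div_right _ hc0] at h5
    omega

end Cfsg.Agent.H849.OZ.Sieve
end

-- part: H593/OZ/Fi24
section
/-!
# One vanishing class: `Fi24'` (helper593, for S4842)

The primes 17, 23, 29 are isolated; the degree is `± 1` modulo 13 (`mod_of_invol` : the centralizer of an element of
order 13 and an involution has order at most 26; T4 if `13 < |C(x)|`); the sieve leaves two degrees, both divisible by
3 and 17, so that `|C(x)| = 17`; an element of order 27 is rational with a centralizer of order at most 81.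
-/

set_option autoImplicit false
set_option maxRecDepth 100000
set_option linter.constructorNameAsVariable false

open Cfsg Subgroup Cfsg.Agent.Characters Cfsg.Agent.H732.VZ Cfsg.Agent.H604.OZ

namespace Cfsg.Agent.H593.OZ.Fi24

open Cfsg.Spor (Fi24)
open Cfsg.Spor.Fi24 (Gen)
open Cfsg.Agent.H153.Dl Cfsg.Agent.H153.Dl.PR
open Cfsg.Agent.R08.FiTwentyFour (index_commutator)

universe u

/-- the order of `Fi24'` -/
theorem card : Nat.card Spor.Fi24' = 1255205709190661721292800 := R08.FiTwentyFour.card_commutator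

theorem finite : Finite Spor.Fi24' := H968.Tor.finite24

theorem word_mem (l : List Gen) : R24.word l ∈ _root_.commutator Fi24 ↔ Even l.length := by
  show Fischer.Fi24Rep.word l ∈ _root_.commutator Fi24 ↔ Even l.length
  induction l with
  | nil =>
    rw [Fischer.Fi24Spider.word_nil]
    exact ⟨fun _ => by simp only [_root_.List.length_nil, _root_.Even.zero], fun _ => one_mem _⟩
  | cons c l ih =>
    have hc : Fischer.Fi24Rep.gen c ∉ _root_.commutator Fi24 :=
      Cfsg.Agent.R08.FiTwentyFour.odd (Cfsg.Agent.R08.FiTwentyFour.gen_mem_L c)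
    rw [Fischer.Fi24Spider.word_cons, Subgroup.mul_mem_iff_of_index_two index_commutator, ih, List.length_cons,
      Nat.even_add_one]
    (clear * - hc; tauto)

theorem conj_of {G : Type} [Group G] (R : PR G) {w xw : List R.Lt} {k : ℕ}
    (h : R.chkEq (w ++ xw) (rep k xw ++ w) = true) : R.word w * R.word xw * (R.word w)⁻¹ = R.word xw ^ k := by
  have h2 := R.word_eq_of h
  rw [R.word_append, R.word_append, R.word_rep] at h2
  rw [h2, mul_inv_cancel_right]

theorem pow_of {G : Type} [Group G] (R : PR G) {xw : List R.Lt} {k : ℕ}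
    (h : R.chkEq (rep k xw) [] = true) : R.word xw ^ k = 1 := by
  have h2 := R.word_eq_of h
  rwa [R.word_rep, R.word_nil] at h2

/-! ### Rational elements -/

section rational

variable {G : Type u} [Group G]

theorem conj_pow_pow {w y : G} {a : ℕ} (h : w * y * w⁻¹ = y ^ a) (k : ℕ) : w ^ k * y * (w ^ k)⁻¹ = y ^ (a ^ k) := by
  induction k with
  | zero => simp
  | succ k ih =>
    calc w ^ (k + 1) * y * (w ^ (k + 1))⁻¹ = w ^ k * (w * y * w⁻¹) * (w ^ k)⁻¹ := by rw [pow_succ]; group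
      _ = (w ^ k * y * (w ^ k)⁻¹) ^ a := by rw [h, conj_pow]
      _ = y ^ (a ^ (k + 1)) := by rw [ih, ← pow_mul, pow_succ]

/-- An element conjugate to its `a`-th power, `a` a primitive root. -/
theorem rational_of [Finite G] {w y : G} {a n : ℕ} (h : w * y * w⁻¹ = y ^ a) (hn : y ^ n = 1)
    (hd : n ∣ Nat.card G) (hk : ∀ m : ℕ, m.Coprime n → ∃ k : ℕ, m ≡ a ^ k [MOD n]) (m : ℕ)
    (hm : m.Coprime (Nat.card G)) : IsConj (y ^ m) y := by
  obtain ⟨k, hk⟩ := hk m (Nat.Coprime.coprime_dvd_right hd hm)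
  have h1 : y ^ m = y ^ (a ^ k) := by
    rw [pow_eq_pow_iff_modEq]
    exact hk.of_dvd (orderOf_dvd_of_pow_eq_one hn)
  rw [h1, ← conj_pow_pow h k]
  exact (isConj_iff.2 ⟨w ^ k, rfl⟩ : IsConj y (w ^ k * y * (w ^ k)⁻¹)).symm

/-- 2 is a primitive root modulo 27. -/
theorem two_pow_27 (m : ℕ) (hm : m.Coprime 27) : ∃ k : ℕ, m ≡ 2 ^ k [MOD 27] := by
  have h : ∀ r < 27, r.Coprime 27 → ∃ k < 18, 2 ^ k % 27 = r := by decide +kernel
  obtain ⟨k, -, hk⟩ := h (m % 27) (Nat.mod_lt _ (by norm_num)) (by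
    rw [Nat.Coprime, ← Nat.gcd_rec, Nat.gcd_comm]
    exact hm)
  exact ⟨k, hk.symm⟩

/-- `12 * |C(x)| ≤ |N(⟨x⟩)|` -/
theorem card_cent_mul [Finite G] {w x : G} (h : w * x * w⁻¹ = x ^ 2) (hx : orderOf x = 13) :
    12 * Nat.card (centralizer ({x} : Set G)) ≤ Nat.card (normalizer ((zpowers x : Subgroup G) : Set G)) := by
  have hN : w ∈ normalizer ((zpowers x : Subgroup G) : Set G) := by
    have h13 : x ^ 13 = 1 := by rw [← hx, pow_orderOf_eq_one]
    rw [mem_normalizer_iff]
    intro g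
    constructor
    · rintro ⟨n, rfl⟩
      change w * x ^ n * w⁻¹ ∈ zpowers x
      rw [← conj_zpow, h]
      exact zpow_mem (pow_mem (mem_zpowers x) 2) n
    · rintro ⟨n, hn⟩
      have hn : x ^ n = w * g * w⁻¹ := hn
      have h1 : x = (x ^ 2) ^ 7 := by
        rw [← pow_mul]
        calc x = x ^ 13 * x := by rw [h13, one_mul]
          _ = x ^ (2 * 7) := by rw [← pow_succ]
      have h2 : g = (x ^ 7) ^ n := by
        have h3 : w * g * w⁻¹ = w * (x ^ 7) ^ n * w⁻¹ := by
          rw [← hn, ← conj_zpow, ← conj_pow, h, ← h1]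
        exact mul_left_cancel (mul_right_cancel h3)
      rw [h2]
      exact zpow_mem (pow_mem (mem_zpowers x) 7) n
  have hC : centralizer ({x} : Set G) ≤ normalizer ((zpowers x : Subgroup G) : Set G) := by
    intro g hg
    refine centralizer_le_normalizer _ ?_
    rw [mem_centralizer_iff]
    rintro _ ⟨n, rfl⟩
    exact ((show Commute g x from mem_centralizer_singleton_iff.1 hg).zpow_right n).eq.symm
  let f : Fin 12 × centralizer ({x} : Set G) → normalizer ((zpowers x : Subgroup G) : Set G) := fun q =>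
    ⟨w ^ (q.1 : ℕ) * (q.2 : G), mul_mem (pow_mem hN _) (hC q.2.2)⟩
  have hf : Function.Injective f := by
    rintro ⟨i, c⟩ ⟨i', c'⟩ h0
    have h1 : w ^ (i : ℕ) * (c : G) = w ^ (i' : ℕ) * (c' : G) :=
      congrArg (fun v : normalizer ((zpowers x : Subgroup G) : Set G) => (v : G)) h0
    have hc : ∀ c : centralizer ({x} : Set G), (c : G) * x * (c : G)⁻¹ = x := fun c => by
      rw [mem_centralizer_singleton_iff.1 c.2, mul_inv_cancel_right]
    have h2 : ∀ (i : ℕ) (c : centralizer ({x} : Set G)), w ^ i * (c : G) * x * (w ^ i * (c : G))⁻¹ = x ^ (2 ^ i) := by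
      intro i c
      calc w ^ i * (c : G) * x * (w ^ i * (c : G))⁻¹ = w ^ i * ((c : G) * x * (c : G)⁻¹) * (w ^ i)⁻¹ := by group
        _ = x ^ (2 ^ i) := by rw [hc, conj_pow_pow h]
    have h3 : x ^ (2 ^ (i : ℕ)) = x ^ (2 ^ (i' : ℕ)) := by rw [← h2 i c, ← h2 i' c', h1]
    rw [pow_eq_pow_iff_modEq, hx] at h3
    have h4 : ∀ i i' : Fin 12, 2 ^ (i : ℕ) % 13 = 2 ^ (i' : ℕ) % 13 → i = i' := by decide +kernel
    have h5 := h4 i i' h3
    subst h5
    have h6 : (c : G) = c' := mul_left_cancel h1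
    rw [Subtype.ext h6]
  have h1 := Nat.card_le_card_of_injective f hf
  rw [Nat.card_prod, Nat.card_eq_fintype_card (α := Fin 12), Fintype.card_fin] at h1
  exact h1

end rational

/-! ### The prime 13 -/

open Cfsg.Agent.H845.T13 (x u v)
open Cfsg.Agent.Fischer.Fi24Rep (gen)

theorem x_mem : x ∈ _root_.commutator Fi24 := (word_mem H845.T13Data.wx).2 (by decide)

/-- an element of order 13 -/
noncomputable def z : Spor.Fi24' := ⟨x, x_mem⟩

theorem orderOf_x : orderOf x = 13 := by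
  have : Fact (Nat.Prime 13) := ⟨by norm_num⟩
  exact orderOf_eq_prime H845.T13.x13 H845.T13.x_ne

theorem orderOf_z : orderOf z = 13 := by
  rw [← Subgroup.orderOf_coe]
  exact orderOf_x

theorem card_cx : Nat.card (centralizer ({x} : Set Fi24)) ≤ 468 := by
  have hfin := R08.FiTwentyFour.finite_Fi24
  have h1 : R24.word Fi24W.w13 * x * (R24.word Fi24W.w13)⁻¹ = x ^ 2 := conj_of R24 Fi24W.c13
  have h2 := card_cent_mul h1 orderOf_x
  have h3 := Nat.le_of_dvd (by norm_num) (H256.Sep.FiData.card13 H845.T13.facts)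
  omega

/-- an involution commuting with it -/
noncomputable def t : Spor.Fi24' := ⟨gen .l * u, R08.FiTwentyFour.even (R08.FiTwentyFour.gen_mem_L .l) H845.T13.u_mem⟩

theorem orderOf_t : orderOf t = 2 := by
  have h := H845.T13.facts
  have : Fact (Nat.Prime 2) := ⟨Nat.prime_two⟩
  refine orderOf_eq_prime ?_ ?_
  · apply Subtype.ext
    change (gen .l * u) ^ 2 = 1
    rw [pow_two]
    calc gen .l * u * (gen .l * u) = gen .l * (u * gen .l) * u := by group
      _ = (gen .l * gen .l) * (u * u) := by rw [← h.lu]; group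
      _ = 1 := by rw [h.ll, h.uu, one_mul]
  · intro h1
    have h2 : gen .l * u = 1 := congrArg Subtype.val h1
    have h3 : u = gen .l := by
      rw [eq_inv_of_mul_eq_one_right h2, inv_eq_of_mul_eq_one_right h.ll]
    apply h.lkn
    have h4 := h.ku
    rw [h3] at h4
    exact h4.symm

theorem zt : z * t = t * z := by
  have h := H845.T13.facts
  apply Subtype.ext
  change x * (gen .l * u) = gen .l * u * x
  rw [← mul_assoc, h.xl, mul_assoc, h.xu, mul_assoc]

theorem card_czt : Nat.card (centralizer ({z} : Set Spor.Fi24') ⊓ centralizer ({t} : Set Spor.Fi24') :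
    Subgroup Spor.Fi24') ≤ 26 := by
  have hfin := R08.FiTwentyFour.finite_Fi24
  have h := H845.T13.facts
  have hc : ∀ {y : Fi24}, x * y = y * x → y ∈ centralizer ({x} : Set Fi24) := fun hy =>
    mem_centralizer_singleton_iff.2 hy.symm
  have h1 := card_two_tri (C := centralizer ({x} : Set Fi24)) (G' := _root_.commutator Fi24) h.ll h.kk h.uu h.vv h.lk h.uv
    h.lkn h.uvn h.lu h.lv h.ku h.kv (hc h.xl) (hc h.xk) (hc h.xu) (hc h.xv) (R08.FiTwentyFour.odd h.hl)
    (R08.FiTwentyFour.even h.hl h.hk) (R08.FiTwentyFour.even h.hu h.hv)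
  have h2 := card_cx
  have h3 : Nat.card (centralizer ({z} : Set Spor.Fi24') ⊓ centralizer ({t} : Set Spor.Fi24') : Subgroup Spor.Fi24')
      ≤ Nat.card (centralizer ({x} : Set Fi24) ⊓ centralizer ({gen .l * u} : Set Fi24) ⊓ _root_.commutator Fi24 :
        Subgroup Fi24) := by
    refine Nat.card_le_card_of_injective (fun y => ⟨((y : Spor.Fi24') : Fi24), ?_⟩) ?_
    · refine mem_inf.2 ⟨mem_inf.2 ⟨?_, ?_⟩, (y : Spor.Fi24').2⟩
      · rw [mem_centralizer_singleton_iff]
        exact congrArg Subtype.val (mem_centralizer_singleton_iff.1 (mem_inf.1 y.2).1)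
      · rw [mem_centralizer_singleton_iff]
        exact congrArg Subtype.val (mem_centralizer_singleton_iff.1 (mem_inf.1 y.2).2)
    · intro y y' h4
      exact Subtype.ext (Subtype.ext (congrArg (fun w : (centralizer ({x} : Set Fi24) ⊓
        centralizer ({gen .l * u} : Set Fi24) ⊓ _root_.commutator Fi24 : Subgroup Fi24) => (w : Fi24)) h4))
  omega

theorem lt_card_cz : 13 < Nat.card (centralizer ({z} : Set Spor.Fi24')) := by
  have hfin := finite
  have h1 : 13 ∣ Nat.card (centralizer ({z} : Set Spor.Fi24')) := by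
    have h2 := _root_.orderOf_dvd_natCard (⟨z, mem_centralizer_singleton_iff.2 rfl⟩ : centralizer ({z} : Set Spor.Fi24'))
    rwa [Subgroup.orderOf_mk, orderOf_z] at h2
  have h2 : 2 ∣ Nat.card (centralizer ({z} : Set Spor.Fi24')) := by
    have h3 := _root_.orderOf_dvd_natCard (⟨t, mem_centralizer_singleton_iff.2 zt.symm⟩ :
      centralizer ({z} : Set Spor.Fi24'))
    rwa [Subgroup.orderOf_mk, orderOf_t] at h3
  have h3 : 0 < Nat.card (centralizer ({z} : Set Spor.Fi24')) := Nat.card_pos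
  omega

/-! ### The element of order 27 -/

theorem y_mem : B24.D.x ∈ _root_.commutator Fi24 := (word_mem B24.xw).2 (by decide)

/-- an element of order 27 -/
noncomputable def y : Spor.Fi24' := ⟨B24.D.x, y_mem⟩

theorem w27_mem : R24.word Fi24W.w27 ∈ _root_.commutator Fi24 := (word_mem _).2 (Nat.even_iff.2 Fi24W.e27)

theorem y27 : y ^ 27 = 1 := by
  apply Subtype.ext
  exact pow_of R24 Fi24W.o27

theorem conj_y : (⟨R24.word Fi24W.w27, w27_mem⟩ : Spor.Fi24') * y * (⟨R24.word Fi24W.w27, w27_mem⟩ : Spor.Fi24')⁻¹ =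
    y ^ 2 := by
  apply Subtype.ext
  exact conj_of R24 Fi24W.c27

theorem rational_y (m : ℕ) (hm : m.Coprime (Nat.card Spor.Fi24')) : IsConj (y ^ m) y := by
  have hfin := finite
  exact rational_of conj_y y27 (by rw [card]; norm_num) two_pow_27 m hm

theorem orderOf_y : ∃ n, orderOf y = 3 ^ n := by
  have h1 : orderOf y ∣ 3 ^ 3 := orderOf_dvd_of_pow_eq_one y27
  obtain ⟨n, -, h2⟩ := (Nat.dvd_prime_pow Nat.prime_three).1 h1
  exact ⟨n, h2⟩

theorem card_cy : Nat.card (centralizer ({y} : Set Spor.Fi24')) ≤ 81 := by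
  have hfin := R08.FiTwentyFour.finite_Fi24
  refine le_trans ?_ B24.card_le
  refine Nat.card_le_card_of_injective (fun g => ⟨((g : Spor.Fi24') : Fi24), ?_⟩) ?_
  · rw [mem_centralizer_singleton_iff]
    exact congrArg Subtype.val (mem_centralizer_singleton_iff.1 g.2)
  · intro g g' h
    exact Subtype.ext (Subtype.ext (congrArg (fun w : centralizer ({B24.D.x} : Set Fi24) => (w : Fi24)) h))

/-! ### The row -/

/-- the factorization of the order -/
def fl : List (ℕ × ℕ) := [(29, 1), (23, 1), (17, 1), (13, 1), (11, 1), (7, 3), (5, 2), (3, 16), (2, 21)]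

theorem fl_prime : ∀ y ∈ fl, y.1.Prime := by
  intro x hx
  simp only [fl, List.mem_cons, List.not_mem_nil, or_false] at hx
  rcases hx with rfl | rfl | rfl | rfl | rfl | rfl | rfl | rfl | rfl <;> norm_num

section

variable [Finite Spor.Fi24'] [IsSimpleGroup Spor.Fi24']

theorem mod13 {χ : IrrCharacter Spor.Fi24'} {x : Spor.Fi24'} (h : _root_.Cfsg.Agent.H732.VZ.One χ x) (h4 : 4 ≤ cent x) :
    charDegree (χ : Spor.Fi24' → ℂ) % 13 = 1 ∨ charDegree (χ : Spor.Fi24' → ℂ) % 13 = 12 := by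
  by_cases hc : 13 < cent x
  · have h1 := H733.OZ.pow_dvd h (r := 13) (n := 1) (by norm_num) (by rw [card]; norm_num) (by rw [card]; norm_num)
      (by rw [pow_one]; exact hc)
    have h2 := one_lt_deg h
    set d := charDegree (χ : Spor.Fi24' → ℂ) with hd
    have h3 : (d ^ 2 - 1) % 13 = 0 := Nat.mod_eq_zero_of_dvd h1
    have h4 : d ^ 2 % 13 = 1 := by
      have h5 : 1 ≤ d ^ 2 := Nat.one_le_pow _ _ (by omega)
      omega
    have h5 : ∀ r < 13, r ^ 2 % 13 = 1 → r = 1 ∨ r = 12 := by decide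
    refine h5 (d % 13) (Nat.mod_lt _ (by norm_num)) ?_
    rw [← Nat.pow_mod]
    exact h4
  · have hsq : ¬ 13 ^ 2 ∣ Nat.card Spor.Fi24' := by rw [card]; norm_num
    have h1 := H849.OZ.not_dvd_of_le (p := 13) (by norm_num) hsq orderOf_z lt_card_cz (x := x) (by
      have : cent x ≤ 13 := by omega
      exact this)
    exact mod_of_invol (p := 13) (by norm_num) (by norm_num) hsq (by rw [card]; norm_num) orderOf_z orderOf_t zt
      card_czt h h1 h4

theorem iso {p : ℕ} (hp : p.Prime) (h7 : 7 ≤ p) (hd : p ∣ Nat.card Spor.Fi24') (hsq : ¬ p ^ 2 ∣ Nat.card Spor.Fi24')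
    (hG : Nat.card Spor.Fi24' ≠ p)
    (hC : ∀ g : Spor.Fi24', orderOf g = p → Nat.card (centralizer ({g} : Set Spor.Fi24')) = p)
    {χ : IrrCharacter Spor.Fi24'} {x : Spor.Fi24'} (h : _root_.Cfsg.Agent.H732.VZ.One χ x) (h4 : 4 ≤ cent x) :
    charDegree (χ : Spor.Fi24' → ℂ) % p = 1 ∨ charDegree (χ : Spor.Fi24' → ℂ) % p = p - 1 ∨
      (p ∣ charDegree (χ : Spor.Fi24' → ℂ) ∧ orderOf x = p ∧ cent x = p) := by
  have hF : Fact p.Prime := ⟨hp⟩
  obtain ⟨z, hz⟩ := exists_prime_orderOf_dvd_card' p hd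
  rcases H849.OZ.iso hp h7 hsq hG hz (hC z hz) h h4 with h1 | h1 | h1
  · exact Or.inl h1
  · exact Or.inr (Or.inl h1)
  · exact Or.inr (Or.inr ⟨h1.1, h1.2.1, h1.2.2.1⟩)

theorem iso17 {χ : IrrCharacter Spor.Fi24'} {x : Spor.Fi24'} (h : _root_.Cfsg.Agent.H732.VZ.One χ x) (h4 : 4 ≤ cent x) :
    charDegree (χ : Spor.Fi24' → ℂ) % 17 = 1 ∨ charDegree (χ : Spor.Fi24' → ℂ) % 17 = 17 - 1 ∨
      (17 ∣ charDegree (χ : Spor.Fi24' → ℂ) ∧ orderOf x = 17 ∧ cent x = 17) :=
  iso (by norm_num) (by norm_num) (by rw [card]; norm_num) (by rw [card]; norm_num) (by rw [card]; norm_num)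
    (fun _ hg => H968.Tor.card_cent24 (by norm_num) (by norm_num) (fun _ hR => (H256.Sep.FiData.data17 hR).1) hg) h h4

theorem iso23 {χ : IrrCharacter Spor.Fi24'} {x : Spor.Fi24'} (h : _root_.Cfsg.Agent.H732.VZ.One χ x) (h4 : 4 ≤ cent x) :
    charDegree (χ : Spor.Fi24' → ℂ) % 23 = 1 ∨ charDegree (χ : Spor.Fi24' → ℂ) % 23 = 23 - 1 ∨
      (23 ∣ charDegree (χ : Spor.Fi24' → ℂ) ∧ orderOf x = 23 ∧ cent x = 23) :=
  iso (by norm_num) (by norm_num) (by rw [card]; norm_num) (by rw [card]; norm_num) (by rw [card]; norm_num)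
    (fun _ hg => H968.Tor.card_cent24 (by norm_num) (by norm_num) (fun _ hR => (H256.Sep.FiData.data23 hR).1) hg) h h4

theorem iso29 {χ : IrrCharacter Spor.Fi24'} {x : Spor.Fi24'} (h : _root_.Cfsg.Agent.H732.VZ.One χ x) (h4 : 4 ≤ cent x) :
    charDegree (χ : Spor.Fi24' → ℂ) % 29 = 1 ∨ charDegree (χ : Spor.Fi24' → ℂ) % 29 = 29 - 1 ∨
      (29 ∣ charDegree (χ : Spor.Fi24' → ℂ) ∧ orderOf x = 29 ∧ cent x = 29) :=
  iso (by norm_num) (by norm_num) (by rw [card]; norm_num) (by rw [card]; norm_num) (by rw [card]; norm_num)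
    (fun _ hg => H968.Tor.card_cent29 hg) h h4

/-- **No irreducible character of `Fi24'` has exactly one class of zeros.** -/
theorem none {χ : IrrCharacter Spor.Fi24'} {x : Spor.Fi24'} (h : _root_.Cfsg.Agent.H732.VZ.One χ x) : False := by
  have h4 : 4 ≤ cent x := four_le_cent h (by rw [card]; norm_num) (by rw [card]; norm_num)
  have i17 := iso17 h h4
  have i23 := iso23 h h4
  have i29 := iso29 h h4
  have i13 := mod13 h h4
  have hiso : ∀ r ∈ [29, 23, 17, 13], charDegree (χ : Spor.Fi24' → ℂ) % r = 0 ∨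
      charDegree (χ : Spor.Fi24' → ℂ) % r = 1 ∨ charDegree (χ : Spor.Fi24' → ℂ) % r = r - 1 := by
    intro r hr
    simp only [List.mem_cons, List.not_mem_nil, or_false] at hr
    rcases hr with rfl | rfl | rfl | rfl
    · rcases i29 with h1 | h1 | h1
      exacts [Or.inr (Or.inl h1), Or.inr (Or.inr h1), Or.inl (Nat.mod_eq_zero_of_dvd h1.1)]
    · rcases i23 with h1 | h1 | h1
      exacts [Or.inr (Or.inl h1), Or.inr (Or.inr h1), Or.inl (Nat.mod_eq_zero_of_dvd h1.1)]
    · rcases i17 with h1 | h1 | h1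
      exacts [Or.inr (Or.inl h1), Or.inr (Or.inr h1), Or.inl (Nat.mod_eq_zero_of_dvd h1.1)]
    · exact Or.inr i13
  have hm := H849.OZ.Sieve.mem_of_fast h card (l := fl) (L := [(29, 0), (23, 0), (17, 1), (13, 0), (11, 1), (7, 2),
    (5, 1), (3, 15), (2, 20)]) (by decide +kernel) fl_prime (by decide +kernel) (by decide +kernel)
    (by norm_num : 0 < 4) h4 hiso (P := fun _ => true) rfl (M := 1255205709190661721292800 / 4 + 2) le_rfl
    (D := [690923520, 37902090240]) (by decide +kernel)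
  have h17 : 17 ∣ charDegree (χ : Spor.Fi24' → ℂ) ∧ 3 ∣ charDegree (χ : Spor.Fi24' → ℂ) := by
    simp only [List.mem_cons, List.not_mem_nil, or_false] at hm
    rcases hm with h1 | h1
    · rw [h1]; norm_num
    · rw [h1]; norm_num
  have hx : orderOf x = 17 ∧ cent x = 17 := by
    have h0 := Nat.mod_eq_zero_of_dvd h17.1
    rcases i17 with h1 | h1 | h1
    · omega
    · omega
    · exact h1.2
  have hne : ¬ IsConj x y := by
    intro hc
    obtain ⟨n, hn⟩ := orderOf_y
    have h1 := orderOf_eq_of_conj hc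
    rw [hx.1, hn] at h1
    have h2 : 17 ∣ 3 ^ n := ⟨1, by rw [mul_one, h1]⟩
    have h3 := (Nat.prime_dvd_prime_iff_eq (by norm_num) Nat.prime_three).1
      ((by norm_num : Nat.Prime 17).dvd_of_dvd_pow h2)
    omega
  have h5 := H849.OZ.one_prime h Nat.prime_three h17.2 orderOf_y rational_y hne
  have h6 : cent y ≤ 81 := card_cy
  rw [hx.2] at h5
  omega

end

end Cfsg.Agent.H593.OZ.Fi24

namespace Cfsg.Agent.H593.OZ

universe u

/-- **`Fi24'`.** -/
theorem row_fi24 {S : Type u} [Group S] [Finite S] (hs : IsSimpleGroup S) (h : Spor.IsoFi24' S) :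
    Cfsg.Agent.H730.OZ.Row S := by
  obtain ⟨e⟩ := h
  have hfin : Finite Spor.Fi24' := Finite.of_equiv _ e.toEquiv
  have hsimple : IsSimpleGroup Spor.Fi24' := e.symm.isSimpleGroup
  exact H730.OZ.Row.congr e (row_of fun χ x hx => Fi24.none hx)

end Cfsg.Agent.H593.OZ
end

private theorem dce_7f0424f41b6e : _root_.True := by
  try have : _root_.True := by simp only [_root_.Cfsg.Agent.H593.OZ.Fi24.fl.eq_1]
  try have : _root_.True := by simp only [_root_.Cfsg.Agent.H446.OZ.Ru.l.eq_1]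
  try have : _root_.True := by simp only [_root_.Cfsg.Agent.H490.OZ.Sixteen.chkAll.eq_3]
  try have : _root_.True := by simp only [_root_.Cfsg.Agent.H849.OZ.Sieve.pw.eq_1]
  try have : _root_.True := by simp only [_root_.Cfsg.Agent.H604.OZ.cent.eq_1]
  try have : _root_.True := by simp only [_root_.Cfsg.Agent.H490.OZ.Sixteen.chkAll.eq_2]
  try have : _root_.True := by simp only [_root_.Cfsg.Agent.H490.OZ.Sixteen.chkAll.eq_def]
  try have : _root_.True := by simp only [_root_.Cfsg.Agent.H490.OZ.Sixteen.chkAll.eq_1]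
  try have : _root_.True := by simp only [_root_.Cfsg.Agent.H490.OZ.Sixteen.lv.eq_1]
  try have : _root_.True := by simp only [_root_.Cfsg.Agent.H849.OZ.Sieve.pw.eq_def]
  try have : _root_.True := by simp only [_root_.Cfsg.Agent.H849.OZ.Sieve.pw.eq_2]
  try have : _root_.True := by simp only [_root_.Cfsg.Agent.H849.OZ.Sieve.red.eq_1]
  exact _root_.True.intro
end
end
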